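import Cfsg.Agent.Lib.PrimeDim.Basic
import Mathlib.GroupTheory.Solvable

/-!
A perfect minimal non-scalar normal subgroup in prime dimension: absolutely irreducible and simple modulo
scalars.
-/

set_option autoImplicit false

namespace Cfsg.Agent.PrimeDim

open scoped Matrix MatrixGroups commutatorElement

variable {r : ℕ} {F : Type*} [Field F]

theorem solvable_sup {G : Type*} [Group G] {A B : Subgroup G} [A.Normal] (hA : Group.IsSolvable A)
    (hB : Group.IsSolvable B) : Group.IsSolvable ↥(A ⊔ B : Subgroup G) := by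
  haveI := hA
  haveI := hB
  let q : ↥(A ⊔ B : Subgroup G) →* (↥(A ⊔ B : Subgroup G) ⧸ A.subgroupOf (A ⊔ B)) := QuotientGroup.mk' _
  have hs : Function.Surjective (q.comp (Subgroup.inclusion (le_sup_right : B ≤ A ⊔ B))) := by
    intro t
    obtain ⟨⟨g, hg⟩, rfl⟩ := QuotientGroup.mk'_surjective _ t
    obtain ⟨a, ha, b, hb, rfl⟩ := Subgroup.mem_sup_of_normal_left.1 hg
    refine ⟨⟨b, hb⟩, QuotientGroup.eq.2 ?_⟩
    rw [Subgroup.mem_subgroupOf]
    show b⁻¹ * (a * b) ∈ A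
    simpa [mul_assoc] using Subgroup.Normal.conj_mem (inferInstance : A.Normal) a ha b⁻¹
  haveI : Group.IsSolvable (↥(A ⊔ B : Subgroup G) ⧸ A.subgroupOf (A ⊔ B)) := solvable_of_surjective hs
  exact solvable_of_ker_le_range (Subgroup.inclusion (le_sup_left : A ≤ A ⊔ B)) q (by
    intro t ht
    rw [QuotientGroup.ker_mk', Subgroup.mem_subgroupOf] at ht
    exact ⟨⟨t, ht⟩, rfl⟩)

theorem solvable_finset_sup {G : Type*} [Group G] {κ : Type*} (s : Finset κ) (M : κ → Subgroup G)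
    (hn : ∀ i, (M i).Normal) (hs : ∀ i, Group.IsSolvable (M i)) : Group.IsSolvable ↥(s.sup M) := by
  classical
  induction s using Finset.induction with
  | empty => rw [Finset.sup_empty]; infer_instance
  | insert a s ha ih =>
    rw [Finset.sup_insert]
    haveI := hn a
    exact solvable_sup (hs a) ih

theorem minimal_normal_solvable_false {H P M : Subgroup (GL (Fin r) F)} [Finite F]
    (hPH : P ≤ H) (hperf : ⁅P, P⁆ = P) (hPn : ∀ g ∈ H, ∀ x ∈ P, g * x * g⁻¹ ∈ P)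
    (hPns : ¬ P ≤ Cfsg.Geo.scalars (Fin r) F)
    (hmin : ∀ R : Subgroup (GL (Fin r) F), R ≤ P → (∀ g ∈ H, ∀ x ∈ R, g * x * g⁻¹ ∈ R) →
      ¬ R ≤ Cfsg.Geo.scalars (Fin r) F → R = P)
    (hMP : M ≤ P) (hMn : ∀ g ∈ P, ∀ x ∈ M, g * x * g⁻¹ ∈ M) (hMns : ¬ M ≤ Cfsg.Geo.scalars (Fin r) F)
    (hsol : Group.IsSolvable M) : False := by
  classical
  haveI := hsol
  let conjM : H → Subgroup (GL (Fin r) F) := fun h => M.map (MulAut.conj (h : GL (Fin r) F)).toMonoidHom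
  have hle : ∀ h, conjM h ≤ P := by
    rintro h _ ⟨x, hx, rfl⟩
    exact hPn h h.2 x (hMP hx)
  have hn : ∀ h : H, ((conjM h).subgroupOf P).Normal := fun h => ⟨fun t ht g => by
    rw [Subgroup.mem_subgroupOf] at ht ⊢
    obtain ⟨x, hx, hx'⟩ := ht
    refine ⟨((h : GL (Fin r) F)⁻¹ * g * h) * x * ((h : GL (Fin r) F)⁻¹ * g * h)⁻¹,
      hMn _ (by simpa using hPn _ (H.inv_mem h.2) g g.2) x hx, ?_⟩
    simp only [Subgroup.coe_mul, InvMemClass.coe_inv, ← hx', MulEquiv.coe_toMonoidHom, MulAut.conj_apply]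
    group⟩
  have hs : ∀ h : H, Group.IsSolvable ((conjM h).subgroupOf P) := fun h => by
    haveI : Group.IsSolvable (conjM h) :=
      solvable_of_surjective (f := (MulAut.conj (h : GL (Fin r) F)).toMonoidHom.subgroupMap M)
        (MonoidHom.subgroupMap_surjective _ _)
    exact solvable_of_surjective (f := (Subgroup.subgroupOfEquivOfLe (hle h)).symm.toMonoidHom)
      (Subgroup.subgroupOfEquivOfLe (hle h)).symm.surjective
  haveI : Fintype H := Fintype.ofFinite H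
  set S : Subgroup P := Finset.univ.sup fun h : H => (conjM h).subgroupOf P with hS
  haveI hSsol : Group.IsSolvable S := solvable_finset_sup _ _ hn hs
  set S' : Subgroup (GL (Fin r) F) := S.map P.subtype with hS'
  have hS'e : S' = ⨆ h : H, conjM h := by
    rw [hS', hS, Finset.sup_eq_iSup]
    simp only [Finset.mem_univ, iSup_pos, Subgroup.map_iSup]
    exact iSup_congr fun h => Subgroup.map_subgroupOf_eq_of_le (hle h)
  have hS'n : ∀ g ∈ H, ∀ x ∈ S', g * x * g⁻¹ ∈ S' := by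
    intro g hg x hx
    rw [hS'e] at hx ⊢
    have h1 : g * x * g⁻¹ ∈ (⨆ h : H, conjM h).map (MulAut.conj g).toMonoidHom := ⟨x, hx, rfl⟩
    rw [Subgroup.map_iSup] at h1
    refine (iSup_le fun h => ?_ : _ ≤ ⨆ h : H, conjM h) h1
    refine le_trans (le_of_eq ?_) (le_iSup conjM (⟨g, hg⟩ * h))
    show Subgroup.map _ (Subgroup.map _ M) = Subgroup.map _ M
    rw [Subgroup.map_map]
    congr 1
    refine MonoidHom.ext fun t => ?_
    simp [mul_assoc]
  have hMS : M ≤ S' := by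
    rw [hS'e]
    refine le_trans (fun x hx => ?_) (le_iSup conjM 1)
    exact ⟨x, hx, by simp⟩
  have hS'P : S' = P :=
    hmin S' (by rw [hS'e]; exact iSup_le hle) hS'n fun h => hMns (hMS.trans h)
  have hStop : S = ⊤ := by
    refine eq_top_iff.2 fun t _ => ?_
    have ht : (t : GL (Fin r) F) ∈ S' := by rw [hS'P]; exact t.2
    obtain ⟨s, hs', e⟩ := ht
    exact (Subtype.ext e : s = t) ▸ hs'
  haveI hPsol : Group.IsSolvable P := by
    rw [hStop] at hSsol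
    exact solvable_of_surjective (f := (Subgroup.topEquiv (G := ↥P)).toMonoidHom) Subgroup.topEquiv.surjective
  have hPne : Nontrivial P := by
    rw [Subgroup.nontrivial_iff_ne_bot]
    exact fun e => hPns (e ▸ bot_le)
  have hlt := Group.IsSolvable.commutator_lt_top_of_nontrivial P
  refine hlt.ne (eq_top_iff.2 fun t _ => ?_)
  have ht : (t : GL (Fin r) F) ∈ ⁅P, P⁆ := by rw [hperf]; exact t.2
  rw [← Subgroup.map_subtype_commutator] at ht
  obtain ⟨s, hs', e⟩ := ht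
  exact (Subtype.ext e : s = t) ▸ hs'

variable [Finite F]

/-- The core. -/
theorem residual_core (hr : r.Prime) {H P : Subgroup (GL (Fin r) F)} (hH : Irr H) (hPH : P ≤ H)
    (hperf : ⁅P, P⁆ = P) (hPn : ∀ g ∈ H, ∀ x ∈ P, g * x * g⁻¹ ∈ P)
    (hPns : ¬ P ≤ Cfsg.Geo.scalars (Fin r) F)
    (hmin : ∀ R : Subgroup (GL (Fin r) F), R ≤ P → (∀ g ∈ H, ∀ x ∈ R, g * x * g⁻¹ ∈ R) →
      ¬ R ≤ Cfsg.Geo.scalars (Fin r) F → R = P) :
    Irr P ∧ ScalarCommutant P ∧
      IsSimpleGroup (P ⧸ (Cfsg.Geo.scalars (Fin r) F).subgroupOf P) ∧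
      ¬ IsMulCommutative (P ⧸ (Cfsg.Geo.scalars (Fin r) F).subgroupOf P) ∧
      ∀ h ∈ H, (∀ x ∈ P, h * x * h⁻¹ * x⁻¹ ∈ Cfsg.Geo.scalars (Fin r) F) → h ∈ Cfsg.Geo.scalars (Fin r) F := by
  classical
  have hncP : ∀ {Q : Subgroup (GL (Fin r) F)}, ⁅Q, Q⁆ = Q → ¬ Q ≤ Cfsg.Geo.scalars (Fin r) F →
      ¬ ∀ x ∈ Q, ∀ y ∈ Q, x * y = y * x := by
    intro Q hQ hQs hcom
    refine hQs ?_
    rw [← hQ, Subgroup.commutator_le]
    intro a ha b hb
    rw [show ⁅a, b⁆ = 1 by rw [commutatorElement_def, hcom a ha b hb]; group]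
    exact one_mem _
  obtain ⟨hirr, hsc⟩ := abs_of_noncomm hr hH hPn (hncP hperf hPns)
  have hcentral : ∀ h, (∀ x ∈ P, h * x * h⁻¹ * x⁻¹ ∈ Cfsg.Geo.scalars (Fin r) F) → h ∈ Cfsg.Geo.scalars (Fin r) F :=
    fun h hx => mem_scalars_of_commutant hr.pos hsc (commute_perfect hperf hx)
  -- the only non-scalar subgroup normalised by `P` is `P`
  have hsimple : ∀ M : Subgroup (GL (Fin r) F), M ≤ P → (∀ g ∈ P, ∀ x ∈ M, g * x * g⁻¹ ∈ M) →
      ¬ M ≤ Cfsg.Geo.scalars (Fin r) F → M = P := by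
    intro M hM hMn hMs
    haveI : Finite (GL (Fin r) F) := inferInstance
    let Good : ℕ → Prop := fun n => ∃ M0 : Subgroup (GL (Fin r) F), Nat.card M0 = n ∧ M0 ≤ M ∧
      (∀ g ∈ P, ∀ x ∈ M0, g * x * g⁻¹ ∈ M0) ∧ ¬ M0 ≤ Cfsg.Geo.scalars (Fin r) F
    have hex : ∃ n, Good n := ⟨_, M, rfl, le_rfl, hMn, hMs⟩
    obtain ⟨M0, hcard0, hM0M, hM0n, hM0s⟩ := Nat.find_spec hex
    have hmin0 : ∀ R : Subgroup (GL (Fin r) F), R ≤ M0 → (∀ g ∈ P, ∀ x ∈ R, g * x * g⁻¹ ∈ R) →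
        ¬ R ≤ Cfsg.Geo.scalars (Fin r) F → R = M0 := fun R hR hRn hRs =>
      Subgroup.eq_of_le_of_card_ge hR (by rw [hcard0]; exact Nat.find_min' hex ⟨R, rfl, hR.trans hM0M, hRn, hRs⟩)
    have hM0P : M0 ≤ P := hM0M.trans hM
    have hDn : ∀ g ∈ P, ∀ x ∈ ⁅M0, M0⁆, g * x * g⁻¹ ∈ ⁅M0, M0⁆ := by
      intro g hg x hx
      have h1 : g * x * g⁻¹ ∈ ⁅M0, M0⁆.map (MulAut.conj g).toMonoidHom := ⟨x, hx, rfl⟩
      rw [Subgroup.map_commutator] at h1
      have hle : M0.map (MulAut.conj g).toMonoidHom ≤ M0 := by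
        rintro _ ⟨t, ht, rfl⟩
        exact hM0n g hg t ht
      exact Subgroup.commutator_mono hle hle h1
    have hperf0 : ⁅M0, M0⁆ = M0 := by
      refine hmin0 _ (Subgroup.commutator_le.2 fun a ha b hb => ?_) hDn fun hD => ?_
      · exact M0.mul_mem (M0.mul_mem (M0.mul_mem ha hb) (M0.inv_mem ha)) (M0.inv_mem hb)
      · refine minimal_normal_solvable_false hPH hperf hPn hPns hmin hM0P hM0n hM0s ?_
        haveI : Group.IsSolvable ↥((⁅M0, M0⁆).subgroupOf M0) := by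
          refine Group.isSolvable_of_comm fun a b => Subtype.ext (Subtype.ext ?_)
          exact scalar_comm (hD (Subgroup.mem_subgroupOf.1 a.2)) _
        refine solvable_of_ker_le_range ((⁅M0, M0⁆).subgroupOf M0).subtype (Abelianization.of (G := M0)) ?_
        intro t ht
        rw [Abelianization.ker_of] at ht
        refine ⟨⟨t, ?_⟩, rfl⟩
        rw [Subgroup.mem_subgroupOf, ← Subgroup.map_subtype_commutator]
        exact ⟨t, ht, rfl⟩
    obtain ⟨hirr0, hsc0⟩ := abs_of_noncomm hr hirr hM0n (hncP hperf0 hM0s)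
    have hH0 : ∀ g ∈ H, ∀ x ∈ M0, g * x * g⁻¹ ∈ M0 := by
      intro g hg x hx
      set M1 := M0.map (MulAut.conj g).toMonoidHom with hM1
      have hM1n : ∀ t ∈ P, ∀ y ∈ M1, t * y * t⁻¹ ∈ M1 := by
        rintro t ht _ ⟨y, hy, rfl⟩
        refine ⟨(g⁻¹ * t * g) * y * (g⁻¹ * t * g)⁻¹, hM0n _ (by simpa using hPn g⁻¹ (H.inv_mem hg) t ht) y hy, ?_⟩
        simp only [MulEquiv.coe_toMonoidHom, MulAut.conj_apply]
        group
      have hInf : ∀ t ∈ P, ∀ y ∈ M0 ⊓ M1, t * y * t⁻¹ ∈ M0 ⊓ M1 := fun t ht y hy =>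
        ⟨hM0n t ht y hy.1, hM1n t ht y hy.2⟩
      by_cases hsi : M0 ⊓ M1 ≤ Cfsg.Geo.scalars (Fin r) F
      · exfalso
        refine hM0s fun y hy => ?_
        have hy1 : ∀ z ∈ M0, g * y * g⁻¹ * z * (g * y * g⁻¹)⁻¹ * z⁻¹ ∈ Cfsg.Geo.scalars (Fin r) F := by
          intro z hz
          have hyM : g * y * g⁻¹ ∈ M1 := ⟨y, hy, rfl⟩
          have hzP : z ∈ P := hM0P hz
          have hyP : g * y * g⁻¹ ∈ P := hPn g hg y (hM0P hy)
          refine hsi ⟨M0.mul_mem (hM0n _ hyP z hz) (M0.inv_mem hz), ?_⟩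
          have := M1.mul_mem hyM (hM1n z hzP _ (M1.inv_mem hyM))
          simpa [mul_assoc] using this
        have hgy : g * y * g⁻¹ ∈ Cfsg.Geo.scalars (Fin r) F :=
          mem_scalars_of_commutant hr.pos hsc0 (commute_perfect hperf0 hy1)
        have := Subgroup.Normal.conj_mem (Cfsg.Geo.scalars_normal) _ hgy g⁻¹
        simpa [mul_assoc] using this
      · have heq := hmin0 _ inf_le_left hInf hsi
        have hle : M0 ≤ M1 := inf_eq_left.1 heq
        have hcard1 : Nat.card M1 = Nat.card M0 := by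
          rw [hM1]
          exact (Nat.card_congr (M0.equivMapOfInjective _ (MulEquiv.injective _)).toEquiv).symm
        have heq1 : M0 = M1 := Subgroup.eq_of_le_of_card_ge hle hcard1.le
        rw [heq1]
        exact ⟨x, hx, rfl⟩
    exact le_antisymm hM ((hmin M0 hM0P hH0 hM0s) ▸ hM0M)
  set Z := (Cfsg.Geo.scalars (Fin r) F).subgroupOf P with hZdef
  have hncQ : ¬ IsMulCommutative (P ⧸ Z) := by
    intro hc
    refine hPns ?_
    rw [← hperf, Subgroup.commutator_le]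
    intro a ha b hb
    have h1 := hc.is_comm.comm (QuotientGroup.mk' Z (⟨a, ha⟩ : P)) (QuotientGroup.mk' Z ⟨b, hb⟩)
    rw [← map_mul, ← map_mul, QuotientGroup.mk'_eq_mk'] at h1
    obtain ⟨z, hz, hz'⟩ := h1
    have hzs : (z : GL (Fin r) F) ∈ Cfsg.Geo.scalars (Fin r) F := Subgroup.mem_subgroupOf.1 hz
    have h2 : a * b * (z : GL (Fin r) F) = b * a := congrArg Subtype.val hz'
    have : ⁅a, b⁆ = (z : GL (Fin r) F)⁻¹ := by
      rw [commutatorElement_def]
      calc a * b * a⁻¹ * b⁻¹ = a * b * (b * a)⁻¹ := by group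
        _ = a * b * (a * b * (z : GL (Fin r) F))⁻¹ := by rw [h2]
        _ = a * b * (z : GL (Fin r) F)⁻¹ * (a * b)⁻¹ := by group
        _ = (z : GL (Fin r) F)⁻¹ := by
          rw [← scalar_comm ((Cfsg.Geo.scalars (Fin r) F).inv_mem hzs) (a * b)]; group
    rw [this]
    exact inv_mem hzs
  refine ⟨hirr, hsc, ?_, hncQ, fun h _ hx => hcentral h hx⟩
  haveI : Nontrivial (P ⧸ Z) := by
    rw [← not_subsingleton_iff_nontrivial]
    intro hsub
    exact hncQ ⟨⟨fun a b => Subsingleton.elim _ _⟩⟩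
  refine { eq_bot_or_eq_top_of_normal := fun K hK => ?_ }
  set M := (K.comap (QuotientGroup.mk' Z)).map P.subtype with hMdef
  have hMn : ∀ g ∈ P, ∀ x ∈ M, g * x * g⁻¹ ∈ M := by
    rintro g hg _ ⟨x, hx, rfl⟩
    have hKc : (K.comap (QuotientGroup.mk' Z)).Normal := hK.comap (QuotientGroup.mk' Z)
    let g' : P := ⟨g, hg⟩
    refine Subgroup.mem_map.2 ⟨g' * x * g'⁻¹, hKc.conj_mem x hx g', ?_⟩
    rw [map_mul, map_mul, map_inv]
    rfl
  by_cases hMs : M ≤ Cfsg.Geo.scalars (Fin r) F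
  · left
    refine eq_bot_iff.2 fun t ht => ?_
    obtain ⟨x, rfl⟩ := QuotientGroup.mk'_surjective Z t
    exact (QuotientGroup.eq_one_iff x).2 (Subgroup.mem_subgroupOf.2 (hMs ⟨x, ht, rfl⟩))
  · right
    have := hsimple M (Subgroup.map_subtype_le _) hMn hMs
    refine eq_top_iff.2 fun t _ => ?_
    obtain ⟨x, rfl⟩ := QuotientGroup.mk'_surjective Z t
    have hx : (x : GL (Fin r) F) ∈ M := by rw [this]; exact x.2
    obtain ⟨y, hy, e⟩ := hx
    exact (Subtype.ext e : y = x) ▸ hy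

end Cfsg.Agent.PrimeDim
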