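import Cfsg.Agent.Lib.PrimeDim.Realise

/-!
Invariant forms of monomial groups over the fields with three and four elements.
-/

set_option autoImplicit false

namespace Cfsg.Agent.PrimeDim

open scoped Matrix MatrixGroups
open Module

variable {r : ℕ} {F : Type*} [Field F]

local notation "V" => Fin r → F

local notation "Mat" => Matrix (Fin r) (Fin r) F

/-- The form which is standard in a basis. -/
noncomputable def stdForm (σ : F ≃+* F) (b : Basis (Fin r) F (Fin r → F)) (u v : Fin r → F) : F :=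
  ∑ i, b.repr u i * σ (b.repr v i)

theorem stdForm_sesq (σ : F ≃+* F) (b : Basis (Fin r) F V) : IsSesq σ (stdForm σ b) where
  add_left x y v := by simp [stdForm, add_mul, Finset.sum_add_distrib]
  smul_left c x v := by simp [stdForm, Finset.mul_sum, mul_assoc]
  add_right v x y := by simp [stdForm, mul_add, Finset.sum_add_distrib]
  smul_right c v x := by simp [stdForm, Finset.mul_sum, mul_left_comm]

theorem stdForm_nondeg (σ : F ≃+* F) (b : Basis (Fin r) F V) : Cfsg.Geo.IsNondegenerateForm (stdForm σ b) := by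
  classical
  intro v hv
  obtain ⟨i, hi⟩ : ∃ i, b.repr v i ≠ 0 := by
    by_contra hc
    push Not at hc
    exact hv (b.ext_elem fun k => by simp [hc k])
  constructor
  · refine ⟨b i, ?_⟩
    simpa [stdForm, Finsupp.single_apply] using hi
  · refine ⟨b i, ?_⟩
    simpa [stdForm, Finsupp.single_apply, apply_ite σ] using hi

theorem stdForm_unitary {σ : F ≃+* F} (hne : σ ≠ RingEquiv.refl F) (hinv : ∀ a, σ (σ a) = a)
    (b : Basis (Fin r) F V) : Cfsg.Geo.IsUnitaryForm σ (stdForm σ b) where
  ne_refl := hne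
  involutive := hinv
  add_left := (stdForm_sesq σ b).add_left
  smul_left := (stdForm_sesq σ b).smul_left
  herm v w := by simp [stdForm, map_sum, hinv, mul_comm]
  nondegenerate := stdForm_nondeg σ b

theorem repr_monomial {b : Basis (Fin r) F V} {g : GL (Fin r) F} {π : Equiv.Perm (Fin r)} {c : Fin r → F}
    (h : ∀ i, (g : Mat) *ᵥ b i = c i • b (π i)) (v : V) (i : Fin r) :
    b.repr ((g : Mat) *ᵥ v) (π i) = c i * b.repr v i := by
  classical
  conv_lhs => rw [← b.sum_repr v, Matrix.mulVec_sum]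
  simp [Matrix.mulVec_smul, h, Finsupp.single_apply, π.injective.eq_iff, mul_comm]

theorem monomial_fixes (σ : F ≃+* F) {b : Basis (Fin r) F V} {g : GL (Fin r) F} {π : Equiv.Perm (Fin r)}
    {c : Fin r → F} (h : ∀ i, (g : Mat) *ᵥ b i = c i • b (π i)) (hc : ∀ i, c i * σ (c i) = 1) (u v : V) :
    stdForm σ b ((g : Mat) *ᵥ u) ((g : Mat) *ᵥ v) = stdForm σ b u v := by
  unfold stdForm
  rw [← Equiv.sum_comp π]
  refine Finset.sum_congr rfl fun i _ => ?_
  rw [repr_monomial h, repr_monomial h, map_mul]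
  linear_combination (b.repr u i * σ (b.repr v i)) * hc i

theorem monomial_coeff_ne_zero {b : Basis (Fin r) F V} {g : GL (Fin r) F} {π : Equiv.Perm (Fin r)}
    {c : Fin r → F} (h : ∀ i, (g : Mat) *ᵥ b i = c i • b (π i)) (i : Fin r) : c i ≠ 0 := by
  intro e
  have h1 := congrArg (((g⁻¹ : GL (Fin r) F) : Mat) *ᵥ ·) (h i)
  simp [e, TransvMax.inv_mulVec_mulVec] at h1
  exact b.ne_zero i h1

theorem pow_card_sub_one' [Fintype F] {a : F} (ha : a ≠ 0) : a ^ (Fintype.card F - 1) = 1 :=
  FiniteField.pow_card_sub_one_eq_one a ha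

/-- The quadratic form which is a sum of squares in a basis. -/
theorem exists_quad [Fintype F] (h3 : Fintype.card F = 3) (b : Basis (Fin r) F V) :
    ∃ Q : V → F, Cfsg.Geo.IsNondegenerateQuadraticForm Q ∧
      ∀ (g : GL (Fin r) F) (π : Equiv.Perm (Fin r)) (c : Fin r → F),
        (∀ i, (g : Mat) *ᵥ b i = c i • b (π i)) → g ∈ Cfsg.Geo.quadSimilarityGroup Q := by
  have hS := stdForm_sesq (RingEquiv.refl F) b
  have h2 : (2 : F) ≠ 0 := by
    intro e
    obtain ⟨p, hp⟩ := CharP.exists F
    haveI := hp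
    have hd : p ∣ 2 := (CharP.cast_eq_zero_iff F p 2).1 (by exact_mod_cast e)
    have hc : ((3 : ℕ) : F) = 0 := by rw [← h3]; exact Nat.cast_card_eq_zero F
    have hd' : p ∣ 3 := (CharP.cast_eq_zero_iff F p 3).1 hc
    have hp1 : p ∣ 1 := (Nat.dvd_add_right hd).1 (by simpa using hd')
    exact CharP.char_ne_one F p (Nat.dvd_one.1 hp1)
  refine ⟨fun v => stdForm (RingEquiv.refl F) b v v, ⟨fun c v => ?_, ?_, ?_⟩, fun g π c hg => ⟨1, fun v => ?_⟩⟩
  · rw [hS.smul_left, hS.smul_right, RingEquiv.refl_apply]; ring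
  · have key : ∀ u v, QuadraticMap.polar (fun v => stdForm (RingEquiv.refl F) b v v) u v =
        2 * stdForm (RingEquiv.refl F) b u v := by
      intro u v
      have hsymm : stdForm (RingEquiv.refl F) b v u = stdForm (RingEquiv.refl F) b u v := by
        simp [stdForm, mul_comm]
      simp only [QuadraticMap.polar, hS.add_left, hS.add_right]
      rw [hsymm]; ring
    constructor <;> intros <;> simp only [key, hS.add_left, hS.add_right, hS.smul_left, hS.smul_right,
      RingEquiv.refl_apply] <;> ring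
  · intro v hv
    obtain ⟨⟨x, hx⟩, ⟨y, hy⟩⟩ := stdForm_nondeg (RingEquiv.refl F) b v hv
    have key : ∀ u v, QuadraticMap.polar (fun v => stdForm (RingEquiv.refl F) b v v) u v =
        2 * stdForm (RingEquiv.refl F) b u v := by
      intro u v
      have hsymm : stdForm (RingEquiv.refl F) b v u = stdForm (RingEquiv.refl F) b u v := by
        simp [stdForm, mul_comm]
      simp only [QuadraticMap.polar, hS.add_left, hS.add_right]
      rw [hsymm]; ring
    exact ⟨⟨x, by rw [key]; exact mul_ne_zero h2 hx⟩, ⟨y, by rw [key]; exact mul_ne_zero h2 hy⟩⟩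
  · rw [Units.val_one, one_mul]
    exact monomial_fixes _ hg (fun i => by
      rw [RingEquiv.refl_apply, ← pow_two, show 2 = Fintype.card F - 1 by rw [h3]]
      exact pow_card_sub_one' (monomial_coeff_ne_zero hg i)) v v

theorem exists_unitary_four [Fintype F] (h4 : Fintype.card F = 4) (b : Basis (Fin r) F V) :
    ∃ (σ : F ≃+* F) (f : V → V → F), Cfsg.Geo.IsUnitaryForm σ f ∧
      ∀ (g : GL (Fin r) F) (π : Equiv.Perm (Fin r)) (c : Fin r → F),
        (∀ i, (g : Mat) *ᵥ b i = c i • b (π i)) → g ∈ Cfsg.Geo.similarityGroup f := by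
  haveI : CharP F 2 := by
    haveI : Fact (Nat.Prime 2) := ⟨Nat.prime_two⟩
    obtain ⟨p, hp⟩ := CharP.exists F
    haveI := hp
    have hc : ((4 : ℕ) : F) = 0 := by rw [← h4]; exact Nat.cast_card_eq_zero F
    have hd : p ∣ 2 ^ 2 := (CharP.cast_eq_zero_iff F p 4).1 hc
    have hpp : p.Prime := (CharP.char_is_prime_or_zero F p).resolve_right (CharP.char_ne_zero_of_finite F p)
    rwa [← (Nat.prime_dvd_prime_iff_eq hpp Nat.prime_two).1 (hpp.dvd_of_dvd_pow hd)]
  haveI : Fact (Nat.Prime 2) := ⟨Nat.prime_two⟩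
  have hsq : ∀ a : F, (a ^ 2) ^ 2 = a := fun a => by
    rw [← pow_mul, show 2 * 2 = Fintype.card F from h4.symm, FiniteField.pow_card]
  let σ : F ≃+* F := RingEquiv.ofBijective (frobenius F 2) (bijective_frobenius F 2)
  have hσ : ∀ a, σ a = a ^ 2 := fun a => rfl
  have hne : σ ≠ RingEquiv.refl F := by
    intro e
    classical
    have hall : ∀ a : F, a = 0 ∨ a = 1 := fun a => by
      have h1 : a ^ 2 = a := by rw [← hσ, e]; rfl
      have : a * (a - 1) = 0 := by rw [mul_sub, mul_one, ← pow_two, h1, sub_self]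
      exact (mul_eq_zero.1 this).imp id sub_eq_zero.1
    have : (Finset.univ : Finset F) ⊆ {0, 1} := fun a _ => by rcases hall a with rfl | rfl <;> simp
    have h1 := Finset.card_le_card this
    rw [Finset.card_univ, h4] at h1
    have := h1.trans (Finset.card_insert_le _ _)
    simp at this
  refine ⟨σ, stdForm σ b, stdForm_unitary hne (fun a => by rw [hσ, hσ, hsq]) b, fun g π c hg => ⟨1, fun u v => ?_⟩⟩
  rw [Units.val_one, one_mul]
  exact monomial_fixes σ hg (fun i => by
    rw [hσ, ← pow_succ', show 2 + 1 = Fintype.card F - 1 by rw [h4]]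
    exact pow_card_sub_one' (monomial_coeff_ne_zero hg i)) u v

theorem two_diag_scalar [Fintype F] (hr : 0 < r) (h2 : Fintype.card F = 2) {b : Basis (Fin r) F V} {g : GL (Fin r) F}
    (h : ∀ i, ∃ c : F, (g : Mat) *ᵥ b i = c • b i) : g ∈ Cfsg.Geo.scalars (Fin r) F := by
  choose c hc using h
  have h1 : ∀ i, c i = 1 := fun i => by
    have := pow_card_sub_one' (monomial_coeff_ne_zero (π := 1) (c := c) hc i)
    rwa [h2, pow_one] at this
  refine mem_scalars_of_val hr (c := 1) (Matrix.toLin'.injective (b.ext fun i => ?_))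
  rw [Matrix.toLin'_apply, Matrix.toLin'_apply, Matrix.smul_mulVec, Matrix.one_mulVec, hc, h1, one_smul]

end Cfsg.Agent.PrimeDim
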