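import Cfsg.Agent.Lib.PrimeDim.Forms
import Mathlib.LinearAlgebra.Eigenspace.Basic

/-!
A minimal non-scalar normal subgroup of class two in prime dimension `r` is extraspecial of order `r³`
and exponent `r`, monomial over the field of the `r`-th roots of unity.
-/

set_option autoImplicit false

namespace Cfsg.Agent.PrimeDim

open scoped Matrix MatrixGroups
open Module

variable {r : ℕ} {F : Type*} [Field F]

local notation "V" => Fin r → F

local notation "Mat" => Matrix (Fin r) (Fin r) F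

theorem pow_mul_swap {G : Type*} [Group G] {x y z : G} (hzx : z * x = x * z) (hzy : z * y = y * z)
    (h : y * x = z * (x * y)) (k : ℕ) : y ^ k * x = z ^ k * (x * y ^ k) := by
  induction k with
  | zero => simp
  | succ k ih =>
    have hyk : z * y ^ k = y ^ k * z := (Commute.pow_right (show Commute z y from hzy) k).eq
    calc y ^ (k + 1) * x = y ^ k * (y * x) := by rw [pow_succ, mul_assoc]
      _ = z * (y ^ k * x) * y := by rw [h, ← mul_assoc, ← hyk, mul_assoc, mul_assoc, mul_assoc]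
      _ = z ^ (k + 1) * (x * y ^ (k + 1)) := by
        rw [ih, pow_succ' z, pow_succ y]; group

theorem mul_pow_swap {G : Type*} [Group G] {x y z : G} (hzx : z * x = x * z) (hzy : z * y = y * z)
    (h : y * x = z * (x * y)) (k : ℕ) : (x * y) ^ k = z ^ k.choose 2 * (x ^ k * y ^ k) := by
  induction k with
  | zero => simp
  | succ k ih =>
    have hx : z ^ k * x ^ k = x ^ k * z ^ k := (Commute.pow_pow (show Commute z x from hzx) k k).eq
    calc (x * y) ^ (k + 1) = z ^ k.choose 2 * (x ^ k * y ^ k) * (x * y) := by rw [pow_succ, ih]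
      _ = z ^ k.choose 2 * (x ^ k * (y ^ k * x) * y) := by group
      _ = z ^ k.choose 2 * (x ^ k * z ^ k * (x * y ^ k * y)) := by rw [pow_mul_swap hzx hzy h k]; group
      _ = z ^ k.choose 2 * z ^ k * (x ^ (k + 1) * y ^ (k + 1)) := by
        rw [← hx, pow_succ x, pow_succ y]; group
      _ = z ^ (k + 1).choose 2 * (x ^ (k + 1) * y ^ (k + 1)) := by
        rw [← pow_add, Nat.choose_succ_succ' k 1, Nat.choose_one_right, add_comm]

theorem conj_scalar_pow {x y z : GL (Fin r) F} (hz : z ∈ Cfsg.Geo.scalars (Fin r) F) (h : x * y * x⁻¹ = z * y)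
    (n : ℕ) : x * y ^ n * x⁻¹ = z ^ n * y ^ n := by
  rw [← conj_pow, h, Commute.mul_pow (scalar_comm hz y)]

theorem scalar_pow_eq_one [NeZero r] {x y z : GL (Fin r) F} (hz : z ∈ Cfsg.Geo.scalars (Fin r) F)
    (h : x * y * x⁻¹ = z * y) : z ^ r = 1 := by
  obtain ⟨c, hc⟩ := (Cfsg.Geo.mem_scalars_iff z).1 hz
  have h1 := congrArg Matrix.GeneralLinearGroup.det h
  rw [map_mul, map_mul, map_inv, mul_inv_cancel_comm, map_mul] at h1
  have h2 : Matrix.GeneralLinearGroup.det z = 1 := right_eq_mul.1 h1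
  have h3 := congrArg Units.val h2
  rw [Matrix.GeneralLinearGroup.val_det_apply, hc, Matrix.det_smul, Matrix.det_one, mul_one, Fintype.card_fin,
    Units.val_one] at h3
  exact Units.ext (by rw [Units.val_pow_eq_pow_val, hc, smul_pow, one_pow, h3, one_smul, Units.val_one])

/-- What is known about such a subgroup. -/
structure Heis (N : Subgroup (GL (Fin r) F)) : Prop where
  symp : Cfsg.Geo.IsSymplecticTypeGroup r N
  irr : Irr N
  comm : ScalarCommutant N
  card_center : Nat.card (Subgroup.center N) = r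
  card : Nat.card N = r ^ 3
  char_ne : (r : F) ≠ 0
  realise : ∃ (ω : F) (b : Basis (Fin r) F V), ω ^ r = 1 ∧ ω ≠ 1 ∧
    ∀ g ∈ N, ∃ (π : Equiv.Perm (Fin r)) (a : Fin r → ℕ), ∀ i, (g : Mat) *ᵥ b i = ω ^ a i • b (π i)

theorem heis [Finite F] (hr : r.Prime) (h3 : 3 ≤ r) {H N : Subgroup (GL (Fin r) F)} (hH : Irr H) (hNH : N ≤ H)
    (hnorm : ∀ g ∈ H, ∀ x ∈ N, g * x * g⁻¹ ∈ N)
    (hAb : ∀ A : Subgroup (GL (Fin r) F), A ≤ H → (∀ g ∈ H, ∀ x ∈ A, g * x * g⁻¹ ∈ A) →
      (∀ x ∈ A, ∀ y ∈ A, x * y = y * x) → A ≤ Cfsg.Geo.scalars (Fin r) F)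
    (hmin : ∀ R : Subgroup (GL (Fin r) F), R ≤ N → (∀ g ∈ H, ∀ x ∈ R, g * x * g⁻¹ ∈ R) →
      ¬ R ≤ Cfsg.Geo.scalars (Fin r) F → R = N)
    (hns : ¬ N ≤ Cfsg.Geo.scalars (Fin r) F)
    (hc2 : ∀ x ∈ N, ∀ y ∈ N, x * y * x⁻¹ * y⁻¹ ∈ Cfsg.Geo.scalars (Fin r) F) : Heis N := by
  classical
  haveI : NeZero r := ⟨hr.ne_zero⟩
  haveI : Fact r.Prime := ⟨hr⟩
  have hodd : Odd r := hr.odd_of_ne_two (by omega)
  have hnc : ¬ ∀ x ∈ N, ∀ y ∈ N, x * y = y * x := fun h => hns (hAb N hNH hnorm h)
  obtain ⟨hirr, hsc⟩ := abs_of_noncomm hr hH hnorm hnc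
  -- commutation constants
  have hcr : ∀ x ∈ N, ∀ y ∈ N, (x * y * x⁻¹ * y⁻¹) ^ r = 1 := fun x hx y hy =>
    scalar_pow_eq_one (x := x) (y := y) (hc2 x hx y hy) (by group)
  have hpow_comm : ∀ x ∈ N, ∀ y ∈ N, x * y ^ r = y ^ r * x := by
    intro x hx y hy
    have h1 := conj_scalar_pow (x := x) (y := y) (hc2 x hx y hy) (by group) r
    rw [hcr x hx y hy, one_mul] at h1
    calc x * y ^ r = x * y ^ r * x⁻¹ * x := by group
      _ = y ^ r * x := by rw [h1]
  have hpow_scalar : ∀ x ∈ N, x ^ r ∈ Cfsg.Geo.scalars (Fin r) F := fun x hx =>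
    mem_scalars_of_commutant hr.pos hsc fun y hy => (hpow_comm y hy x hx).symm
  have hmul : ∀ x ∈ N, ∀ y ∈ N, (x * y) ^ r = x ^ r * y ^ r := by
    intro x hx y hy
    have hs := hc2 y hy x hx
    rw [mul_pow_swap (z := y * x * y⁻¹ * x⁻¹) (scalar_comm hs x) (scalar_comm hs y) (by group) r]
    obtain ⟨k, hk⟩ := hr.dvd_choose_self (k := 2) (by norm_num) (by omega)
    rw [hk, pow_mul, hcr y hy x hx, one_pow, one_mul]
  -- exponent r
  let R : Subgroup (GL (Fin r) F) :=
    { carrier := {x | x ∈ N ∧ x ^ r = 1}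
      mul_mem' := fun {a b} ha hb => ⟨N.mul_mem ha.1 hb.1, by rw [hmul a ha.1 b hb.1, ha.2, hb.2, one_mul]⟩
      one_mem' := ⟨N.one_mem, one_pow r⟩
      inv_mem' := fun {a} ha => ⟨N.inv_mem ha.1, by rw [inv_pow, ha.2, inv_one]⟩ }
  have hRnorm : ∀ g ∈ H, ∀ x ∈ R, g * x * g⁻¹ ∈ R := fun g hg x hx =>
    ⟨hnorm g hg x hx.1, by rw [conj_pow, hx.2, mul_one, mul_inv_cancel]⟩
  have hexp : ∀ x ∈ N, x ^ r = 1 := by
    by_cases hR : R ≤ Cfsg.Geo.scalars (Fin r) F
    · exfalso
      refine hnc ?_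
      let ψ : N →* GL (Fin r) F :=
        { toFun := fun x => (x : GL (Fin r) F) ^ r
          map_one' := one_pow r
          map_mul' := fun a b => hmul _ a.2 _ b.2 }
      haveI : IsCyclic ψ.range := by
        have hle : ψ.range ≤ Cfsg.Geo.scalars (Fin r) F := by
          rintro _ ⟨x, rfl⟩; exact hpow_scalar x x.2
        haveI : IsCyclic (Cfsg.Geo.scalars (Fin r) F) :=
          isCyclic_of_surjective (Units.map (Matrix.scalar (Fin r) : F →+* Mat).toMonoidHom).rangeRestrict
            (MonoidHom.rangeRestrict_surjective _)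
        exact Subgroup.isCyclic_of_le hle
      obtain ⟨⟨_, x0, rfl⟩, hx0⟩ := IsCyclic.exists_generator (α := ψ.range)
      have hdec : ∀ x ∈ N, ∃ (k : ℤ) (s : GL (Fin r) F), s ∈ Cfsg.Geo.scalars (Fin r) F ∧ x = (x0 : GL (Fin r) F) ^ k * s := by
        intro x hx
        obtain ⟨k, hk⟩ := hx0 ⟨ψ ⟨x, hx⟩, ⟨_, rfl⟩⟩
        have hk' : ψ x0 ^ k = ψ ⟨x, hx⟩ := congrArg Subtype.val hk
        refine ⟨k, ((x0 : GL (Fin r) F) ^ k)⁻¹ * x, hR ⟨N.mul_mem (N.inv_mem (N.zpow_mem x0.2 k)) hx, ?_⟩, by group⟩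
        rw [← map_zpow] at hk'
        have h1 : ψ ((x0 ^ k)⁻¹ * ⟨x, hx⟩) = 1 := by rw [map_mul, map_inv, hk', inv_mul_cancel]
        exact h1
      intro x hx y hy
      obtain ⟨k, s, hs, rfl⟩ := hdec x hx
      obtain ⟨l, t, ht, rfl⟩ := hdec y hy
      have hkl : Commute ((x0 : GL (Fin r) F) ^ k) ((x0 : GL (Fin r) F) ^ l) :=
        (Commute.refl _).zpow_zpow k l
      have hS : ∀ g : GL (Fin r) F, Commute s g := fun g => scalar_comm hs g
      have hT : ∀ g : GL (Fin r) F, Commute t g := fun g => scalar_comm ht g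
      exact (Commute.mul_left (Commute.mul_right hkl (hT _).symm) (Commute.mul_right (hS _) (hS _))).eq
    · have hRN := hmin R (fun x hx => hx.1) hRnorm hR
      intro x hx
      rw [← hRN] at hx
      exact hx.2
  -- p-group and exponent
  have hpg : IsPGroup r N := fun g => ⟨1, Subtype.ext (by simpa using hexp _ g.2)⟩
  push Not at hnc
  obtain ⟨x, hx, y, hy, hxy⟩ := hnc
  have hexpo : Monoid.exponent N = r := by
    have hd : Monoid.exponent N ∣ r := Monoid.exponent_dvd_of_forall_pow_eq_one fun g => Subtype.ext (by simpa using hexp _ g.2)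
    refine ((Nat.dvd_prime hr).1 hd).resolve_left fun e => hxy ?_
    have h1 := Monoid.pow_exponent_eq_one (⟨x, hx⟩ : N)
    rw [e, pow_one] at h1
    rw [show x = 1 from congrArg Subtype.val h1, one_mul, mul_one]
  -- the constant
  set z : GL (Fin r) F := x * y * x⁻¹ * y⁻¹ with hzdef
  have hz : z ∈ Cfsg.Geo.scalars (Fin r) F := hc2 x hx y hy
  obtain ⟨w, hw⟩ := (Cfsg.Geo.mem_scalars_iff z).1 hz
  have hzr : z ^ r = 1 := hcr x hx y hy
  have hwr : (w : F) ^ r = 1 := by
    have h1 := congrArg (fun g : GL (Fin r) F => (g : Mat) 0 0) hzr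
    simpa [Units.val_pow_eq_pow_val, hw, smul_pow] using h1
  have hw1 : (w : F) ≠ 1 := fun e => hxy (by
    have : z = 1 := Units.ext (by rw [hw, e, one_smul, Units.val_one])
    calc x * y = z * y * x := by rw [hzdef]; group
      _ = y * x := by rw [this, one_mul])
  have hord : orderOf (w : F) = r := orderOf_eq_prime hwr hw1
  have hrF : (r : F) ≠ 0 := fun e => hw1 (by
    haveI : CharP F r := (CharP.charP_iff_prime_eq_zero hr).2 e
    exact sub_eq_zero.1 (eq_zero_of_pow_eq_zero (n := r) (by rw [sub_pow_char, hwr, one_pow, sub_self])))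
  -- an eigenvector of x
  have hxr : (x : Mat) ^ r = 1 := by rw [← Units.val_pow_eq_pow_val, hexp x hx, Units.val_one]
  obtain ⟨μ, v, hμ, hv0, hv⟩ : ∃ (μ : F) (v : V), (∃ k : ℕ, μ = (w : F) ^ k) ∧ v ≠ 0 ∧ (x : Mat) *ᵥ v = μ • v := by
    let u : V := Pi.single 0 1
    let S : ℕ → V := fun k => ∑ j ∈ Finset.range r, ((w : F) ^ k)⁻¹ ^ j • ((x : Mat) ^ j *ᵥ u)
    have hS : ∀ k, (x : Mat) *ᵥ S k = (w : F) ^ k • S k := by
      intro k
      have hA : ((w : F) ^ k) ≠ 0 := pow_ne_zero _ w.ne_zero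
      let f : ℕ → V := fun j => ((w : F) ^ k)⁻¹ ^ j • ((x : Mat) ^ j *ᵥ u)
      have hf : ∀ j, (x : Mat) *ᵥ f j = (w : F) ^ k • f (j + 1) := fun j => by
        simp only [f]
        rw [Matrix.mulVec_smul, Matrix.mulVec_mulVec, ← pow_succ', smul_smul, pow_succ' ((w : F) ^ k)⁻¹, ← mul_assoc,
          mul_inv_cancel₀ hA, one_mul]
      have hcyc : ∑ j ∈ Finset.range r, f (j + 1) = ∑ j ∈ Finset.range r, f j := by
        have h1 := Finset.sum_range_succ' f r
        rw [Finset.sum_range_succ] at h1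
        have hfr : f r = f 0 := by
          simp only [f]
          rw [hxr, inv_pow, ← pow_mul, mul_comm, pow_mul, hwr, one_pow, inv_one, pow_zero, pow_zero]
        rw [hfr] at h1
        exact (add_right_cancel h1).symm
      show (x : Mat) *ᵥ ∑ j ∈ Finset.range r, f j = (w : F) ^ k • ∑ j ∈ Finset.range r, f j
      rw [Matrix.mulVec_sum, Finset.sum_congr rfl fun j _ => hf j, ← Finset.smul_sum, hcyc]
    have hsum : ∑ k ∈ Finset.range r, S k = (r : F) • u := by
      rw [Finset.sum_comm, Finset.sum_eq_single 0]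
      · simp [Nat.cast_smul_eq_nsmul F]
      · intro j hj hj0
        rw [← Finset.sum_smul]
        have hne : ((w : F)⁻¹) ^ j ≠ 1 := by
          intro e
          rw [inv_pow, inv_eq_one, ← orderOf_dvd_iff_pow_eq_one, hord] at e
          have := Nat.le_of_dvd (Nat.pos_of_ne_zero hj0) e
          have := Finset.mem_range.1 hj
          omega
        have : ∑ k ∈ Finset.range r, ((w : F) ^ k)⁻¹ ^ j = 0 := by
          have h1 := geom_sum_mul (((w : F)⁻¹) ^ j) r
          rw [← pow_mul, mul_comm j r, pow_mul, inv_pow ((w : F)) r, hwr, inv_one, one_pow, sub_self] at h1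
          rw [← (mul_eq_zero.1 h1).resolve_right (sub_ne_zero.2 hne)]
          refine Finset.sum_congr rfl fun k _ => ?_
          rw [← inv_pow, ← pow_mul, ← pow_mul, mul_comm]
        rw [this, zero_smul]
      · intro h
        exact absurd (Finset.mem_range.2 hr.pos) h
    obtain ⟨k, -, hk⟩ := Finset.exists_ne_zero_of_sum_ne_zero (s := Finset.range r) (f := S) (by
      rw [hsum, smul_ne_zero_iff]
      exact ⟨hrF, fun e => by simpa [u] using congrFun e 0⟩)
    exact ⟨_, S k, ⟨k, rfl⟩, hk, hS k⟩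
  obtain ⟨k0, rfl⟩ := hμ
  let e : Fin r → V := fun i => ((y ^ (i : ℕ) : GL (Fin r) F) : Mat) *ᵥ v
  have hxe : ∀ i : Fin r, (x : Mat) *ᵥ e i = (w : F) ^ ((i : ℕ) + k0) • e i := by
    intro i
    have h1 := conj_scalar_pow (x := x) (y := y) hz (by rw [hzdef]; group) (i : ℕ)
    have h2 : x * y ^ (i : ℕ) = z ^ (i : ℕ) * (y ^ (i : ℕ) * x) := by
      rw [← mul_assoc, ← h1]; group
    show (x : Mat) *ᵥ (((y ^ (i : ℕ) : GL (Fin r) F) : Mat) *ᵥ v) = _
    rw [Matrix.mulVec_mulVec, ← Units.val_mul, h2, Units.val_mul, Units.val_mul, ← Matrix.mulVec_mulVec,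
      ← Matrix.mulVec_mulVec, hv, Matrix.mulVec_smul, Units.val_pow_eq_pow_val z, hw, smul_pow, one_pow,
      Matrix.smul_mulVec, Matrix.one_mulVec, smul_smul, ← pow_add]
  have he0 : ∀ i, e i ≠ 0 := fun i h0 => hv0 (by
    have h1 := congrArg (((y ^ (i : ℕ))⁻¹ : GL (Fin r) F).val *ᵥ ·) h0
    simpa only [e, TransvMax.inv_mulVec_mulVec, Matrix.mulVec_zero] using h1)
  have hinjw : ∀ i j : Fin r, (w : F) ^ ((i : ℕ) + k0) = (w : F) ^ ((j : ℕ) + k0) → i = j := by
    intro i j h
    rw [pow_add, pow_add] at h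
    have h1 := mul_right_cancel₀ (pow_ne_zero _ w.ne_zero) h
    exact Fin.ext (pow_injOn_Iio_orderOf (x := (w : F)) (by rw [hord]; exact i.2) (by rw [hord]; exact j.2) h1)
  have hli : LinearIndependent F e :=
    Module.End.eigenvectors_linearIndependent' (Matrix.toLin' (x : Mat)) (fun i : Fin r => (w : F) ^ ((i : ℕ) + k0))
      (fun i j h => hinjw i j h) e fun i => ⟨Module.End.mem_eigenspace_iff.2 (by rw [Matrix.toLin'_apply]; exact hxe i), he0 i⟩
  let b : Basis (Fin r) F V := basisOfLinearIndependentOfCardEqFinrank hli (by simp)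
  have hb : ∀ i, b i = e i := fun i => by simp [b]
  have hyr : y ^ r = 1 := hexp y hy
  have hye : ∀ i : Fin r, (y : Mat) *ᵥ b i = b (i + 1) := by
    intro i
    rw [hb, hb]
    show (y : Mat) *ᵥ (((y ^ (i : ℕ) : GL (Fin r) F) : Mat) *ᵥ v) = ((y ^ ((i + 1 : Fin r) : ℕ) : GL (Fin r) F) : Mat) *ᵥ v
    rw [Matrix.mulVec_mulVec, ← Units.val_mul, ← pow_succ']
    congr 2
    rw [Fin.val_add, Fin.val_one', Nat.add_mod_mod]
    exact (pow_eq_pow_mod _ hyr)
  -- the centre
  have hcen : ∀ g : N, g ∈ Subgroup.center N ↔ (g : GL (Fin r) F) ∈ Cfsg.Geo.scalars (Fin r) F := by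
    intro g
    rw [Subgroup.mem_center_iff]
    constructor
    · exact fun h => mem_scalars_of_commutant hr.pos hsc fun a ha => (congrArg Subtype.val (h ⟨a, ha⟩)).symm
    · exact fun h a => Subtype.ext (scalar_comm h _).symm
  have hcc : Nat.card (Subgroup.center N) = r := by
    have hle : Nat.card (Subgroup.center N) ≤ r := by
      have hex : ∀ g : Subgroup.center N, ∃ c : F, ((g : N) : GL (Fin r) F).val = c • (1 : Mat) := fun g => by
        obtain ⟨c, hc⟩ := (Cfsg.Geo.mem_scalars_iff _).1 ((hcen g).1 g.2)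
        exact ⟨c, hc⟩
      choose c hc using hex
      have hmem : ∀ g, c g ∈ (Polynomial.nthRootsFinset r (1 : F)) := by
        intro g
        rw [Polynomial.mem_nthRootsFinset hr.pos]
        have h1 := congrArg (fun t : GL (Fin r) F => (t : Mat) 0 0) (hexp _ (g : N).2)
        simpa [Units.val_pow_eq_pow_val, hc, smul_pow] using h1
      have h1 := Nat.card_le_card_of_injective (fun g => (⟨c g, hmem g⟩ : Polynomial.nthRootsFinset r (1 : F)))
        fun g g' h => Subtype.ext (Subtype.ext (Units.ext (by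
          rw [hc, hc, show c g = c g' from congrArg Subtype.val h])))
      refine h1.trans ?_
      rw [Nat.card_eq_fintype_card, Fintype.card_coe, Polynomial.nthRootsFinset_def]
      exact (Multiset.toFinset_card_le _).trans (Polynomial.card_nthRoots r 1)
    obtain ⟨n, hn⟩ := IsPGroup.iff_card.1 (hpg.to_subgroup (Subgroup.center N))
    rcases n with _ | n
    · exfalso
      have hzN : z ∈ N := by rw [hzdef]; exact N.mul_mem (N.mul_mem (N.mul_mem hx hy) (N.inv_mem hx)) (N.inv_mem hy)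
      have h1 := (Subgroup.card_eq_one.1 (by rw [hn, pow_zero]) : Subgroup.center N = ⊥)
      have h2 : (⟨z, hzN⟩ : N) ∈ Subgroup.center N := (hcen _).2 hz
      rw [h1, Subgroup.mem_bot] at h2
      have h3 : z = 1 := congrArg Subtype.val h2
      exact hw1 (by
        have h4 := congrArg (fun t : GL (Fin r) F => (t : Mat) 0 0) h3
        simpa [hw] using h4)
    · have : r ≤ r ^ (n + 1) := Nat.le_self_pow n.succ_ne_zero r
      omega
  -- the order
  have hidx : (Subgroup.center N).index ≤ r * r := by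
    let g : N ⧸ Subgroup.center N → N := Quotient.out
    have hex : ∀ (q : N ⧸ Subgroup.center N) (a : N), ∃ c : F,
        ((a : GL (Fin r) F) * (g q : GL (Fin r) F) * (a : GL (Fin r) F)⁻¹ * (g q : GL (Fin r) F)⁻¹).val = c • (1 : Mat) :=
      fun q a => by
        obtain ⟨c, hc⟩ := (Cfsg.Geo.mem_scalars_iff _).1 (hc2 _ a.2 _ (g q).2)
        exact ⟨c, hc⟩
    choose c hc using hex
    have hconj : ∀ q (a : N), ((a : GL (Fin r) F) : Mat) * ((g q : GL (Fin r) F) : Mat) *
        (((a : GL (Fin r) F)⁻¹ : GL (Fin r) F) : Mat) = c q a • ((g q : GL (Fin r) F) : Mat) := by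
      intro q a
      have h1 := congrArg (fun M : Mat => M * ((g q : GL (Fin r) F) : Mat)) (hc q a)
      simpa only [Units.val_mul, smul_mul_assoc, one_mul, mul_assoc, Units.inv_mul, mul_one] using h1
    have hmon : ∀ q, c q 1 = 1 ∧ ∀ a a', c q (a * a') = c q a * c q a' := by
      intro q
      refine ⟨?_, fun a a' => ?_⟩
      · have h1 := hc q 1
        simpa using (congrFun (congrFun h1 0) 0).symm
      · have h1 := hconj q (a * a')
        rw [Subgroup.coe_mul, mul_inv_rev, Units.val_mul, Units.val_mul] at h1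
        have h2 : ((a : GL (Fin r) F) : Mat) * (((a' : GL (Fin r) F) : Mat) * ((g q : GL (Fin r) F) : Mat) *
            (((a' : GL (Fin r) F)⁻¹ : GL (Fin r) F) : Mat)) * (((a : GL (Fin r) F)⁻¹ : GL (Fin r) F) : Mat) =
            (c q a' * c q a) • ((g q : GL (Fin r) F) : Mat) := by
          rw [hconj q a', Matrix.mul_smul, Matrix.smul_mul, hconj q a, smul_smul]
        simp only [mul_assoc] at h1 h2
        rw [h1, mul_comm (c q a')] at h2
        exact smul_left_injective F (g q : GL (Fin r) F).ne_zero h2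
    let χ : N ⧸ Subgroup.center N → (N →* F) := fun q =>
      { toFun := c q, map_one' := (hmon q).1, map_mul' := (hmon q).2 }
    have hχ : Function.Injective χ := by
      intro p q h
      rw [← Quotient.out_eq p, ← Quotient.out_eq q]
      refine QuotientGroup.eq.2 ((hcen _).2 (mem_scalars_of_commutant hr.pos hsc fun a ha => ?_))
      have h1 := hconj p ⟨a, ha⟩
      have h2 := hconj q ⟨a, ha⟩
      have hpq : c p ⟨a, ha⟩ = c q ⟨a, ha⟩ := DFunLike.congr_fun h ⟨a, ha⟩
      set d := c p ⟨a, ha⟩ with hd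
      have hd0 : d ≠ 0 := by
        intro e
        rw [e, zero_smul] at h1
        exact (a * (g p : GL (Fin r) F) * a⁻¹).ne_zero (by simpa [Units.val_mul] using h1)
      rw [← hpq] at h2
      set s : GL (Fin r) F := Units.map (Matrix.scalar (Fin r) : F →+* Mat).toMonoidHom (Units.mk0 d hd0)
      have hs : s ∈ Cfsg.Geo.scalars (Fin r) F := ⟨_, rfl⟩
      have hsv : (s : Mat) = d • (1 : Mat) := by simp [s, Matrix.smul_one_eq_diagonal]
      have e1 : a * (g p : GL (Fin r) F) * a⁻¹ = s * g p := Units.ext (by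
        rw [Units.val_mul, Units.val_mul, Units.val_mul, h1, hsv, smul_mul_assoc, one_mul])
      have e2 : a * (g q : GL (Fin r) F) * a⁻¹ = s * g q := Units.ext (by
        rw [Units.val_mul, Units.val_mul, Units.val_mul, h2, hsv, smul_mul_assoc, one_mul])
      have e3 : a * ((g p : GL (Fin r) F)⁻¹ * g q) * a⁻¹ = (g p : GL (Fin r) F)⁻¹ * g q := by
        calc a * ((g p : GL (Fin r) F)⁻¹ * g q) * a⁻¹ =
            (a * (g p : GL (Fin r) F) * a⁻¹)⁻¹ * (a * g q * a⁻¹) := by group
          _ = _ := by rw [e1, e2]; group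
      show ((g p : GL (Fin r) F)⁻¹ * g q) * a = a * ((g p : GL (Fin r) F)⁻¹ * g q)
      calc (g p : GL (Fin r) F)⁻¹ * g q * a = a * ((g p : GL (Fin r) F)⁻¹ * g q) * a⁻¹ * a := by rw [e3]
        _ = _ := by group
    have hlia : LinearIndependent F fun q => ((g q : GL (Fin r) F) : Mat) := by
      haveI : Fintype (N ⧸ Subgroup.center N) := Fintype.ofFinite _
      rw [Fintype.linearIndependent_iff]
      intro l hl q
      have h1 : ∀ a : N, ∑ p, l p • c p a • ((g p : GL (Fin r) F) : Mat) = 0 := by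
        intro a
        have h2 := congrArg (fun M : Mat => ((a : GL (Fin r) F) : Mat) * M * (((a : GL (Fin r) F)⁻¹ : GL (Fin r) F) : Mat)) hl
        simp only [Finset.mul_sum, Finset.sum_mul, Matrix.mul_smul, Matrix.smul_mul, mul_zero, zero_mul, hconj] at h2
        exact h2
      obtain ⟨i, j, hij⟩ : ∃ i j, ((g q : GL (Fin r) F) : Mat) i j ≠ 0 := by
        by_contra hcon
        push Not at hcon
        exact (g q : GL (Fin r) F).ne_zero (Matrix.ext hcon)
      have hlc := (linearIndependent_monoidHom N F).comp χ hχ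
      rw [Fintype.linearIndependent_iff] at hlc
      have := hlc (fun p => l p * ((g p : GL (Fin r) F) : Mat) i j) (by
        funext a
        have h2 := congrFun (congrFun (h1 a) i) j
        simp only [Matrix.sum_apply, Matrix.smul_apply, smul_eq_mul, Matrix.zero_apply] at h2
        simp only [Finset.sum_apply, Pi.smul_apply, Function.comp_apply, smul_eq_mul, Pi.zero_apply]
        rw [← h2]
        refine Finset.sum_congr rfl fun p _ => ?_
        show _ * c p a = _
        ring) q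
      exact (mul_eq_zero.1 this).resolve_right hij
    haveI : Fintype (N ⧸ Subgroup.center N) := Fintype.ofFinite _
    have h1 := hlia.fintype_card_le_finrank
    rw [Module.finrank_matrix, Fintype.card_fin, Module.finrank_self, mul_one] at h1
    rwa [Subgroup.index_eq_card, Nat.card_eq_fintype_card]
  have hcard : Nat.card N = r ^ 3 := by
    obtain ⟨n, hn⟩ := IsPGroup.iff_card.1 (hpg.to_quotient (Subgroup.center N))
    rw [← Subgroup.card_mul_index (Subgroup.center N), hcc, Subgroup.index_eq_card]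
    rw [Subgroup.index_eq_card] at hidx
    have hn2 : n = 2 := by
      have h1 : n ≤ 2 := by
        rw [hn, ← pow_two] at hidx
        exact (Nat.pow_le_pow_iff_right hr.one_lt).1 hidx
      by_contra hne
      have hle : n ≤ 1 := by omega
      haveI : IsCyclic (N ⧸ Subgroup.center N) := by
        rcases Nat.le_one_iff_eq_zero_or_eq_one.1 hle with rfl | rfl
        · haveI : Subsingleton (N ⧸ Subgroup.center N) := (Nat.card_eq_one_iff_unique.1 (by rw [hn, pow_zero])).1
          exact isCyclic_of_subsingleton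
        · exact isCyclic_of_prime_card (p := r) (by rw [hn, pow_one])
      have := commutative_of_cyclic_center_quotient (QuotientGroup.mk' (Subgroup.center N))
        (by rw [QuotientGroup.ker_mk']) ⟨x, hx⟩ ⟨y, hy⟩
      exact hxy (congrArg Subtype.val this)
    rw [hn, hn2]
    ring
  -- generation by the pair
  set C : Subgroup (GL (Fin r) F) := Subgroup.closure {x, y}
  have hCN : C ≤ N := (Subgroup.closure_le N).2 (by rintro t (rfl | rfl) <;> assumption)
  have hCeq : C = N := by
    refine Subgroup.eq_of_le_of_card_ge hCN ?_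
    have hdvd := Subgroup.card_dvd_of_le hCN
    rw [hcard] at hdvd ⊢
    obtain ⟨n, hn, hn'⟩ := (Nat.dvd_prime_pow hr).1 hdvd
    have hxC : x ∈ C := Subgroup.subset_closure (Or.inl rfl)
    have hyC : y ∈ C := Subgroup.subset_closure (Or.inr rfl)
    by_contra hlt
    have hn2 : n ≤ 2 := by
      rcases eq_or_lt_of_le hn with rfl | h
      · exact absurd hn'.ge hlt
      · omega
    refine hxy ?_
    suffices IsMulCommutative C from congrArg Subtype.val (this.is_comm.comm ⟨x, hxC⟩ ⟨y, hyC⟩)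
    rcases eq_or_lt_of_le hn2 with rfl | h
    · exact IsPGroup.isMulCommutative_of_card_eq_prime_sq hn'
    · haveI : IsCyclic C := by
        rcases Nat.le_one_iff_eq_zero_or_eq_one.1 (by omega : n ≤ 1) with rfl | rfl
        · haveI : Subsingleton C := (Nat.card_eq_one_iff_unique.1 (by rw [hn', pow_zero])).1
          exact isCyclic_of_subsingleton
        · exact isCyclic_of_prime_card (p := r) (by rw [hn', pow_one])
      exact inferInstance
  refine ⟨⟨hr, hpg, fun A hA hAc => ?_, ?_⟩, hirr, hsc, hcc, hcard, hrF, (w : F), b, hwr, hw1, ?_⟩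
  · have hAle : A ≤ Subgroup.center N := by
      intro a ha
      refine (hcen a).2 (hAb (A.map N.subtype) (fun t ht => ?_) (fun g hg t ht => ?_) ?_ ⟨a, ha, rfl⟩)
      · obtain ⟨t, -, rfl⟩ := ht
        exact hNH t.2
      · obtain ⟨t, ht, rfl⟩ := ht
        let φ : N ≃* N :=
          { toFun := fun u => ⟨g * u * g⁻¹, hnorm g hg u u.2⟩
            invFun := fun u => ⟨g⁻¹ * u * g, by simpa using hnorm g⁻¹ (H.inv_mem hg) u u.2⟩
            left_inv := fun u => Subtype.ext (by simp [mul_assoc])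
            right_inv := fun u => Subtype.ext (by simp [mul_assoc])
            map_mul' := fun u u' => Subtype.ext (by simp [mul_assoc]) }
        refine ⟨φ t, ?_, rfl⟩
        have := Subgroup.characteristic_iff_map_le.1 hA φ
        exact this ⟨t, ht, rfl⟩
      · rintro _ ⟨s, hs, rfl⟩ _ ⟨t, ht, rfl⟩
        exact congrArg (fun u : A => ((u : N) : GL (Fin r) F)) (hAc.is_comm.comm ⟨s, hs⟩ ⟨t, ht⟩)
    haveI : IsCyclic (Subgroup.center N) := isCyclic_of_prime_card hcc
    exact Subgroup.isCyclic_of_le hAle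
  · rw [hexpo, Nat.Coprime.gcd_eq_one (Nat.coprime_two_left.2 hodd), mul_one]
  · intro g hg
    rw [← hCeq] at hg
    induction hg using Subgroup.closure_induction with
    | mem t ht =>
      rcases ht with rfl | ht
      · exact ⟨1, fun i => (i : ℕ) + k0, fun i => by rw [hb, Equiv.Perm.one_apply, hb]; exact hxe i⟩
      · rw [Set.mem_singleton_iff] at ht
        subst ht
        exact ⟨Equiv.addRight 1, fun _ => 0, fun i => by rw [hye i, pow_zero, one_smul]; rfl⟩
    | one => exact ⟨1, fun _ => 0, fun i => by simp⟩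
    | mul s t _ _ hs ht =>
      obtain ⟨π, a, hs⟩ := hs
      obtain ⟨π', a', ht⟩ := ht
      refine ⟨π'.trans π, fun i => a' i + a (π' i), fun i => ?_⟩
      rw [Units.val_mul, ← Matrix.mulVec_mulVec, ht, Matrix.mulVec_smul, hs, smul_smul, pow_add]
      rfl
    | inv s _ hs =>
      obtain ⟨π, a, hs⟩ := hs
      refine ⟨π.symm, fun i => (r - 1) * a (π.symm i), fun i => ?_⟩
      have h1 := congrArg (((s⁻¹ : GL (Fin r) F) : Mat) *ᵥ ·) (hs (π.symm i))
      simp only [TransvMax.inv_mulVec_mulVec, Matrix.mulVec_smul, Equiv.apply_symm_apply] at h1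
      rw [h1, smul_smul, ← pow_add]
      have : (r - 1) * a (π.symm i) + a (π.symm i) = r * a (π.symm i) := by
        rw [← Nat.succ_mul, Nat.succ_eq_add_one, Nat.sub_add_cancel hr.pos]
      rw [this, pow_mul, hwr, one_pow, one_smul]

/-- Commutators in such a group are scalar. -/
theorem heis_comm_scalar [Finite F] {N : Subgroup (GL (Fin r) F)} (hN : Heis N) :
    ∀ x ∈ N, ∀ y ∈ N, x * y * x⁻¹ * y⁻¹ ∈ Cfsg.Geo.scalars (Fin r) F := by
  intro x hx y hy
  haveI : Fact r.Prime := ⟨hN.symp.prime⟩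
  have hq : Nat.card (N ⧸ Subgroup.center N) = r ^ 2 := by
    have h1 := Subgroup.card_mul_index (Subgroup.center N)
    rw [hN.card, hN.card_center, Subgroup.index_eq_card, show r ^ 3 = r * r ^ 2 by ring] at h1
    exact Nat.eq_of_mul_eq_mul_left hN.symp.prime.pos h1
  haveI : IsMulCommutative (N ⧸ Subgroup.center N) := IsPGroup.isMulCommutative_of_card_eq_prime_sq hq
  set c : N := ⟨x, hx⟩ * ⟨y, hy⟩ * (⟨x, hx⟩ : N)⁻¹ * (⟨y, hy⟩ : N)⁻¹ with hc
  have hmem : c ∈ Subgroup.center N := by
    rw [← QuotientGroup.eq_one_iff, hc, QuotientGroup.mk_mul, QuotientGroup.mk_mul, QuotientGroup.mk_mul,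
      QuotientGroup.mk_inv, QuotientGroup.mk_inv, mul_comm' ((⟨x, hx⟩ : N) : N ⧸ Subgroup.center N)]
    group
  exact mem_scalars_of_commutant hN.symp.prime.pos hN.comm fun a ha =>
    (congrArg Subtype.val (Subgroup.mem_center_iff.1 hmem ⟨a, ha⟩)).symm

end Cfsg.Agent.PrimeDim
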