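import Cfsg.Agent.Lib.PrimeDim.Abelian
import Cfsg.Agent.Lib.PrimeDim.Symp
import Cfsg.Agent.Lib.PrimeDim.Core
import Cfsg.Agent.Lib.PrimeDim.SmallField

/-!
Maximal subgroups of the special linear group of odd prime dimension: geometric or residual.
-/

set_option autoImplicit false

namespace Cfsg.Agent.PrimeDim

open scoped Matrix MatrixGroups commutatorElement
open Module

variable {r : ℕ} {F : Type*} [Field F] [Fintype F]

local notation "V" => Fin r → F

local notation "Mat" => Matrix (Fin r) (Fin r) F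

theorem eq_inf_of_le {H M : Subgroup (GL (Fin r) F)}
    (hH : Cfsg.Geo.IsMaximalIn (Cfsg.Geo.specialLinear (Fin r) F) H) (hle : H ≤ M)
    (hne : ¬ Cfsg.Geo.specialLinear (Fin r) F ≤ M) : H = M ⊓ Cfsg.Geo.specialLinear (Fin r) F := by
  rcases hH.2 (M ⊓ Cfsg.Geo.specialLinear (Fin r) F) (le_inf hle hH.1.le) inf_le_right with h | h
  · exact h.symm
  · exact absurd (inf_eq_right.1 h) hne

/-- The alternatives. -/
structure SympOption (H : Subgroup (GL (Fin r) F)) (p e : ℕ) : Prop where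
  prime : p.Prime
  char : CharP F p
  card : Fintype.card F = p ^ e
  pos : 0 < e
  odd : Odd e
  dvd : r ∣ p ^ e - 1
  minimal : ∀ d : ℕ, 0 < d → d < e → ¬ r ∣ p ^ d - 1
  data : ∃ R : Subgroup (GL (Fin r) F), Cfsg.Geo.IsLinearSymplecticTypeData r R ∧
    H = Cfsg.Geo.subgroupNormalizer R ⊓ Cfsg.Geo.specialLinear (Fin r) F

/-- The list for odd prime dimension. -/
def PrimeCases (H : Subgroup (GL (Fin r) F)) : Prop :=
  (∃ W : Submodule F V, W ≠ ⊥ ∧ W ≠ ⊤ ∧ H = Cfsg.Geo.subspaceStabilizer W ⊓ Cfsg.Geo.specialLinear (Fin r) F) ∨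
  (5 ≤ Fintype.card F ∧ ∃ D : Fin r → Submodule F V, Cfsg.Geo.IsMDecomposition 1 D ∧
    H = Cfsg.Geo.decompositionStabilizer D ⊓ Cfsg.Geo.specialLinear (Fin r) F) ∨
  (∃ K : Subalgebra F Mat, Cfsg.Geo.IsFieldSubalgebra r K ∧
    H = Cfsg.Geo.subalgebraNormalizer K ⊓ Cfsg.Geo.specialLinear (Fin r) F) ∨
  (∃ (F₀ : Subfield F) (l : ℕ) (P : GL (Fin r) F), l.Prime ∧ Fintype.card F = Nat.card F₀ ^ l ∧
    H = Cfsg.Geo.subfieldSubgroup F₀ P ⊓ Cfsg.Geo.specialLinear (Fin r) F) ∨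
  (∃ p e : ℕ, SympOption H p e) ∨
  (Odd (Fintype.card F) ∧ ∃ Q : V → F, Cfsg.Geo.IsNondegenerateQuadraticForm Q ∧
    H = Cfsg.Geo.quadSimilarityGroup Q ⊓ Cfsg.Geo.specialLinear (Fin r) F) ∨
  (∃ (σ : F ≃+* F) (f : V → V → F), Cfsg.Geo.IsUnitaryForm σ f ∧
    H = Cfsg.Geo.similarityGroup f ⊓ Cfsg.Geo.specialLinear (Fin r) F) ∨
  Cfsg.Geo.InLinearResidualClass H

variable {H : Subgroup (GL (Fin r) F)}

theorem subfield_case (hr3 : 3 ≤ r) (hH : Cfsg.Geo.IsMaximalIn (Cfsg.Geo.specialLinear (Fin r) F) H)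
    {N : Subgroup (GL (Fin r) F)} (hN : ScalarCommutant N) (hnorm : ∀ h ∈ H, ∀ x ∈ N, h * x * h⁻¹ ∈ N)
    (F₀ : Subfield F) (hF₀ : F₀ ≠ ⊤) (hreal : Cfsg.Geo.RealisableOver F₀ (Cfsg.Geo.matrixSet N)) :
    ∃ (F₁ : Subfield F) (l : ℕ) (P : GL (Fin r) F), l.Prime ∧ Fintype.card F = Nat.card F₁ ^ l ∧
      H = Cfsg.Geo.subfieldSubgroup F₁ P ⊓ Cfsg.Geo.specialLinear (Fin r) F := by
  haveI : NeZero r := ⟨by omega⟩
  obtain ⟨F₁, l, P, hl, hcard, hne, hle⟩ := le_subfield_prime hN hnorm F₀ hF₀ hreal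
  exact ⟨F₁, l, P, hl, hcard, eq_inf_of_le hH hle (sl_not_le_subfield hr3 hne P)⟩

theorem quad_case (hr : r.Prime) (hr3 : 3 ≤ r) (hH : Cfsg.Geo.IsMaximalIn (Cfsg.Geo.specialLinear (Fin r) F) H)
    {Q : V → F} (hQ : Cfsg.Geo.IsNondegenerateQuadraticForm Q) (hle : H ≤ Cfsg.Geo.quadSimilarityGroup Q) :
    Odd (Fintype.card F) ∧ ∃ Q : V → F, Cfsg.Geo.IsNondegenerateQuadraticForm Q ∧
      H = Cfsg.Geo.quadSimilarityGroup Q ⊓ Cfsg.Geo.specialLinear (Fin r) F := by
  have h2 := two_ne_zero_of_quad (hr.odd_of_ne_two (by omega)) hQ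
  refine ⟨?_, Q, hQ, eq_inf_of_le hH hle (sl_not_le_quad hr3 hQ)⟩
  refine Nat.odd_iff.2 (FiniteField.odd_card_of_char_ne_two fun e => h2 ?_)
  haveI := ringChar.charP F
  have := CharP.cast_eq_zero F (ringChar F)
  rw [e] at this
  exact_mod_cast this

theorem unitary_case (hr3 : 3 ≤ r) (hH : Cfsg.Geo.IsMaximalIn (Cfsg.Geo.specialLinear (Fin r) F) H)
    {σ : F ≃+* F} {f : V → V → F} (hf : Cfsg.Geo.IsUnitaryForm σ f) (hle : H ≤ Cfsg.Geo.similarityGroup f) :
    ∃ (σ : F ≃+* F) (f : V → V → F), Cfsg.Geo.IsUnitaryForm σ f ∧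
      H = Cfsg.Geo.similarityGroup f ⊓ Cfsg.Geo.specialLinear (Fin r) F :=
  ⟨σ, f, hf, eq_inf_of_le hH hle (sl_not_le_similarity hr3 (IsSesq.of_unitary hf) hf.nondegenerate)⟩

theorem exists_char_pow (F : Type*) [Field F] [Fintype F] :
    ∃ p e : ℕ, p.Prime ∧ CharP F p ∧ 0 < e ∧ Fintype.card F = p ^ e := by
  obtain ⟨p, hp⟩ := CharP.exists F
  haveI := hp
  obtain ⟨n, hn, hc⟩ := FiniteField.card F p
  exact ⟨p, n, hn, hp, n.pos, hc⟩

theorem not_le_normalizer (hr : r.Prime) (hr3 : 3 ≤ r) {N : Subgroup (GL (Fin r) F)} (hN : Heis N) :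
    ¬ Cfsg.Geo.specialLinear (Fin r) F ≤ Cfsg.Geo.subgroupNormalizer N := by
  classical
  intro hle
  obtain ⟨ω, b, hωr, hω1, hmon⟩ := hN.realise
  have hexp : ∀ g ∈ N, g ^ r = 1 := fun g hg => by
    have h1 : Monoid.exponent N = r := by
      rw [hN.symp.exponent_eq, Nat.Coprime.gcd_eq_one (Nat.coprime_two_left.2 (hr.odd_of_ne_two (by omega))), mul_one]
    have h2 := Monoid.pow_exponent_eq_one (⟨g, hg⟩ : N)
    rw [h1] at h2
    exact congrArg Subtype.val h2
  obtain ⟨x, hx, hxs⟩ : ∃ x ∈ N, x ∉ Cfsg.Geo.scalars (Fin r) F := by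
    by_contra hc
    push Not at hc
    have hcomm : ∀ a ∈ N, ∀ c ∈ N, a * c = c * a := fun a ha c _ => scalar_comm (hc a ha) c
    have hle' : Nat.card N ≤ Nat.card (Subgroup.center N) := by
      have : Subgroup.center N = ⊤ := eq_top_iff.2 fun g _ => Subgroup.mem_center_iff.2 fun a =>
        Subtype.ext (hcomm a a.2 g g.2)
      rw [this, Subgroup.card_top]
    rw [hN.card, hN.card_center] at hle'
    have : r < r ^ 3 := by
      calc r = r ^ 1 := (pow_one r).symm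
        _ < r ^ 3 := Nat.pow_lt_pow_right hr.one_lt (by norm_num)
    omega
  -- every commutator with a transvection lies in `N`, so has exponent `r`
  have key : ∀ (v φ : V) (hv : φ ⬝ᵥ v = 0),
      (TransvMax.trv v φ hv * (x * (TransvMax.trv v φ hv)⁻¹ * x⁻¹)) ^ r = 1 := by
    intro v φ hv
    refine hexp _ ?_
    have h1 : TransvMax.trv v φ hv * x * (TransvMax.trv v φ hv)⁻¹ ∈ N :=
      ((Subgroup.mem_normalizer_iff.1 (hle (TransvMax.trv_mem_specialLinear v φ hv))) x).1 hx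
    simpa [mul_assoc] using N.mul_mem h1 (N.inv_mem hx)
  -- so `x` fixes every line
  have heig : ∀ v : V, ∃ c : F, (x : Mat) *ᵥ v = c • v := by
    intro v
    by_contra hne
    push Not at hne
    have hv0 : v ≠ 0 := fun e => hne 0 (by simp [e])
    set w : V := (x : Mat) *ᵥ v
    -- a functional killing both `v` and its image
    let L : V →ₗ[F] F × F :=
      LinearMap.prod { toFun := fun a => a ⬝ᵥ v, map_add' := fun a b => add_dotProduct a b v, map_smul' := fun a b => by simp }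
        { toFun := fun a => a ⬝ᵥ w, map_add' := fun a b => add_dotProduct a b w, map_smul' := fun a b => by simp }
    have hk : LinearMap.ker L ≠ ⊥ := by
      intro e
      have h1 := LinearMap.finrank_le_finrank_of_injective (LinearMap.ker_eq_bot.1 e)
      simp [finrank_fintype_fun_eq_card] at h1
      omega
    obtain ⟨φ, hφ, hφ0⟩ := Submodule.exists_mem_ne_zero_of_ne_bot hk
    have hφv : φ ⬝ᵥ v = 0 := congrArg Prod.fst hφ
    have hφw : φ ⬝ᵥ w = 0 := congrArg Prod.snd hφ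
    set ψ : V := φ ᵥ* ((x⁻¹ : GL (Fin r) F) : Mat)
    have hψw : (-ψ) ⬝ᵥ w = 0 := by rw [neg_dotProduct, TransvMax.vecMul_inv_dot, hφv, neg_zero]
    set T : GL (Fin r) F := TransvMax.trv v φ hφv * (x * (TransvMax.trv v φ hφv)⁻¹ * x⁻¹)
    set A : Mat := Matrix.vecMulVec v φ
    set B : Mat := Matrix.vecMulVec w ψ
    have hinv : (x * (TransvMax.trv v φ hφv)⁻¹ * x⁻¹ : GL (Fin r) F).val = 1 - B := by
      refine Matrix.ext_iff_mulVec.2 fun u => ?_
      rw [Units.val_mul, Units.val_mul, ← Matrix.mulVec_mulVec, ← Matrix.mulVec_mulVec]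
      show (x : Mat) *ᵥ ((1 - A) *ᵥ _) = (1 - B) *ᵥ u
      rw [Matrix.sub_mulVec, Matrix.one_mulVec, Matrix.sub_mulVec, Matrix.one_mulVec, Matrix.mulVec_sub,
        TransvMax.mulVec_inv_mulVec, Matrix.vecMulVec_mulVec, Matrix.vecMulVec_mulVec, op_smul_eq_smul, op_smul_eq_smul,
        Matrix.mulVec_smul, ← Matrix.dotProduct_mulVec]
    have hT : (T : Mat) = (1 + A) * (1 - B) := by rw [Units.val_mul, hinv]; rfl
    -- on the kernel of `ψ` it is the transvection itself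
    have hTu : ∀ u, (T : Mat) *ᵥ u = u + (φ ⬝ᵥ u) • v - (ψ ⬝ᵥ u) • w := by
      intro u
      rw [hT, ← Matrix.mulVec_mulVec, Matrix.sub_mulVec, Matrix.one_mulVec, Matrix.vecMulVec_mulVec, op_smul_eq_smul,
        Matrix.add_mulVec, Matrix.one_mulVec, Matrix.vecMulVec_mulVec, op_smul_eq_smul, dotProduct_sub, dotProduct_smul,
        hφw, smul_zero, sub_zero]
      abel
    have hTn : ∀ (n : ℕ) (u : V), ((T ^ n : GL (Fin r) F) : Mat) *ᵥ u =
        u + (n : F) • ((φ ⬝ᵥ u) • v - (ψ ⬝ᵥ u) • w) +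
          ((n.choose 2 : F) * (φ ⬝ᵥ u) * (-(ψ ⬝ᵥ v))) • w := by
      intro n
      induction n with
      | zero => intro u; simp
      | succ n ih =>
        intro u
        have hψw' : ψ ⬝ᵥ w = 0 := by rw [TransvMax.vecMul_inv_dot]; exact hφv
        rw [pow_succ', Units.val_mul, ← Matrix.mulVec_mulVec, ih, hTu]
        simp only [dotProduct_add, dotProduct_sub, dotProduct_smul, smul_eq_mul, hφv, hφw, hψw', mul_zero, sub_zero,
          add_zero, zero_sub]
        rw [Nat.choose_succ_succ' n 1, Nat.choose_one_right, Nat.cast_add, Nat.cast_add, Nat.cast_one]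
        ext k
        simp only [Pi.add_apply, Pi.sub_apply, Pi.smul_apply, smul_eq_mul]
        ring
    obtain ⟨u, hu⟩ : ∃ u, φ ⬝ᵥ u = 1 := by
      obtain ⟨i, hi⟩ : ∃ i, φ i ≠ 0 := Function.ne_iff.1 hφ0
      exact ⟨Pi.single i (φ i)⁻¹, by rw [dotProduct_single, mul_inv_cancel₀ hi]⟩
    have h1 := hTn r u
    rw [key v φ hφv, Units.val_one, Matrix.one_mulVec] at h1
    have hch : ((r.choose 2 : ℕ) : F) * 1 * (-(ψ ⬝ᵥ v)) = ((r.choose 2 : ℕ) : F) * (-(ψ ⬝ᵥ v)) := by ring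
    rw [hu, hch, one_smul] at h1
    -- coefficient of `v`
    have h2 : (r : F) • v = ((r : F) * (ψ ⬝ᵥ u) - (r.choose 2 : F) * (-(ψ ⬝ᵥ v))) • w := by
      funext k
      have := congrFun h1 k
      simp only [Pi.add_apply, Pi.sub_apply, Pi.smul_apply, smul_eq_mul] at this ⊢
      linear_combination -this
    set c := (r : F) * (ψ ⬝ᵥ u) - (r.choose 2 : F) * (-(ψ ⬝ᵥ v))
    by_cases hc : c = 0
    · rw [hc, zero_smul, smul_eq_zero] at h2
      exact h2.elim hN.char_ne hv0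
    · refine hne (c⁻¹ * (r : F)) ?_
      rw [mul_smul, h2, smul_smul, inv_mul_cancel₀ hc, one_smul]
  obtain ⟨c, hc⟩ := (LinearMap.exists_eq_smul_id_of_forall_notLinearIndependent (f := Matrix.toLin' (x : Mat)) fun v => by
    rw [LinearIndependent.pair_iff]
    intro h
    obtain ⟨c, hc⟩ := heig v
    have := (h c (-1) (by rw [Matrix.toLin'_apply, hc, neg_smul, one_smul, add_neg_cancel])).2
    simp at this)
  refine hxs (mem_scalars_of_val hr.pos (c := c) ?_)
  have := congrArg LinearMap.toMatrix' hc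
  rwa [LinearMap.toMatrix'_toLin', map_smul, LinearMap.toMatrix'_one] at this

theorem symp_case (hr : r.Prime) (hr3 : 3 ≤ r) (hH : Cfsg.Geo.IsMaximalIn (Cfsg.Geo.specialLinear (Fin r) F) H)
    {N : Subgroup (GL (Fin r) F)} (hN : Heis N) (hnorm : ∀ h ∈ H, ∀ x ∈ N, h * x * h⁻¹ ∈ N) : PrimeCases H := by
  classical
  haveI : NeZero r := ⟨hr.ne_zero⟩
  haveI : Fact r.Prime := ⟨hr⟩
  obtain ⟨ω, b, hωr, hω1, hmon⟩ := hN.realise
  have hω0 : ω ≠ 0 := fun e => by rw [e, zero_pow hr.ne_zero] at hωr; exact zero_ne_one hωr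
  obtain ⟨p, e, hp, hchar, he, hcard⟩ := exists_char_pow F
  haveI := hchar
  haveI : Fact p.Prime := ⟨hp⟩
  have hord : orderOf ω = r := orderOf_eq_prime hωr hω1
  have hdvd : r ∣ p ^ e - 1 := by
    rw [← hcard, ← hord]
    exact orderOf_dvd_of_pow_eq_one (FiniteField.pow_card_sub_one_eq_one ω hω0)
  by_cases hmin : ∀ d : ℕ, 0 < d → d < e → ¬ r ∣ p ^ d - 1
  · rcases Nat.even_or_odd e with hev | hodd
    · -- a unitary form
      obtain ⟨k, rfl⟩ := hev
      have hk : 0 < k := by omega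
      let σ : F ≃+* F := RingEquiv.ofBijective (iterateFrobenius F p k) (bijective_iterateFrobenius F p k)
      have hσ : ∀ a, σ a = a ^ p ^ k := fun a => iterateFrobenius_def p k a
      have hinv : ∀ a, σ (σ a) = a := fun a => by
        rw [hσ, hσ, ← pow_mul, ← pow_add, ← hcard, FiniteField.pow_card]
      have hσω : σ ω * ω = 1 := by
        have h1 : (r : ℤ) ∣ ((p : ℤ) ^ k) * ((p : ℤ) ^ k) - 1 := by
          rw [← pow_add]
          have := Int.natCast_dvd_natCast.2 hdvd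
          rwa [Nat.cast_sub (Nat.one_le_pow _ _ hp.pos), Nat.cast_pow, Nat.cast_one] at this
        have h2 : ((p : ℤ) ^ k) * ((p : ℤ) ^ k) - 1 = ((p : ℤ) ^ k - 1) * ((p : ℤ) ^ k + 1) := by ring
        rw [h2] at h1
        rcases (Nat.prime_iff_prime_int.1 hr).dvd_or_dvd h1 with h3 | h3
        · exfalso
          refine hmin k hk (by omega) (Int.natCast_dvd_natCast.1 ?_)
          rwa [Nat.cast_sub (Nat.one_le_pow _ _ hp.pos), Nat.cast_pow, Nat.cast_one]
        · have h4 : r ∣ p ^ k + 1 := Int.natCast_dvd_natCast.1 (by exact_mod_cast h3)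
          rw [hσ, ← pow_succ]
          exact orderOf_dvd_iff_pow_eq_one.1 (by rwa [hord])
      have hne : σ ≠ RingEquiv.refl F := by
        intro e'
        rw [e', RingEquiv.refl_apply, ← pow_two] at hσω
        have h1 := orderOf_dvd_of_pow_eq_one hσω
        rw [hord] at h1
        have := Nat.le_of_dvd (by norm_num) h1
        omega
      have hfix : Cfsg.Geo.FixesForm (Cfsg.Geo.matrixSet N) (stdForm σ b) := by
        rintro _ ⟨g, hg, rfl⟩ u v
        obtain ⟨π, a, hg'⟩ := hmon g hg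
        exact monomial_fixes σ hg' (fun i => by rw [map_pow, ← mul_pow, mul_comm, hσω, one_pow]) u v
      exact Or.inr (Or.inr (Or.inr (Or.inr (Or.inr (Or.inr (Or.inl
        (unitary_case hr3 hH (stdForm_unitary hne hinv b) fun h hh =>
          mem_similarity hN.comm (stdForm_sesq σ b) (stdForm_nondeg σ b) hfix (hnorm h hh))))))))
    · have hrp : r ≠ p := fun h => hN.char_ne (by rw [h]; exact CharP.cast_eq_zero F p)
      refine Or.inr (Or.inr (Or.inr (Or.inr (Or.inl ⟨p, e, hp, hchar, hcard, he, hodd, hdvd, hmin, N, ?_, ?_⟩))))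
      · refine ⟨hN.symp, absIrred_matrixSet hN.irr hN.comm, p, e, hrp, ⟨hp, hchar, hcard, ?_, ?_⟩,
          Or.inl ⟨hr.odd_of_ne_two (by omega), hodd, hN.card_center, 1, le_rfl, by rw [hN.card]⟩⟩
        · rw [hN.card_center]; exact hdvd
        · rw [hN.card_center]; exact hmin
      · refine eq_inf_of_le hH (fun h hh => Subgroup.mem_normalizer_iff.2 fun x => ⟨hnorm h hh x, fun hx => ?_⟩)
          (not_le_normalizer hr hr3 hN)
        simpa [mul_assoc] using hnorm h⁻¹ (H.inv_mem hh) _ hx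
  · -- realisable over a proper subfield
    push Not at hmin
    obtain ⟨d, hd0, hde, hd⟩ := hmin
    let F₀ : Subfield F := RingHom.eqLocusField (iterateFrobenius F p d) (RingHom.id F)
    have hmem : ∀ a : F, a ∈ F₀ ↔ a ^ p ^ d = a := fun a => by
      show iterateFrobenius F p d a = a ↔ _
      rw [iterateFrobenius_def]
    have hωF : ω ∈ F₀ := by
      rw [hmem, show p ^ d = (p ^ d - 1) + 1 from (Nat.sub_add_cancel (Nat.one_le_pow _ _ hp.pos)).symm, pow_succ,
        orderOf_dvd_iff_pow_eq_one.1 (by rwa [hord]), one_mul]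
    have hF₀ : F₀ ≠ ⊤ := by
      intro e'
      have hall : ∀ a : F, (Polynomial.X ^ p ^ d - Polynomial.X : Polynomial F).IsRoot a := fun a => by
        have := (hmem a).1 (e' ▸ Subfield.mem_top a)
        simp [this]
      have h1 : 1 < p ^ d := Nat.one_lt_pow hd0.ne' hp.one_lt
      have hne0 : (Polynomial.X ^ p ^ d - Polynomial.X : Polynomial F) ≠ 0 := FiniteField.X_pow_card_sub_X_ne_zero F h1
      have hsub : (Finset.univ : Finset F) ⊆ (Polynomial.X ^ p ^ d - Polynomial.X : Polynomial F).roots.toFinset :=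
        fun a _ => Multiset.mem_toFinset.2 ((Polynomial.mem_roots hne0).2 (hall a))
      have h2 := (Finset.card_le_card hsub).trans ((Multiset.toFinset_card_le _).trans (Polynomial.card_roots' _))
      rw [Finset.card_univ, hcard, FiniteField.X_pow_card_sub_X_natDegree_eq F h1] at h2
      exact absurd ((Nat.pow_le_pow_iff_right hp.one_lt).1 h2) (by omega)
    refine Or.inr (Or.inr (Or.inr (Or.inl (subfield_case hr3 hH hN.comm hnorm F₀ hF₀ ?_))))
    let P : GL (Fin r) F := TransvMax.glOf b.equivFun.symm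
    have hP : ∀ i, (P : Mat) *ᵥ (Pi.single i 1 : V) = b i := fun i => by
      show _ = b i
      rw [TransvMax.glOf_mulVec, Basis.equivFun_symm_apply]
      simp [Pi.single_apply]
    refine ⟨P⁻¹, ?_⟩
    rintro _ ⟨g, hg, rfl⟩ i j
    obtain ⟨π, a, hg'⟩ := hmon g hg
    rw [inv_inv]
    have h1 : (((P⁻¹ : GL (Fin r) F) : Mat) * (g : Mat) * (P : Mat)) *ᵥ (Pi.single j 1 : V) =
        ω ^ a j • (Pi.single (π j) 1 : V) := by
      rw [← Matrix.mulVec_mulVec, ← Matrix.mulVec_mulVec, hP, hg', Matrix.mulVec_smul, ← hP (π j),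
        TransvMax.inv_mulVec_mulVec]
    have h2 := congrFun h1 i
    rw [Matrix.mulVec_single_one, Matrix.col_apply] at h2
    rw [h2, Pi.smul_apply, smul_eq_mul]
    refine F₀.mul_mem (pow_mem hωF _) ?_
    by_cases h : i = π j
    · subst h; rw [Pi.single_eq_same]; exact F₀.one_mem
    · rw [Pi.single_eq_of_ne h]; exact F₀.zero_mem

/-- Every maximal subgroup is geometric or residual. -/
theorem prime_dim_cases (hr : r.Prime) (hr3 : 3 ≤ r) (H : Subgroup (GL (Fin r) F))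
    (hH : Cfsg.Geo.IsMaximalIn (Cfsg.Geo.specialLinear (Fin r) F) H) : PrimeCases H := by
  classical
  haveI : NeZero r := ⟨hr.ne_zero⟩
  haveI : Fact r.Prime := ⟨hr⟩
  by_cases hirr : Irr H
  swap
  · obtain ⟨W, hW0, hW1, hinv, -⟩ := exists_minimal_invariant hirr
    refine Or.inl ⟨W, hW0, hW1, eq_inf_of_le hH (fun g hg => ?_) (sl_not_le_subspace hW0 hW1)⟩
    intro v
    refine ⟨hinv g hg v, fun h => ?_⟩
    have := hinv g⁻¹ (H.inv_mem hg) _ h
    rwa [show Cfsg.glToMat (Fin r) F g *ᵥ v = (g : Mat) *ᵥ v from rfl, TransvMax.inv_mulVec_mulVec] at this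
  have hHs : ¬ H ≤ Cfsg.Geo.scalars (Fin r) F := by
    intro hle
    set u : V := Pi.single 0 1
    have hu : u ≠ 0 := fun e => by simpa [u] using congrFun e 0
    rcases hirr (Submodule.span F {u}) (fun g hg w hw => by
      obtain ⟨c, hc⟩ := (Cfsg.Geo.mem_scalars_iff g).1 (hle hg)
      rw [hc, Matrix.smul_mulVec, Matrix.one_mulVec]
      exact Submodule.smul_mem _ _ hw) with h | h
    · exact hu (by simpa using h)
    · have h1 := finrank_span_singleton (K := F) hu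
      rw [h, finrank_top, finrank_fintype_fun_eq_card, Fintype.card_fin] at h1
      omega
  by_cases hAb : ∀ A : Subgroup (GL (Fin r) F), A ≤ H → (∀ g ∈ H, ∀ x ∈ A, g * x * g⁻¹ ∈ A) →
      (∀ x ∈ A, ∀ y ∈ A, x * y = y * x) → A ≤ Cfsg.Geo.scalars (Fin r) F
  swap
  · push Not at hAb
    obtain ⟨A, hAH, hAn, hAc, hAs⟩ := hAb
    rcases abelian_normal hr hirr hAn hAc hAs with ⟨b, hdiag, -, hperm⟩ | ⟨K, hK, -, hle⟩
    · have hcard2 : 2 ≤ Fintype.card F := Fintype.one_lt_card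
      rcases Nat.lt_or_ge (Fintype.card F) 5 with h5 | h5
      · have h234 : Fintype.card F = 2 ∨ Fintype.card F = 3 ∨ Fintype.card F = 4 := by omega
        rcases h234 with h | h | h
        · exact absurd (fun x hx => two_diag_scalar hr.pos h (hdiag x hx)) hAs
        · obtain ⟨Q, hQ, hmem⟩ := exists_quad h b
          exact Or.inr (Or.inr (Or.inr (Or.inr (Or.inr (Or.inl (quad_case hr hr3 hH hQ fun g hg => by
            obtain ⟨π, c, hc⟩ := hperm g hg
            exact hmem g π c hc))))))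
        · obtain ⟨σ, f, hf, hmem⟩ := exists_unitary_four h b
          exact Or.inr (Or.inr (Or.inr (Or.inr (Or.inr (Or.inr (Or.inl (unitary_case hr3 hH hf fun g hg => by
            obtain ⟨π, c, hc⟩ := hperm g hg
            exact hmem g π c hc)))))))
      · refine Or.inr (Or.inl ⟨h5, fun i => Submodule.span F {b i}, ⟨hr.two_le, one_pos,
          fun i => finrank_span_singleton (b.ne_zero i), b.linearIndependent.iSupIndep_span_singleton, ?_⟩,
          eq_inf_of_le hH (fun g hg => ?_) (sl_not_le_lines hr3 b)⟩)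
        · rw [← Submodule.span_range_eq_iSup, b.span_eq]
        · obtain ⟨π, c, hc⟩ := hperm g hg
          refine ⟨π, fun i => ?_⟩
          rw [Submodule.map_span, Set.image_singleton, Matrix.toLin'_apply, hc,
            Submodule.span_singleton_smul_eq (isUnit_iff_ne_zero.2 (monomial_coeff_ne_zero hc i))]
    · exact Or.inr (Or.inr (Or.inl ⟨K, hK, eq_inf_of_le hH hle (sl_not_le_field hr3 hK)⟩))
  -- a minimal non-scalar normal subgroup
  let Good : ℕ → Prop := fun n => ∃ N : Subgroup (GL (Fin r) F), Nat.card N = n ∧ N ≤ H ∧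
    (∀ g ∈ H, ∀ x ∈ N, g * x * g⁻¹ ∈ N) ∧ ¬ N ≤ Cfsg.Geo.scalars (Fin r) F
  have hex : ∃ n, Good n :=
    ⟨_, H, rfl, le_rfl, fun g hg x hx => H.mul_mem (H.mul_mem hg hx) (H.inv_mem hg), hHs⟩
  obtain ⟨N, hNcard, hNH, hNn, hNs⟩ := Nat.find_spec hex
  have hmin : ∀ R : Subgroup (GL (Fin r) F), R ≤ N → (∀ g ∈ H, ∀ x ∈ R, g * x * g⁻¹ ∈ R) →
      ¬ R ≤ Cfsg.Geo.scalars (Fin r) F → R = N := fun R hR hRn hRs =>
    Subgroup.eq_of_le_of_card_ge hR (by rw [hNcard]; exact Nat.find_min' hex ⟨R, rfl, hR.trans hNH, hRn, hRs⟩)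
  by_cases hD : ⁅N, N⁆ ≤ Cfsg.Geo.scalars (Fin r) F
  · refine symp_case hr hr3 hH (heis hr hr3 hirr hNH hNn hAb hmin hNs fun x hx y hy => ?_) hNn
    have := hD (Subgroup.commutator_mem_commutator hx hy)
    rwa [commutatorElement_def] at this
  have hperf : ⁅N, N⁆ = N := by
    refine hmin _ (Subgroup.commutator_le.2 fun a ha c hc => ?_) (fun g hg x hx => ?_) hD
    · exact N.mul_mem (N.mul_mem (N.mul_mem ha hc) (N.inv_mem ha)) (N.inv_mem hc)
    · have h1 : g * x * g⁻¹ ∈ ⁅N, N⁆.map (MulAut.conj g).toMonoidHom := ⟨x, hx, rfl⟩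
      rw [Subgroup.map_commutator] at h1
      have hle : N.map (MulAut.conj g).toMonoidHom ≤ N := by
        rintro _ ⟨t, ht, rfl⟩
        exact hNn g hg t ht
      exact Subgroup.commutator_mono hle hle h1
  obtain ⟨hNirr, hNsc, hsimp, hnab, hcen⟩ := residual_core hr hirr hNH hperf hNn hNs hmin
  by_cases hreal : ∃ F₀ : Subfield F, F₀ ≠ ⊤ ∧ Cfsg.Geo.RealisableOver F₀ (Cfsg.Geo.matrixSet N)
  · obtain ⟨F₀, hF₀, h⟩ := hreal
    exact Or.inr (Or.inr (Or.inr (Or.inl (subfield_case hr3 hH hNsc hNn F₀ hF₀ h))))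
  push Not at hreal
  by_cases hQ : ∃ Q : V → F, Cfsg.Geo.IsNondegenerateQuadraticForm Q ∧ Cfsg.Geo.FixesQuadForm (Cfsg.Geo.matrixSet N) Q
  · obtain ⟨Q, hQ, hfix⟩ := hQ
    exact Or.inr (Or.inr (Or.inr (Or.inr (Or.inr (Or.inl (quad_case hr hr3 hH hQ fun h hh =>
      mem_quadSimilarity (two_ne_zero_of_quad (hr.odd_of_ne_two (by omega)) hQ) hNsc hQ hfix (hNn h hh)))))))
  by_cases hU : ∃ (σ : F ≃+* F) (f : V → V → F), Cfsg.Geo.IsUnitaryForm σ f ∧
      Cfsg.Geo.FixesForm (Cfsg.Geo.matrixSet N) f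
  · obtain ⟨σ, f, hf, hfix⟩ := hU
    exact Or.inr (Or.inr (Or.inr (Or.inr (Or.inr (Or.inr (Or.inl (unitary_case hr3 hH hf fun h hh =>
      mem_similarity hNsc (IsSesq.of_unitary hf) hf.nondegenerate hfix (hNn h hh))))))))
  refine Or.inr (Or.inr (Or.inr (Or.inr (Or.inr (Or.inr (Or.inr ⟨N,
    ⟨hNH, hNn, hperf, hsimp, hnab, hcen, absIrred_matrixSet hNirr hNsc, hreal⟩, hQ, ?_, hU⟩))))))
  rintro ⟨f, hf, -⟩
  exact no_symplectic (hr.odd_of_ne_two (by omega)) hf

end Cfsg.Agent.PrimeDim
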