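import Cfsg.Agent.Lib.PrimeDim.Basic

/-!
A non-scalar abelian normal subgroup of an irreducible group of prime degree: either a basis of common
eigenvectors whose lines are permuted, or a field of matrices of degree `r` that is normalised.
-/

set_option autoImplicit false

namespace Cfsg.Agent.PrimeDim

open scoped Matrix MatrixGroups
open Module

variable {r : ℕ} {F : Type*} [Field F]

local notation "V" => Fin r → F

local notation "Mat" => Matrix (Fin r) (Fin r) F

/-- Eigenvectors for a character. -/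
def eig {A : Subgroup (GL (Fin r) F)} (χ : A → F) : Submodule F V :=
  ⨅ a : A, LinearMap.ker (Matrix.toLin' ((a : GL (Fin r) F) : Mat) - χ a • LinearMap.id)

theorem mem_eig {A : Subgroup (GL (Fin r) F)} {χ : A → F} {v : V} :
    v ∈ eig χ ↔ ∀ a : A, ((a : GL (Fin r) F) : Mat) *ᵥ v = χ a • v := by
  simp [eig, Submodule.mem_iInf, LinearMap.mem_ker, sub_eq_zero]

theorem repr_eig {A : Subgroup (GL (Fin r) F)} (b : Basis (Fin r) F V) (χ : Fin r → A → F)
    (hχ : ∀ i (a : A), ((a : GL (Fin r) F) : Mat) *ᵥ b i = χ i a • b i) {c : A → F} {v : V} (hv : v ∈ eig c)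
    {i : Fin r} (hi : b.repr v i ≠ 0) : χ i = c := by
  classical
  funext a
  have h1 : ((a : GL (Fin r) F) : Mat) *ᵥ v = ∑ j, (b.repr v j * χ j a) • b j := by
    conv_lhs => rw [← b.sum_repr v]
    rw [Matrix.mulVec_sum]
    simp [Matrix.mulVec_smul, hχ, smul_smul]
  have h2 : b.repr (((a : GL (Fin r) F) : Mat) *ᵥ v) i = b.repr v i * χ i a := by
    rw [h1, b.repr_sum_self]
  rw [mem_eig.1 hv a, map_smul, Finsupp.smul_apply, smul_eq_mul, mul_comm] at h2
  exact (mul_left_cancel₀ hi h2).symm

theorem finrank_eig {A : Subgroup (GL (Fin r) F)} (b : Basis (Fin r) F V) (χ : Fin r → A → F)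
    (hχ : ∀ i (a : A), ((a : GL (Fin r) F) : Mat) *ᵥ b i = χ i a • b i) (c : A → F) [DecidableEq (A → F)] :
    finrank F (eig c) = (Finset.univ.filter fun i => χ i = c).card := by
  classical
  have he : eig c = Submodule.span F (Set.range fun i : {i : Fin r // χ i = c} => b i) := by
    refine le_antisymm (fun v hv => ?_) (Submodule.span_le.2 ?_)
    · rw [← b.sum_repr v]
      refine Submodule.sum_mem _ fun i _ => ?_
      by_cases hi : b.repr v i = 0
      · simp [hi]
      · exact Submodule.smul_mem _ _ (Submodule.subset_span ⟨⟨i, repr_eig b χ hχ hv hi⟩, rfl⟩)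
    · rintro _ ⟨⟨i, hi⟩, rfl⟩
      exact mem_eig.2 fun a => by rw [hχ, hi]
  have hli : LinearIndependent F fun i : {i : Fin r // χ i = c} => b i :=
    b.linearIndependent.comp _ Subtype.val_injective
  rw [he, finrank_span_eq_card hli, Fintype.card_subtype]

/-- The conjugate of a character. -/
theorem finrank_eig_conj {G0 A : Subgroup (GL (Fin r) F)} (hA : ∀ g ∈ G0, ∀ x ∈ A, g * x * g⁻¹ ∈ A) (c : A → F)
    {g : GL (Fin r) F} (hg : g ∈ G0) :
    finrank F (eig fun a : A => c ⟨g⁻¹ * a * g, by simpa using hA g⁻¹ (G0.inv_mem hg) a a.2⟩) = finrank F (eig c) := by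
  have he : eig (fun a : A => c ⟨g⁻¹ * a * g, by simpa using hA g⁻¹ (G0.inv_mem hg) a a.2⟩) = gmap g (eig c) := by
    ext v
    rw [mem_gmap, mem_eig, mem_eig]
    constructor
    · intro h a
      have h1 := h ⟨g * a * g⁻¹, hA g hg a a.2⟩
      simp only [mul_assoc, inv_mul_cancel_left, inv_mul_cancel, mul_one] at h1
      have h2 := congrArg (((g⁻¹ : GL (Fin r) F) : Mat) *ᵥ ·) h1
      simpa only [Units.val_mul, ← Matrix.mulVec_mulVec, TransvMax.inv_mulVec_mulVec, Matrix.mulVec_smul] using h2
    · intro h a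
      have h1 := h ⟨g⁻¹ * a * g, by simpa using hA g⁻¹ (G0.inv_mem hg) a a.2⟩
      have h2 := congrArg ((g : Mat) *ᵥ ·) h1
      simpa only [Units.val_mul, ← Matrix.mulVec_mulVec, TransvMax.mulVec_inv_mulVec, Matrix.mulVec_smul] using h2
  rw [he, finrank_gmap]

/-- The dichotomy for a non-scalar abelian normal subgroup. -/
theorem abelian_normal [Finite F] (hr : r.Prime) {G0 A : Subgroup (GL (Fin r) F)} (hG : Irr G0)
    (hA : ∀ g ∈ G0, ∀ x ∈ A, g * x * g⁻¹ ∈ A) (hab : ∀ x ∈ A, ∀ y ∈ A, x * y = y * x)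
    (hns : ¬ A ≤ Cfsg.Geo.scalars (Fin r) F) :
    (∃ b : Basis (Fin r) F V, (∀ x ∈ A, ∀ i, ∃ c : F, (x : Mat) *ᵥ b i = c • b i) ∧
        (∀ i j, (∀ x ∈ A, ∀ c : F, (x : Mat) *ᵥ b i = c • b i → (x : Mat) *ᵥ b j = c • b j) → i = j) ∧
        ∀ g ∈ G0, ∃ (π : Equiv.Perm (Fin r)) (c : Fin r → F), ∀ i, (g : Mat) *ᵥ b i = c i • b (π i)) ∨
      ∃ K : Subalgebra F Mat, Cfsg.Geo.IsFieldSubalgebra r K ∧ K = Algebra.adjoin F (Cfsg.Geo.matrixSet A) ∧
        G0 ≤ Cfsg.Geo.subalgebraNormalizer K := by
  classical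
  rcases irr_or_eigen hr hG hA with hI | ⟨w, hw0, hw⟩
  · right
    obtain ⟨a, ha, hans⟩ := SetLike.not_le_iff_exists.1 hns
    rcases commutant_field hr hI (Cfsg.Geo.matrixSet A)
        (by rintro _ ⟨x, hx, rfl⟩ _ ⟨y, hy, rfl⟩; rw [← Units.val_mul, hab x hx y hy, Units.val_mul])
        (by rintro _ ⟨x, hx, rfl⟩ y hy; rw [← Units.val_mul, hab x hx y hy, Units.val_mul]) with h | ⟨hK, -⟩
    · obtain ⟨c, hc⟩ := h _ (Algebra.subset_adjoin ⟨a, ha, rfl⟩)
      exact absurd (mem_scalars_of_val hr.pos hc) hans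
    refine ⟨_, hK, rfl, fun g hg => ?_⟩
    have key : ∀ g ∈ G0, ∀ k ∈ Algebra.adjoin F (Cfsg.Geo.matrixSet A),
        (g : Mat) * k * ((g⁻¹ : GL (Fin r) F) : Mat) ∈ Algebra.adjoin F (Cfsg.Geo.matrixSet A) := by
      intro g hg k hk
      induction hk using Algebra.adjoin_induction with
      | mem k hk =>
        obtain ⟨x, hx, rfl⟩ := hk
        exact Algebra.subset_adjoin ⟨g * x * g⁻¹, hA g hg x hx, by simp [Units.val_mul]⟩
      | algebraMap c =>
        rw [← Algebra.commutes c (g : Mat), mul_assoc, ← Units.val_mul, mul_inv_cancel, Units.val_one, mul_one]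
        exact Subalgebra.algebraMap_mem _ c
      | add x y _ _ h h' => rw [mul_add, add_mul]; exact add_mem h h'
      | mul x y _ _ h h' =>
        have := mul_mem h h'
        simpa [mul_assoc, ← mul_assoc ((g⁻¹ : GL (Fin r) F) : Mat) (g : Mat), ← Units.val_mul] using this
    intro k
    refine ⟨key g hg k, fun h => ?_⟩
    have := key g⁻¹ (G0.inv_mem hg) _ h
    simpa [mul_assoc, ← Units.val_mul] using this
  · left
    obtain ⟨s, hsub, hspan, hli⟩ :=
      exists_linearIndependent F (Set.range fun g : G0 => ((g : GL (Fin r) F) : Mat) *ᵥ w)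
    rw [span_orbit_eq_top hG hw0] at hspan
    let b0 : Basis s F V := Basis.mk hli (by rw [Subtype.range_coe, hspan])
    haveI : Fintype s := FiniteDimensional.fintypeBasisIndex b0
    have hcard : Fintype.card s = Fintype.card (Fin r) := by
      rw [← finrank_eq_card_basis b0]; simp
    let b : Basis (Fin r) F V := b0.reindex (Fintype.equivOfCardEq hcard)
    have hb : ∀ i, ∃ g : G0, b i = ((g : GL (Fin r) F) : Mat) *ᵥ w := by
      intro i
      have : b i ∈ Set.range fun g : G0 => ((g : GL (Fin r) F) : Mat) *ᵥ w := by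
        simp only [b, b0, Basis.reindex_apply, Basis.mk_apply]
        exact hsub (Subtype.coe_prop _)
      obtain ⟨g, hg⟩ := this
      exact ⟨g, hg.symm⟩
    have hbe : ∀ i, ∀ x ∈ A, ∃ c : F, (x : Mat) *ᵥ b i = c • b i := by
      intro i x hx
      obtain ⟨g, hg⟩ := hb i
      rw [hg]
      exact eigen_translates hA hw g.2 x hx
    have hc : ∀ i (a : A), ∃ c : F, ((a : GL (Fin r) F) : Mat) *ᵥ b i = c • b i := fun i a => hbe i a a.2
    choose χ hχ using hc
    have hmem : ∀ i, b i ∈ eig (χ i) := fun i => mem_eig.2 (hχ i)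
    haveI : NeZero r := ⟨hr.ne_zero⟩
    set m : (A → F) → ℕ := fun c => (Finset.univ.filter fun i => χ i = c).card
    have hm : ∀ i j, m (χ i) = m (χ j) := by
      intro i j
      obtain ⟨gi, hgi⟩ := hb i
      obtain ⟨gj, hgj⟩ := hb j
      set g : GL (Fin r) F := (gj : GL (Fin r) F) * (gi : GL (Fin r) F)⁻¹ with hg
      have hgG : g ∈ G0 := G0.mul_mem gj.2 (G0.inv_mem gi.2)
      have hgb : b j = (g : Mat) *ᵥ b i := by
        rw [hgi, hgj, hg, Units.val_mul, ← Matrix.mulVec_mulVec, TransvMax.inv_mulVec_mulVec]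
      have e : (fun a : A => χ i ⟨g⁻¹ * a * g, by simpa using hA g⁻¹ (G0.inv_mem hgG) a a.2⟩) = χ j := by
        funext a
        have h1 := hχ i ⟨g⁻¹ * a * g, by simpa using hA g⁻¹ (G0.inv_mem hgG) a a.2⟩
        have h2 := congrArg ((g : Mat) *ᵥ ·) h1
        simp only [Units.val_mul, ← Matrix.mulVec_mulVec, TransvMax.mulVec_inv_mulVec, Matrix.mulVec_smul, ← hgb,
          hχ j a] at h2
        exact (smul_left_injective F (b.ne_zero j) h2).symm
      have h1 := finrank_eig_conj hA (χ i) hgG
      rw [e, finrank_eig b χ hχ, finrank_eig b χ hχ] at h1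
      exact h1.symm
    have hdvd : m (χ 0) ∣ r := by
      refine ⟨(Finset.univ.image χ).card, ?_⟩
      have h1 := Finset.card_eq_sum_card_image χ (Finset.univ : Finset (Fin r))
      rw [Finset.card_univ, Fintype.card_fin, Finset.sum_congr rfl (g := fun _ => m (χ 0))] at h1
      · rw [Finset.sum_const, smul_eq_mul, mul_comm] at h1
        exact h1
      · intro c hc
        obtain ⟨i, -, rfl⟩ := Finset.mem_image.1 hc
        exact hm i 0
    rcases (Nat.dvd_prime hr).1 hdvd with h1 | h1
    · have hinj : Function.Injective χ := by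
        intro i j e
        have h2 : m (χ i) = 1 := by rw [hm i 0, h1]
        obtain ⟨k, hk⟩ := Finset.card_eq_one.1 h2
        have hi : i ∈ Finset.univ.filter fun l => χ l = χ i := by simp
        have hj : j ∈ Finset.univ.filter fun l => χ l = χ i := by simp [e]
        rw [hk, Finset.mem_singleton] at hi hj
        rw [hi, hj]
      refine ⟨b, fun x hx i => hbe i x hx, fun i j h => hinj (funext fun a => ?_), fun g hg => ?_⟩
      · have h1 := h a a.2 _ (hχ i a)
        rw [hχ j a] at h1
        exact (smul_left_injective F (b.ne_zero j) h1).symm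
      have hline : ∀ i, ∃ (j : Fin r) (c : F), (g : Mat) *ᵥ b i = c • b j := by
        intro i
        set v : V := (g : Mat) *ᵥ b i
        have hv0 : v ≠ 0 := fun e => b.ne_zero i (by
          have := congrArg (((g⁻¹ : GL (Fin r) F) : Mat) *ᵥ ·) e
          simpa [v, TransvMax.inv_mulVec_mulVec] using this)
        have hv : ∀ a : A, ∃ c : F, ((a : GL (Fin r) F) : Mat) *ᵥ v = c • v :=
          fun a => eigen_translates hA (fun x hx => hbe i x hx) hg a a.2
        choose d hd using hv
        obtain ⟨j, hj⟩ : ∃ j, b.repr v j ≠ 0 := by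
          by_contra hcon
          push Not at hcon
          exact hv0 (b.ext_elem fun k => by simp [hcon k])
        refine ⟨j, b.repr v j, ?_⟩
        refine b.ext_elem fun k => ?_
        rw [map_smul, b.repr_self, Finsupp.smul_apply, Finsupp.single_apply]
        by_cases hjk : j = k
        · simp [hjk]
        · rw [if_neg hjk, smul_zero]
          by_contra hk
          exact hjk (hinj ((repr_eig b χ hχ (mem_eig.2 hd) hj).trans (repr_eig b χ hχ (mem_eig.2 hd) hk).symm))
      choose π c hπ using hline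
      have hπi : Function.Injective π := by
        intro i j e
        by_contra hij
        have h2 : (g : Mat) *ᵥ (c j • b i - c i • b j) = 0 := by
          rw [Matrix.mulVec_sub, Matrix.mulVec_smul, Matrix.mulVec_smul, hπ, hπ, e, smul_smul, smul_smul, mul_comm,
            sub_self]
        have h3 := congrArg (fun v => b.repr (((g⁻¹ : GL (Fin r) F) : Mat) *ᵥ v) j) h2
        simp [TransvMax.inv_mulVec_mulVec, hij, Ne.symm hij] at h3
        have h4 := hπ i
        rw [h3, zero_smul] at h4
        have h5 := congrArg (((g⁻¹ : GL (Fin r) F) : Mat) *ᵥ ·) h4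
        exact b.ne_zero i (by simpa [TransvMax.inv_mulVec_mulVec] using h5)
      exact ⟨Equiv.ofBijective π hπi.bijective_of_finite, c, hπ⟩
    · exfalso
      refine hns fun x hx => ?_
      have hall : ∀ i, χ i = χ 0 := by
        intro i
        have h2 : (Finset.univ.filter fun l => χ l = χ 0) = Finset.univ := Finset.eq_univ_of_card _ (by
          rw [Fintype.card_fin]; exact h1)
        have := Finset.mem_univ i
        rw [← h2, Finset.mem_filter] at this
        exact this.2
      refine mem_scalars_of_val hr.pos (c := χ 0 ⟨x, hx⟩) (Matrix.toLin'.injective (b.ext fun i => ?_))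
      rw [Matrix.toLin'_apply, Matrix.toLin'_apply, Matrix.smul_mulVec, Matrix.one_mulVec]
      rw [← hall i]
      exact hχ i ⟨x, hx⟩

end Cfsg.Agent.PrimeDim
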