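import Cfsg.Agent.Lib.TransvMax.Basic

/-!
Linear groups in prime dimension: the elementary Clifford argument.
A normal subgroup of an irreducible group is irreducible or commutative; an irreducible group with a
non-scalar commuting matrix is commutative.
-/

set_option autoImplicit false

namespace Cfsg.Agent.PrimeDim

open scoped Matrix MatrixGroups commutatorElement
open Module

variable {r : ℕ} {F : Type*} [Field F]

local notation "V" => Fin r → F

local notation "Mat" => Matrix (Fin r) (Fin r) F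

/-- Irreducibility, spelled out with vectors. -/
def Irr (N : Subgroup (GL (Fin r) F)) : Prop :=
  ∀ W : Submodule F V, (∀ g ∈ N, ∀ w ∈ W, (g : Mat) *ᵥ w ∈ W) → W = ⊥ ∨ W = ⊤

/-- Only scalars commute with the group. -/
def ScalarCommutant (N : Subgroup (GL (Fin r) F)) : Prop :=
  ∀ M : Mat, (∀ g ∈ N, M * (g : Mat) = (g : Mat) * M) → ∃ c : F, M = c • (1 : Mat)

theorem absIrred_matrixSet {N : Subgroup (GL (Fin r) F)} (h : Irr N) (h' : ScalarCommutant N) :
    Cfsg.Geo.ActsAbsolutelyIrreducibly (Cfsg.Geo.matrixSet N) := by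
  refine ⟨fun W hW => h W fun g hg w hw => ?_, fun M hM => h' M fun g hg => hM _ ⟨g, hg, rfl⟩⟩
  have h1 := hW _ ⟨g, hg, rfl⟩ (Submodule.mem_map_of_mem hw)
  rwa [Matrix.toLin'_apply] at h1

theorem Irr.mono {N N' : Subgroup (GL (Fin r) F)} (h : Irr N) (hle : N ≤ N') : Irr N' :=
  fun W hW => h W fun g hg w hw => hW g (hle hg) w hw

/-- A space covered by subspaces of dimension `d`, each minimal for a set of operators, has dimension a
multiple of `d`. -/
theorem dvd_of_cover (S : Set Mat) {κ : Type*} (W : κ → Submodule F V) (d : ℕ) (hd : ∀ i, finrank F (W i) = d)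
    (hmin : ∀ i, ∀ U : Submodule F V, (∀ s ∈ S, ∀ u ∈ U, s *ᵥ u ∈ U) → U ⊓ W i = ⊥ ∨ W i ≤ U)
    (hinv : ∀ i, ∀ s ∈ S, ∀ u ∈ W i, s *ᵥ u ∈ W i) (htop : (⨆ i, W i) = ⊤) : d ∣ r := by
  classical
  let Good : ℕ → Prop := fun m => ∃ U : Submodule F V, finrank F U = m ∧ d ∣ m ∧ ∀ s ∈ S, ∀ u ∈ U, s *ᵥ u ∈ U
  have h0 : Good 0 := ⟨⊥, finrank_bot F V, dvd_zero d, fun s _ u hu => by
    rw [Submodule.mem_bot] at hu ⊢; rw [hu, Matrix.mulVec_zero]⟩
  have hbd : ∀ m, Good m → m ≤ r := by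
    rintro m ⟨U, rfl, -⟩
    simpa using Submodule.finrank_le U
  obtain ⟨U, hU, hdU, hUS⟩ : Good (Nat.findGreatest Good r) := Nat.findGreatest_spec (Nat.zero_le r) h0
  have hall : ∀ i, W i ≤ U := by
    intro i
    rcases hmin i U hUS with h | h
    · have h1 := Submodule.finrank_sup_add_finrank_inf_eq U (W i)
      rw [h, finrank_bot, add_zero, hd i] at h1
      have hG : Good (finrank F ↥(U ⊔ W i)) := by
        refine ⟨U ⊔ W i, rfl, by rw [h1, hU]; exact dvd_add hdU dvd_rfl, fun s hs u hu => ?_⟩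
        obtain ⟨a, ha, b, hb, rfl⟩ := Submodule.mem_sup.1 hu
        rw [Matrix.mulVec_add]
        exact Submodule.add_mem_sup (hUS s hs a ha) (hinv i s hs b hb)
      have h2 := Nat.le_findGreatest (hbd _ hG) hG
      have h3 : U = U ⊔ W i := Submodule.eq_of_le_of_finrank_le le_sup_left (by omega)
      exact h3 ▸ le_sup_right
    · exact h
  have hUt : U = ⊤ := top_unique (htop ▸ iSup_le hall)
  subst hUt
  rw [← hU] at hdU
  simpa using hdU

/-- The image of a subspace under an invertible matrix. -/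
def gmap (g : GL (Fin r) F) (W : Submodule F V) : Submodule F V := W.map (Matrix.toLin' (g : Mat))

theorem mem_gmap {g : GL (Fin r) F} {W : Submodule F V} {v : V} :
    v ∈ gmap g W ↔ ((g⁻¹ : GL (Fin r) F) : Mat) *ᵥ v ∈ W := by
  rw [gmap, Submodule.mem_map]
  constructor
  · rintro ⟨w, hw, rfl⟩
    rwa [Matrix.toLin'_apply, TransvMax.inv_mulVec_mulVec]
  · exact fun h => ⟨_, h, by rw [Matrix.toLin'_apply, TransvMax.mulVec_inv_mulVec]⟩

theorem finrank_gmap (g : GL (Fin r) F) (W : Submodule F V) : finrank F (gmap g W) = finrank F W :=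
  (Submodule.equivMapOfInjective _ (fun a b h => by
    simpa [TransvMax.inv_mulVec_mulVec] using congrArg (((g⁻¹ : GL (Fin r) F) : Mat) *ᵥ ·) h) W).finrank_eq.symm

theorem iSup_gmap_eq_top {G0 : Subgroup (GL (Fin r) F)} (hG : Irr G0) {W : Submodule F V} (hW : W ≠ ⊥) :
    (⨆ g : G0, gmap (g : GL (Fin r) F) W) = ⊤ := by
  refine (hG _ fun h hh v hv => ?_).resolve_left fun e => hW ?_
  · have h1 := Submodule.mem_map_of_mem (f := Matrix.toLin' (h : Mat)) hv
    rw [Submodule.map_iSup, Matrix.toLin'_apply] at h1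
    refine (iSup_le (fun g => ?_) : _ ≤ ⨆ g : G0, gmap (g : GL (Fin r) F) W) h1
    refine le_trans (le_of_eq ?_) (le_iSup (fun g : G0 => gmap (g : GL (Fin r) F) W) (⟨h, hh⟩ * g))
    show Submodule.map _ (gmap _ W) = gmap (h * (g : GL (Fin r) F)) W
    rw [gmap, gmap, Units.val_mul, Matrix.toLin'_mul, Submodule.map_comp]
  · refine eq_bot_iff.2 fun w hw => ?_
    rw [← e]
    refine Submodule.mem_iSup_of_mem 1 ?_
    rw [mem_gmap]
    simpa using hw

theorem exists_minimal_invariant [Finite F] {N : Subgroup (GL (Fin r) F)} (h : ¬ Irr N) :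
    ∃ W : Submodule F V, W ≠ ⊥ ∧ W ≠ ⊤ ∧ (∀ g ∈ N, ∀ w ∈ W, (g : Mat) *ᵥ w ∈ W) ∧
      ∀ U : Submodule F V, (∀ g ∈ N, ∀ w ∈ U, (g : Mat) *ᵥ w ∈ U) → U ≤ W → U = ⊥ ∨ U = W := by
  classical
  unfold Irr at h
  push Not at h
  obtain ⟨W₀, hW₀, hb₀, ht₀⟩ := h
  let Good : ℕ → Prop := fun m => ∃ W : Submodule F V, finrank F W = m ∧ W ≠ ⊥ ∧ W ≠ ⊤ ∧
    ∀ g ∈ N, ∀ w ∈ W, (g : Mat) *ᵥ w ∈ W
  have hex : ∃ m, Good m := ⟨_, W₀, rfl, hb₀, ht₀, hW₀⟩
  obtain ⟨W, hW, hb, ht, hinv⟩ := Nat.find_spec hex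
  refine ⟨W, hb, ht, hinv, fun U hU hle => or_iff_not_imp_left.2 fun hU0 => ?_⟩
  refine Submodule.eq_of_le_of_finrank_le hle ?_
  rw [hW]
  exact Nat.find_min' hex ⟨U, rfl, hU0, fun e => ht (top_unique (e ▸ hle)), hU⟩

/-- A normal subgroup of an irreducible group of prime degree is irreducible, or it has a common
eigenvector. -/
theorem irr_or_eigen [Finite F] (hr : r.Prime) {G0 N : Subgroup (GL (Fin r) F)} (hG : Irr G0)
    (hnorm : ∀ g ∈ G0, ∀ x ∈ N, g * x * g⁻¹ ∈ N) :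
    Irr N ∨ ∃ w : V, w ≠ 0 ∧ ∀ x ∈ N, ∃ c : F, (x : Mat) *ᵥ w = c • w := by
  classical
  refine or_iff_not_imp_left.2 fun hN => ?_
  obtain ⟨W, hb, ht, hinv, hmin⟩ := exists_minimal_invariant hN
  have hnorm' : ∀ g ∈ G0, ∀ x ∈ N, g⁻¹ * x * g ∈ N := fun g hg x hx => by
    simpa using hnorm g⁻¹ (G0.inv_mem hg) x hx
  have key : finrank F W ∣ r := by
    refine dvd_of_cover (Cfsg.Geo.matrixSet N) (fun g : G0 => gmap (g : GL (Fin r) F) W) (finrank F W)
      (fun g => finrank_gmap _ _) (fun g U hU => ?_) (fun g s hs u hu => ?_) (iSup_gmap_eq_top hG hb)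
    · have hU' : ∀ x ∈ N, ∀ u ∈ gmap (g : GL (Fin r) F)⁻¹ U ⊓ W, (x : Mat) *ᵥ u ∈ gmap (g : GL (Fin r) F)⁻¹ U ⊓ W := by
        intro x hx u hu
        refine ⟨?_, hinv x hx u hu.2⟩
        have h1 := mem_gmap.1 hu.1
        rw [inv_inv] at h1
        show (x : Mat) *ᵥ u ∈ gmap (g : GL (Fin r) F)⁻¹ U
        rw [mem_gmap, inv_inv]
        have h2 := hU ((g * x * (g : GL (Fin r) F)⁻¹ : GL (Fin r) F) : Mat) ⟨_, hnorm g g.2 x hx, rfl⟩ _ h1
        rwa [Units.val_mul, Units.val_mul, ← Matrix.mulVec_mulVec, ← Matrix.mulVec_mulVec,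
          TransvMax.inv_mulVec_mulVec] at h2
      rcases hmin _ hU' inf_le_right with h | h
      · left
        refine eq_bot_iff.2 fun v hv => ?_
        have h1 : ((g : GL (Fin r) F)⁻¹ : GL (Fin r) F).val *ᵥ v ∈ gmap (g : GL (Fin r) F)⁻¹ U ⊓ W := by
          refine ⟨?_, mem_gmap.1 hv.2⟩
          show _ ∈ gmap _ U
          rw [mem_gmap, inv_inv, TransvMax.mulVec_inv_mulVec]
          exact hv.1
        rw [h, Submodule.mem_bot] at h1
        rw [Submodule.mem_bot, ← TransvMax.mulVec_inv_mulVec (g : GL (Fin r) F) v, h1, Matrix.mulVec_zero]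
      · right
        intro v hv
        have h1 : ((g : GL (Fin r) F)⁻¹ : GL (Fin r) F).val *ᵥ v ∈ gmap (g : GL (Fin r) F)⁻¹ U :=
          (h.symm.le (mem_gmap.1 hv)).1
        rw [mem_gmap, inv_inv, TransvMax.mulVec_inv_mulVec] at h1
        exact h1
    · obtain ⟨x, hx, rfl⟩ := hs
      rw [mem_gmap] at hu ⊢
      have h1 := hinv _ (hnorm' g g.2 x hx) _ hu
      rwa [Units.val_mul, Units.val_mul, ← Matrix.mulVec_mulVec, ← Matrix.mulVec_mulVec,
        TransvMax.mulVec_inv_mulVec] at h1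
  rcases (Nat.dvd_prime hr).1 key with h1 | h1
  · obtain ⟨w, hw, hw0⟩ := Submodule.exists_mem_ne_zero_of_ne_bot hb
    refine ⟨w, hw0, fun x hx => ?_⟩
    obtain ⟨c, hc⟩ := exists_smul_eq_of_finrank_eq_one h1 (x := (⟨w, hw⟩ : W))
      (fun e => hw0 (congrArg Subtype.val e)) ⟨_, hinv x hx w hw⟩
    exact ⟨c, (congrArg Subtype.val hc).symm⟩
  · exact absurd (Submodule.eq_top_of_finrank_eq (by rw [h1]; simp)) ht

/-- A group with a common eigenvector normalised by an irreducible group has a basis of common eigenvectors. -/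
theorem eigen_translates {G0 N : Subgroup (GL (Fin r) F)} (hnorm : ∀ g ∈ G0, ∀ x ∈ N, g * x * g⁻¹ ∈ N) {w : V}
    (hw : ∀ x ∈ N, ∃ c : F, (x : Mat) *ᵥ w = c • w) {g : GL (Fin r) F} (hg : g ∈ G0) :
    ∀ x ∈ N, ∃ c : F, (x : Mat) *ᵥ ((g : Mat) *ᵥ w) = c • ((g : Mat) *ᵥ w) := by
  intro x hx
  obtain ⟨c, hc⟩ := hw _ (hnorm g⁻¹ (G0.inv_mem hg) x hx)
  refine ⟨c, ?_⟩
  rw [inv_inv] at hc
  rw [← Matrix.mulVec_smul, ← hc, Units.val_mul, Units.val_mul, ← Matrix.mulVec_mulVec, ← Matrix.mulVec_mulVec,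
    TransvMax.mulVec_inv_mulVec]

theorem span_orbit_eq_top {G0 : Subgroup (GL (Fin r) F)} (hG : Irr G0) {w : V} (hw0 : w ≠ 0) :
    Submodule.span F (Set.range fun g : G0 => ((g : GL (Fin r) F) : Mat) *ᵥ w) = ⊤ := by
  refine (hG _ fun h hh v hv => ?_).resolve_left fun e => hw0 ?_
  · have h1 := Submodule.mem_map_of_mem (f := Matrix.toLin' (h : Mat)) hv
    rw [Submodule.map_span, Matrix.toLin'_apply] at h1
    refine Submodule.span_mono ?_ h1
    rintro _ ⟨_, ⟨g, rfl⟩, rfl⟩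
    exact ⟨⟨h, hh⟩ * g, by simp [Units.val_mul, ← Matrix.mulVec_mulVec]⟩
  · have : w ∈ Submodule.span F (Set.range fun g : G0 => ((g : GL (Fin r) F) : Mat) *ᵥ w) :=
      Submodule.subset_span ⟨1, by simp⟩
    rwa [e, Submodule.mem_bot] at this

/-- A normal subgroup of an irreducible group of prime degree is irreducible or commutative. -/
theorem irr_or_comm [Finite F] (hr : r.Prime) {G0 N : Subgroup (GL (Fin r) F)} (hG : Irr G0)
    (hnorm : ∀ g ∈ G0, ∀ x ∈ N, g * x * g⁻¹ ∈ N) :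
    Irr N ∨ ∀ x ∈ N, ∀ y ∈ N, x * y = y * x := by
  rcases irr_or_eigen hr hG hnorm with h | ⟨w, hw0, hw⟩
  · exact Or.inl h
  refine Or.inr fun x hx y hy => TransvMax.gl_ext fun v => ?_
  have hv : v ∈ Submodule.span F (Set.range fun g : G0 => ((g : GL (Fin r) F) : Mat) *ᵥ w) := by
    rw [span_orbit_eq_top hG hw0]; trivial
  induction hv using Submodule.span_induction with
  | mem v hv =>
    obtain ⟨g, rfl⟩ := hv
    obtain ⟨a, ha⟩ := eigen_translates hnorm hw g.2 x hx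
    obtain ⟨b, hb⟩ := eigen_translates hnorm hw g.2 y hy
    simp only [Units.val_mul, ← Matrix.mulVec_mulVec, ha, hb, Matrix.mulVec_smul, smul_smul, mul_comm a b]
  | zero => simp
  | add v v' _ _ h h' => rw [Matrix.mulVec_add, Matrix.mulVec_add, h, h']
  | smul c v _ h => rw [Matrix.mulVec_smul, Matrix.mulVec_smul, h]

/-- In an irreducible group of prime degree the algebra generated by commuting matrices that commute with the group
is a field, of degree one or `r`; in the second case the group lies in it. -/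
theorem commutant_field [Finite F] (hr : r.Prime) {N : Subgroup (GL (Fin r) F)} (hN : Irr N) (s : Set Mat)
    (hcomm : ∀ a ∈ s, ∀ b ∈ s, a * b = b * a) (hsN : ∀ a ∈ s, ∀ x ∈ N, a * (x : Mat) = (x : Mat) * a) :
    (∀ a ∈ Algebra.adjoin F s, ∃ c : F, a = c • (1 : Mat)) ∨
      (Cfsg.Geo.IsFieldSubalgebra r (Algebra.adjoin F s) ∧ ∀ x ∈ N, (x : Mat) ∈ Algebra.adjoin F s) := by
  classical
  have : NeZero r := ⟨hr.ne_zero⟩
  set K := Algebra.adjoin F s with hKdef
  have hKN : ∀ a ∈ K, ∀ x ∈ N, a * (x : Mat) = (x : Mat) * a := by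
    intro a ha x hx
    induction ha using Algebra.adjoin_induction with
    | mem a ha => exact hsN a ha x hx
    | algebraMap c => exact (Algebra.commutes c _)
    | add a b _ _ h h' => rw [add_mul, mul_add, h, h']
    | mul a b _ _ h h' => rw [mul_assoc, h', ← mul_assoc, h, mul_assoc]
  have hKK : ∀ a ∈ K, ∀ b ∈ K, a * b = b * a := by
    have h1 : ∀ a ∈ s, ∀ b ∈ K, a * b = b * a := by
      intro a ha b hb
      induction hb using Algebra.adjoin_induction with
      | mem b hb => exact hcomm a ha b hb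
      | algebraMap c => exact (Algebra.commutes c _).symm
      | add b b' _ _ h h' => rw [add_mul, mul_add, h, h']
      | mul b b' _ _ h h' => rw [← mul_assoc, h, mul_assoc, h', ← mul_assoc]
    intro a ha b hb
    induction ha using Algebra.adjoin_induction with
    | mem a ha => exact h1 a ha b hb
    | algebraMap c => exact Algebra.commutes c _
    | add a a' _ _ h h' => rw [add_mul, mul_add, h, h']
    | mul a a' _ _ h h' => rw [mul_assoc, h', ← mul_assoc, h, mul_assoc]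
  have hker : ∀ a ∈ K, a ≠ 0 → ∀ v : V, a *ᵥ v = 0 → v = 0 := by
    intro a ha ha0 v hv
    have h := hN (LinearMap.ker (Matrix.toLin' a)) fun g hg w hw => by
      rw [LinearMap.mem_ker, Matrix.toLin'_apply] at hw ⊢
      rw [Matrix.mulVec_mulVec, hKN a ha g hg, ← Matrix.mulVec_mulVec, hw, Matrix.mulVec_zero]
    rcases h with h | h
    · have : v ∈ LinearMap.ker (Matrix.toLin' a) := by simpa using hv
      rwa [h, Submodule.mem_bot] at this
    · refine absurd (Matrix.toLin'.injective ?_) ha0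
      rw [LinearMap.ker_eq_top.1 h, map_zero]
  let ev : V → (K.toSubmodule →ₗ[F] V) := fun v =>
    (LinearMap.applyₗ v).comp ((Matrix.toLin' (R := F) (m := Fin r) (n := Fin r)).toLinearMap.comp K.toSubmodule.subtype)
  have hev : ∀ v (a : K.toSubmodule), ev v a = (a : Mat) *ᵥ v := fun v a => rfl
  have hevi : ∀ v : V, v ≠ 0 → Function.Injective (ev v) := by
    intro v hv
    rw [← LinearMap.ker_eq_bot, eq_bot_iff]
    intro a ha
    rw [LinearMap.mem_ker, hev] at ha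
    by_contra h0
    exact hv (hker a a.2 (fun e => h0 (by simpa using Subtype.ext_iff.2 e)) v ha)
  have hdr : finrank F K.toSubmodule ∣ r := by
    refine dvd_of_cover (K : Set Mat) (fun v : {v : V // v ≠ 0} => LinearMap.range (ev v)) _
      (fun v => (LinearEquiv.ofInjective _ (hevi v v.2)).finrank_eq.symm) (fun v U hU => ?_)
      (fun v a ha u hu => ?_) ?_
    · refine or_iff_not_imp_left.2 fun hne => ?_
      obtain ⟨u, hu, hu0⟩ := Submodule.exists_mem_ne_zero_of_ne_bot hne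
      obtain ⟨hu1, a, rfl⟩ := hu
      have ha0 : (a : Mat) ≠ 0 := fun e => hu0 (by rw [hev, e, Matrix.zero_mulVec])
      obtain ⟨⟨b, hb⟩, hb'⟩ : ∃ b : K.toSubmodule, (fun b : K.toSubmodule => (⟨(a : Mat) * b, K.mul_mem a.2 b.2⟩ : K.toSubmodule)) b = ⟨1, K.one_mem⟩ := by
        refine (Finite.injective_iff_surjective.1 fun b b' e => ?_) _
        refine Subtype.ext (Matrix.ext_iff_mulVec.2 fun x => ?_)
        have e' := congrArg (fun z : K.toSubmodule => (z : Mat) *ᵥ x) e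
        simp only [← Matrix.mulVec_mulVec] at e'
        refine sub_eq_zero.1 (hker a a.2 ha0 _ ?_)
        rw [Matrix.mulVec_sub, e', sub_self]
      rintro x ⟨c, rfl⟩
      have hb'' : (a : Mat) * b = 1 := congrArg Subtype.val hb'
      have h2 := hU ((c : Mat) * b) (K.mul_mem c.2 hb) _ hu1
      rw [hev, Matrix.mulVec_mulVec, mul_assoc, hKK b hb a a.2, hb'', mul_one] at h2
      exact h2
    · obtain ⟨c, rfl⟩ := hu
      exact ⟨⟨a * c, K.mul_mem ha c.2⟩, by simp [hev, Matrix.mulVec_mulVec]⟩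
    · refine top_unique fun v _ => ?_
      by_cases hv : v = 0
      · simp [hv]
      · exact Submodule.mem_iSup_of_mem ⟨v, hv⟩ ⟨⟨1, K.one_mem⟩, by simp [hev]⟩
  obtain ⟨v0, hv0⟩ := exists_ne (0 : V)
  rcases (Nat.dvd_prime hr).1 hdr with h1 | h1
  · left
    intro a ha
    obtain ⟨c, hc⟩ := exists_smul_eq_of_finrank_eq_one h1 (x := (⟨1, K.one_mem⟩ : K.toSubmodule))
      (fun e => one_ne_zero (α := Mat) (congrArg Subtype.val e)) ⟨a, ha⟩
    exact ⟨c, (congrArg Subtype.val hc).symm⟩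
  · right
    have hsurj : Function.Surjective (ev v0) :=
      (LinearMap.injective_iff_surjective_of_finrank_eq_finrank (by rw [h1]; simp)).1 (hevi v0 hv0)
    refine ⟨⟨hKK, fun a ha ha0 => ?_, h1⟩, fun x hx => ?_⟩
    · have hw0 : a *ᵥ v0 ≠ 0 := fun e => hv0 (hker a ha ha0 v0 e)
      have hsurj' : Function.Surjective (ev (a *ᵥ v0)) :=
        (LinearMap.injective_iff_surjective_of_finrank_eq_finrank (by rw [h1]; simp)).1 (hevi _ hw0)
      obtain ⟨b, hb⟩ := hsurj' v0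
      refine ⟨b, b.2, Matrix.ext_iff_mulVec.2 fun v => ?_⟩
      obtain ⟨k, rfl⟩ := hsurj v
      have hb' : (a * (b : Mat)) *ᵥ v0 = v0 := by
        rw [hKK a ha b b.2, ← Matrix.mulVec_mulVec]; exact hb
      rw [hev, Matrix.one_mulVec, Matrix.mulVec_mulVec, hKK _ (K.mul_mem ha b.2) k k.2, ← Matrix.mulVec_mulVec, hb']
    · obtain ⟨a, ha⟩ := hsurj ((x : Mat) *ᵥ v0)
      rw [hev] at ha
      have hax : (a : Mat) = (x : Mat) := Matrix.ext_iff_mulVec.2 fun v => by
        obtain ⟨k, rfl⟩ := hsurj v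
        rw [hev, Matrix.mulVec_mulVec, hKK a a.2 k k.2, ← Matrix.mulVec_mulVec, ha, Matrix.mulVec_mulVec,
          hKN k k.2 x hx, ← Matrix.mulVec_mulVec]
      exact hax ▸ a.2

theorem commute_of_val {x y : GL (Fin r) F} (h : (x : Mat) * (y : Mat) = (y : Mat) * (x : Mat)) : x * y = y * x :=
  Units.ext h

/-- An irreducible group of prime degree has scalar commutant or is commutative. -/
theorem scalarCommutant_or_comm [Finite F] (hr : r.Prime) {N : Subgroup (GL (Fin r) F)} (hN : Irr N) :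
    ScalarCommutant N ∨ ∀ x ∈ N, ∀ y ∈ N, x * y = y * x := by
  refine or_iff_not_imp_right.2 fun hnc M hM => ?_
  rcases commutant_field hr hN {M} (by rintro a rfl b rfl; rfl) (by rintro a rfl x hx; exact hM x hx) with h | ⟨hK, hx⟩
  · exact h M (Algebra.subset_adjoin rfl)
  · exact absurd (fun x h y h' => commute_of_val (hK.comm _ (hx x h) _ (hx y h'))) hnc

/-- A non-commutative normal subgroup of an irreducible group of prime degree is absolutely irreducible. -/
theorem abs_of_noncomm [Finite F] (hr : r.Prime) {G0 N : Subgroup (GL (Fin r) F)} (hG : Irr G0)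
    (hnorm : ∀ g ∈ G0, ∀ x ∈ N, g * x * g⁻¹ ∈ N) (hnc : ¬ ∀ x ∈ N, ∀ y ∈ N, x * y = y * x) :
    Irr N ∧ ScalarCommutant N := by
  have h := (irr_or_comm hr hG hnorm).resolve_right hnc
  exact ⟨h, (scalarCommutant_or_comm hr h).resolve_right hnc⟩

/-! ### Scalars -/

theorem scalar_comm {g : GL (Fin r) F} (hg : g ∈ Cfsg.Geo.scalars (Fin r) F) (x : GL (Fin r) F) : g * x = x * g := by
  obtain ⟨c, hc⟩ := (Cfsg.Geo.mem_scalars_iff g).1 hg
  exact Units.ext (by simp [Units.val_mul, hc])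

theorem mem_scalars_of_val {g : GL (Fin r) F} {c : F} (hr : 0 < r) (h : (g : Mat) = c • (1 : Mat)) :
    g ∈ Cfsg.Geo.scalars (Fin r) F := by
  refine (Cfsg.Geo.mem_scalars_iff g).2 ⟨Units.mk0 c fun e => ?_, h⟩
  have : NeZero r := ⟨hr.ne'⟩
  subst e
  rw [zero_smul] at h
  exact g.ne_zero h

theorem mem_scalars_of_commutant {N : Subgroup (GL (Fin r) F)} (hr : 0 < r) (hN : ScalarCommutant N) {g : GL (Fin r) F}
    (h : ∀ x ∈ N, g * x = x * g) : g ∈ Cfsg.Geo.scalars (Fin r) F := by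
  obtain ⟨c, hc⟩ := hN (g : Mat) fun x hx => by rw [← Units.val_mul, h x hx, Units.val_mul]
  exact mem_scalars_of_val hr hc

theorem commutator_scalars_le {Z : Subgroup (GL (Fin r) F)} (hZ : Z ≤ Cfsg.Geo.scalars (Fin r) F) :
    ∀ x ∈ Z, ∀ y ∈ Z, x * y = y * x := fun _ hx y _ => scalar_comm (hZ hx) y

/-- An element commuting modulo scalars with a perfect group commutes with it. -/
theorem commute_perfect {P : Subgroup (GL (Fin r) F)} (hP : ⁅P, P⁆ = P) {x : GL (Fin r) F}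
    (hx : ∀ y ∈ P, x * y * x⁻¹ * y⁻¹ ∈ Cfsg.Geo.scalars (Fin r) F) : ∀ y ∈ P, x * y = y * x := by
  intro y hy
  have hle : ⁅P, P⁆ ≤ Subgroup.centralizer {x} := by
    refine Subgroup.commutator_le.2 fun a ha b hb => ?_
    rw [Subgroup.mem_centralizer_singleton_iff]
    obtain ⟨c, hc, rfl⟩ : ∃ c ∈ Cfsg.Geo.scalars (Fin r) F, x * a * x⁻¹ * a⁻¹ = c := ⟨_, hx a ha, rfl⟩
    have h1 : x * a * x⁻¹ = (x * a * x⁻¹ * a⁻¹) * a := by group
    have h2 : x * b * x⁻¹ = (x * b * x⁻¹ * b⁻¹) * b := by group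
    have hd := hx b hb
    generalize x * a * x⁻¹ * a⁻¹ = c at h1 hc
    generalize x * b * x⁻¹ * b⁻¹ = d at h2 hd
    have h3 : x * ⁅a, b⁆ * x⁻¹ = ⁅a, b⁆ := by
      have : x * ⁅a, b⁆ * x⁻¹ = ⁅x * a * x⁻¹, x * b * x⁻¹⁆ := by simp only [commutatorElement_def]; group
      rw [this, h1, h2, commutatorElement_def, commutatorElement_def]
      have hc' : ∀ z, c * z = z * c := scalar_comm hc
      have hd' : ∀ z, d * z = z * d := scalar_comm hd
      calc c * a * (d * b) * (c * a)⁻¹ * (d * b)⁻¹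
          = c * (a * d) * b * a⁻¹ * c⁻¹ * b⁻¹ * d⁻¹ := by group
        _ = c * (d * a * b * a⁻¹) * c⁻¹ * b⁻¹ * d⁻¹ := by rw [← hd' a]; group
        _ = d * a * b * a⁻¹ * b⁻¹ * d⁻¹ := by rw [hc' (d * a * b * a⁻¹)]; group
        _ = a * b * a⁻¹ * b⁻¹ * d * d⁻¹ := by
          rw [← hd' (a * b * a⁻¹ * b⁻¹)]; group
        _ = a * b * a⁻¹ * b⁻¹ := by group
    symm
    calc x * ⁅a, b⁆ = x * ⁅a, b⁆ * x⁻¹ * x := by group
      _ = ⁅a, b⁆ * x := by rw [h3]
  rw [← hP] at hy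
  exact (Subgroup.mem_centralizer_singleton_iff.1 (hle hy)).symm

end Cfsg.Agent.PrimeDim
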