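import Cfsg.Agent.Lib.PrimeDim.Basic
import Cfsg.Agent.Lib.TransvMax.JordanSplit

/-!
Invariant forms of an absolutely irreducible group, and the proper containment of similarity groups.
-/

set_option autoImplicit false

namespace Cfsg.Agent.PrimeDim

open scoped Matrix MatrixGroups
open Module

variable {r : ℕ} {F : Type*} [Field F]

local notation "V" => Fin r → F

local notation "Mat" => Matrix (Fin r) (Fin r) F

/-- Linear in the first argument, semilinear in the second one. -/
structure IsSesq (σ : F ≃+* F) (f : V → V → F) : Prop where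
  add_left : ∀ x y v, f (x + y) v = f x v + f y v
  smul_left : ∀ (c : F) (x v : V), f (c • x) v = c * f x v
  add_right : ∀ v x y, f v (x + y) = f v x + f v y
  smul_right : ∀ (c : F) (v x : V), f v (c • x) = σ c * f v x

theorem IsSesq.of_bilinear {f : V → V → F} (h : Cfsg.Geo.IsBilinearForm f) : IsSesq (RingEquiv.refl F) f :=
  ⟨h.add_left, h.smul_left, h.add_right, h.smul_right⟩

theorem IsSesq.of_unitary {σ : F ≃+* F} {f : V → V → F} (h : Cfsg.Geo.IsUnitaryForm σ f) : IsSesq σ f :=
  ⟨h.add_left, h.smul_left, fun v x y => by rw [h.herm, h.add_left, map_add, ← h.herm, ← h.herm],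
    fun c v x => by rw [h.herm, h.smul_left, map_mul, ← h.herm]⟩

variable {σ : F ≃+* F} {f : (Fin r → F) → (Fin r → F) → F}

theorem IsSesq.sum_left (hf : IsSesq σ f) {κ : Type*} (s : Finset κ) (x : κ → V) (v : V) :
    f (∑ i ∈ s, x i) v = ∑ i ∈ s, f (x i) v := by
  classical
  induction s using Finset.induction with
  | empty => simpa using hf.smul_left 0 0 v
  | insert a s ha ih => rw [Finset.sum_insert ha, Finset.sum_insert ha, hf.add_left, ih]

theorem IsSesq.sum_right (hf : IsSesq σ f) {κ : Type*} (s : Finset κ) (x : κ → V) (v : V) :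
    f v (∑ i ∈ s, x i) = ∑ i ∈ s, f v (x i) := by
  classical
  induction s using Finset.induction with
  | empty => simpa using hf.smul_right 0 v 0
  | insert a s ha ih => rw [Finset.sum_insert ha, Finset.sum_insert ha, hf.add_right, ih]

/-- The Gram matrix. -/
def gram (f : V → V → F) : Mat := fun i j => f (Pi.single i 1) (Pi.single j 1)

theorem IsSesq.eq_gram (hf : IsSesq σ f) (u v : V) :
    f u v = u ⬝ᵥ (gram f *ᵥ fun i => σ (v i)) := by
  classical
  conv_lhs => rw [pi_eq_sum_univ' u, hf.sum_left]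
  refine Finset.sum_congr rfl fun i _ => ?_
  rw [hf.smul_left]
  congr 1
  conv_lhs => rw [pi_eq_sum_univ' v, hf.sum_right]
  refine Finset.sum_congr rfl fun j _ => ?_
  rw [hf.smul_right, mul_comm]
  rfl

theorem IsSesq.comp (hf : IsSesq σ f) (g : Mat) : IsSesq σ fun u v => f (g *ᵥ u) (g *ᵥ v) where
  add_left x y v := by simp only [Matrix.mulVec_add, hf.add_left]
  smul_left c x v := by simp only [Matrix.mulVec_smul, hf.smul_left]
  add_right v x y := by simp only [Matrix.mulVec_add, hf.add_right]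
  smul_right c v x := by simp only [Matrix.mulVec_smul, hf.smul_right]

theorem IsSesq.gram_comp (hf : IsSesq σ f) (g : Mat) :
    gram (fun u v => f (g *ᵥ u) (g *ᵥ v)) = gᵀ * gram f * g.map σ := by
  classical
  ext i j
  show f _ _ = _
  have h : (fun k => σ ((g *ᵥ Pi.single j 1) k)) = g.map σ *ᵥ Pi.single j 1 := by
    funext k
    simp
  rw [hf.eq_gram, h, Matrix.mulVec_mulVec, ← Matrix.vecMul_transpose,
    ← Matrix.dotProduct_mulVec, Matrix.mulVec_mulVec, single_dotProduct, one_mul, ← mul_assoc,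
    Matrix.mulVec_single_one, Matrix.col_apply]

theorem det_gram_ne_zero (hf : IsSesq σ f) (hn : Cfsg.Geo.IsNondegenerateForm f) : Matrix.det (gram f : Mat) ≠ (0 : F) := by
  classical
  intro h
  obtain ⟨v, hv, hv'⟩ := Matrix.exists_mulVec_eq_zero_iff.2 h
  obtain ⟨⟨x, hx⟩, -⟩ := hn (fun i => σ.symm (v i)) fun e => hv (funext fun i => by simpa using congrFun e i)
  refine hx ?_
  rw [hf.eq_gram]
  simp [hv']

/-- Two invariant forms, one of them non-degenerate, are proportional. -/
theorem form_unique {N : Subgroup (GL (Fin r) F)} (hN : ScalarCommutant N) (hf : IsSesq σ f)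
    (hn : Cfsg.Geo.IsNondegenerateForm f) {f' : V → V → F} (hf' : IsSesq σ f')
    (hfix : Cfsg.Geo.FixesForm (Cfsg.Geo.matrixSet N) f) (hfix' : Cfsg.Geo.FixesForm (Cfsg.Geo.matrixSet N) f') :
    ∃ c : F, ∀ u v, f' u v = c * f u v := by
  classical
  set J := gram f with hJ
  set J' := gram f' with hJ'
  have hinv : ∀ {k : V → V → F}, IsSesq σ k → Cfsg.Geo.FixesForm (Cfsg.Geo.matrixSet N) k → ∀ x ∈ N,
      (x : Mat)ᵀ * gram k * (x : Mat).map σ = gram k := by
    intro k hk hkfix x hx
    rw [← hk.gram_comp]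
    congr 1
    funext u v
    exact hkfix _ ⟨x, hx, rfl⟩ u v
  have hd : IsUnit J.det := (det_gram_ne_zero hf hn).isUnit
  have hT : ∀ x ∈ N, (J' * J⁻¹) * (x : Mat)ᵀ = (x : Mat)ᵀ * (J' * J⁻¹) := by
    intro x hx
    have hxi : (x : Mat).map σ * ((x⁻¹ : GL (Fin r) F) : Mat).map σ = 1 := by
      rw [← Matrix.map_mul, ← Units.val_mul, mul_inv_cancel, Units.val_one, Matrix.map_one _ (map_zero σ) (map_one σ)]
    have h1 : (x : Mat)ᵀ * J = J * ((x⁻¹ : GL (Fin r) F) : Mat).map σ := by
      have := congrArg (· * ((x⁻¹ : GL (Fin r) F) : Mat).map σ) (hinv hf hfix x hx)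
      rwa [mul_assoc, hxi, mul_one] at this
    have h2 : (x : Mat)ᵀ * J' = J' * ((x⁻¹ : GL (Fin r) F) : Mat).map σ := by
      have := congrArg (· * ((x⁻¹ : GL (Fin r) F) : Mat).map σ) (hinv hf' hfix' x hx)
      rwa [mul_assoc, hxi, mul_one] at this
    have h3 : ((x⁻¹ : GL (Fin r) F) : Mat).map σ = J⁻¹ * ((x : Mat)ᵀ * J) := by
      rw [h1, Matrix.nonsing_inv_mul_cancel_left _ _ hd]
    rw [← mul_assoc (x : Mat)ᵀ, h2, h3, mul_assoc, mul_assoc, mul_assoc, mul_assoc, Matrix.mul_nonsing_inv _ hd, mul_one]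
  obtain ⟨c, hc⟩ := hN (J' * J⁻¹)ᵀ fun x hx => by
    have := congrArg Matrix.transpose (hT x hx)
    simp only [Matrix.transpose_mul, Matrix.transpose_transpose] at this ⊢
    exact this.symm
  refine ⟨c, fun u v => ?_⟩
  have h4 : J' * J⁻¹ = c • (1 : Mat) := by simpa using congrArg Matrix.transpose hc
  have h5 : J' = c • J := by
    calc J' = J' * J⁻¹ * J := (Matrix.nonsing_inv_mul_cancel_right _ _ hd).symm
      _ = c • J := by rw [h4, smul_mul_assoc, one_mul]
  rw [hf.eq_gram, hf'.eq_gram, ← hJ, ← hJ', h5, Matrix.smul_mulVec, dotProduct_smul, smul_eq_mul]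

/-- The normaliser of an absolutely irreducible group of isometries consists of similarities. -/
theorem mem_similarity [NeZero r] {N : Subgroup (GL (Fin r) F)} (hN : ScalarCommutant N) (hf : IsSesq σ f)
    (hn : Cfsg.Geo.IsNondegenerateForm f) (hfix : Cfsg.Geo.FixesForm (Cfsg.Geo.matrixSet N) f)
    {h : GL (Fin r) F} (hh : ∀ x ∈ N, h * x * h⁻¹ ∈ N) : h ∈ Cfsg.Geo.similarityGroup f := by
  obtain ⟨c, hc⟩ := form_unique hN hf hn (hf.comp (h : Mat)) hfix (by
    rintro _ ⟨x, hx, rfl⟩ u v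
    have h1 := hfix _ ⟨_, hh x hx, rfl⟩ ((h : Mat) *ᵥ u) ((h : Mat) *ᵥ v)
    simpa only [Units.val_mul, ← Matrix.mulVec_mulVec, TransvMax.inv_mulVec_mulVec] using h1)
  refine ⟨Units.mk0 c fun hc0 => ?_, hc⟩
  obtain ⟨⟨x, hx⟩, -⟩ := hn (fun _ => (1 : F)) fun e => one_ne_zero (congrFun e 0)
  refine hx ?_
  have h1 := hc (((h⁻¹ : GL (Fin r) F) : Mat) *ᵥ x) (((h⁻¹ : GL (Fin r) F) : Mat) *ᵥ fun _ => (1 : F))
  rw [hc0, zero_mul, TransvMax.mulVec_inv_mulVec, TransvMax.mulVec_inv_mulVec] at h1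
  exact h1

theorem polar_self {Q : V → F} (hQ : Cfsg.Geo.IsNondegenerateQuadraticForm Q) (v : V) :
    QuadraticMap.polar Q v v = 2 * Q v := by
  rw [QuadraticMap.polar, ← two_smul F v, hQ.smul]
  ring

theorem mem_quadSimilarity [NeZero r] {N : Subgroup (GL (Fin r) F)} (h2 : (2 : F) ≠ 0) (hN : ScalarCommutant N)
    {Q : V → F} (hQ : Cfsg.Geo.IsNondegenerateQuadraticForm Q)
    (hfix : Cfsg.Geo.FixesQuadForm (Cfsg.Geo.matrixSet N) Q)
    {h : GL (Fin r) F} (hh : ∀ x ∈ N, h * x * h⁻¹ ∈ N) : h ∈ Cfsg.Geo.quadSimilarityGroup Q := by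
  obtain ⟨c, hc⟩ := mem_similarity hN (IsSesq.of_bilinear hQ.polar_bilinear) hQ.nondegenerate
    (fun s hs u v => by simp only [QuadraticMap.polar, ← Matrix.mulVec_add, hfix s hs]) hh
  refine ⟨c, fun v => mul_left_cancel₀ h2 ?_⟩
  rw [← polar_self hQ, hc, polar_self hQ]
  ring

/-- There is no non-degenerate alternating form in odd dimension. -/
theorem no_alternating (hr : Odd r) {g : V → V → F} (hb : Cfsg.Geo.IsBilinearForm g) (halt : ∀ v, g v v = 0)
    (hn : Cfsg.Geo.IsNondegenerateForm g) : False := by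
  let B : LinearMap.BilinForm F V :=
    LinearMap.mk₂ F g hb.add_left hb.smul_left hb.add_right hb.smul_right
  have h := JordanOrth.even_rank (B := B) (W := ⊤) (fun w _ hw => by
    by_contra h0
    obtain ⟨-, x, hx⟩ := hn w h0
    exact hx (hw x trivial)) LinearMap.id le_top (fun u => halt u)
  rw [Submodule.map_id, finrank_top, finrank_fintype_fun_eq_card, Fintype.card_fin] at h
  exact Nat.not_even_iff_odd.2 hr h

theorem no_symplectic (hr : Odd r) {g : V → V → F} (hg : Cfsg.Geo.IsSymplecticForm g) : False :=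
  no_alternating hr hg.bilinear hg.alternating hg.nondegenerate

theorem two_ne_zero_of_quad (hr : Odd r) {Q : V → F} (hQ : Cfsg.Geo.IsNondegenerateQuadraticForm Q) :
    (2 : F) ≠ 0 := fun h =>
  no_alternating hr hQ.polar_bilinear (fun v => by rw [polar_self hQ, h, zero_mul]) hQ.nondegenerate

/-- Two independent vectors in the kernel of a functional, one of them prescribed. -/
theorem exists_functional (v w : V) (h : ∀ a b : F, a • v + b • w = 0 → a = 0 ∧ b = 0) :
    ∃ φ : V, φ ⬝ᵥ w = 0 ∧ φ ⬝ᵥ v = 1 := by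
  classical
  have hli : LinearIndependent F ![v, w] := LinearIndependent.pair_iff.2 h
  obtain ⟨ψ, hψ⟩ := Submodule.exists_dual_map_eq_bot_of_notMem (p := Submodule.span F {w}) (x := v) (fun hm => by
    obtain ⟨b, hb⟩ := Submodule.mem_span_singleton.1 hm
    exact one_ne_zero (h 1 (-b) (by rw [one_smul, ← hb, neg_smul, add_neg_cancel])).1) inferInstance
  refine ⟨fun i => (ψ v)⁻¹ * ψ (Pi.single i 1), ?_, ?_⟩
  all_goals
    have key : ∀ u : V, (fun i => (ψ v)⁻¹ * ψ (Pi.single i 1)) ⬝ᵥ u = (ψ v)⁻¹ * ψ u := by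
      intro u
      conv_rhs => rw [pi_eq_sum_univ' u, map_sum, Finset.mul_sum]
      refine Finset.sum_congr rfl fun i _ => ?_
      rw [map_smul, smul_eq_mul]
      ring
  · rw [key]
    have : ψ w ∈ (Submodule.span F {w}).map ψ := Submodule.mem_map_of_mem (Submodule.mem_span_singleton_self w)
    rw [hψ.2, Submodule.mem_bot] at this
    rw [this, mul_zero]
  · rw [key, inv_mul_cancel₀ hψ.1]

/-- A hyperplane vector orthogonal to everything. -/
theorem sl_not_le_similarity (hr : 3 ≤ r) (hf : IsSesq σ f) (hn : Cfsg.Geo.IsNondegenerateForm f) :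
    ¬ Cfsg.Geo.specialLinear (Fin r) F ≤ Cfsg.Geo.similarityGroup f := by
  classical
  intro hle
  have key : ∀ (w φ : V) (h : φ ⬝ᵥ w = 0) (u : V), φ ⬝ᵥ u = 0 → ∀ v, φ ⬝ᵥ v = 1 → f u w = 0 := by
    intro w φ h u hu v hv
    obtain ⟨c, hc⟩ := hle (TransvMax.trv_mem_specialLinear w φ h)
    have hc1 : (c : F) = 1 := by
      by_contra hne
      have hker : ∀ a b, φ ⬝ᵥ a = 0 → φ ⬝ᵥ b = 0 → f a b = 0 := by
        intro a b ha hb
        have h1 := hc a b
        rw [TransvMax.trv_mulVec, TransvMax.trv_mulVec, ha, hb, zero_smul, add_zero, add_zero] at h1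
        have : ((c : F) - 1) * f a b = 0 := by linear_combination -h1
        exact (mul_eq_zero.1 this).resolve_left (sub_ne_zero.2 hne)
      let L1 : V →ₗ[F] F :=
        { toFun := fun a => φ ⬝ᵥ a, map_add' := dotProduct_add φ, map_smul' := fun a b => by simp }
      let L2 : V →ₗ[F] F :=
        { toFun := fun a => f a v, map_add' := fun a b => hf.add_left a b v, map_smul' := fun a b => hf.smul_left a b v }
      have hk : LinearMap.ker (L1.prod L2) ≠ ⊥ := by
        intro e
        have h1 := LinearMap.finrank_le_finrank_of_injective (LinearMap.ker_eq_bot.1 e)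
        simp [finrank_fintype_fun_eq_card] at h1
        omega
      obtain ⟨a, ha, ha0⟩ := Submodule.exists_mem_ne_zero_of_ne_bot hk
      rw [LinearMap.mem_ker, LinearMap.prod_apply] at ha
      have ha1 : φ ⬝ᵥ a = 0 := congrArg Prod.fst ha
      have ha2 : f a v = 0 := congrArg Prod.snd ha
      obtain ⟨-, x, hx⟩ := hn a ha0
      refine hx ?_
      rw [show x = (x - (φ ⬝ᵥ x) • v) + (φ ⬝ᵥ x) • v by abel, hf.add_right, hf.smul_right, ha2, mul_zero, add_zero]
      exact hker a _ ha1 (by rw [dotProduct_sub, dotProduct_smul, hv, smul_eq_mul, mul_one, sub_self])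
    have h1 := hc u v
    rw [TransvMax.trv_mulVec, TransvMax.trv_mulVec, hu, hv, zero_smul, add_zero, one_smul, hf.add_right, hc1,
      one_mul] at h1
    exact add_eq_left.1 h1
  have hind : ∀ u w : V, (∀ a b : F, a • u + b • w = 0 → a = 0 ∧ b = 0) → f u w = 0 := by
    intro u w huw
    let L : V →ₗ[F] F × F :=
      LinearMap.prod { toFun := fun a => a ⬝ᵥ u, map_add' := fun a b => add_dotProduct a b u, map_smul' := fun a b => by simp }
        { toFun := fun a => a ⬝ᵥ w, map_add' := fun a b => add_dotProduct a b w, map_smul' := fun a b => by simp }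
    have hk : LinearMap.ker L ≠ ⊥ := by
      intro e
      have h1 := LinearMap.finrank_le_finrank_of_injective (LinearMap.ker_eq_bot.1 e)
      simp [finrank_fintype_fun_eq_card] at h1
      omega
    obtain ⟨φ, hφ, hφ0⟩ := Submodule.exists_mem_ne_zero_of_ne_bot hk
    obtain ⟨i, hi⟩ : ∃ i, φ i ≠ 0 := Function.ne_iff.1 hφ0
    refine key w φ (congrArg Prod.snd hφ) u (congrArg Prod.fst hφ) (Pi.single i (φ i)⁻¹) ?_
    rw [dotProduct_single, mul_inv_cancel₀ hi]
  haveI : NeZero r := ⟨by omega⟩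
  set e0 : V := Pi.single 0 1
  have he0 : e0 ≠ 0 := fun e => by simpa [e0] using congrFun e 0
  obtain ⟨-, x, hx⟩ := hn e0 he0
  refine hx ?_
  by_cases hxe : ∀ a b : F, a • e0 + b • x = 0 → a = 0 ∧ b = 0
  · exact hind e0 x hxe
  · push Not at hxe
    obtain ⟨a, b, hab, hne⟩ := hxe
    have hb : b ≠ 0 := fun hb0 => by
      subst hb0
      rw [zero_smul, add_zero, smul_eq_zero] at hab
      exact hne (hab.resolve_right he0) rfl
    set e1 : V := Pi.single ⟨1, by omega⟩ 1
    have hi1 : ∀ i : Fin r, i ≠ ⟨1, by omega⟩ → e1 i = 0 := fun i hi => Pi.single_eq_of_ne hi _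
    have h01 : (0 : Fin r) ≠ ⟨1, by omega⟩ := fun e => by simpa using congrArg Fin.val e
    have hA : f e0 e1 = 0 := hind _ _ fun s t hst => by
      have h1 := congrFun hst 0
      have h2 := congrFun hst ⟨1, by omega⟩
      simp [e0, e1, h01, h01.symm] at h1 h2
      exact ⟨h1, h2⟩
    have hB : f e0 (e0 + e1) = 0 := hind _ _ fun s t hst => by
      have h1 := congrFun hst 0
      have h2 := congrFun hst ⟨1, by omega⟩
      simp [e0, e1, h01, h01.symm] at h1 h2
      subst h2
      simpa using h1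
    rw [hf.add_right, hA, add_zero] at hB
    have hxx : x = (-(b⁻¹ * a)) • e0 := by
      have := congrArg (b⁻¹ • ·) hab
      simp only [smul_add, smul_smul, inv_mul_cancel₀ hb, one_smul, smul_zero] at this
      rw [neg_smul]
      exact eq_neg_of_add_eq_zero_right this
    rw [hxx, hf.smul_right, hB, mul_zero]

theorem sl_not_le_quad (hr : 3 ≤ r) {Q : V → F} (hQ : Cfsg.Geo.IsNondegenerateQuadraticForm Q) :
    ¬ Cfsg.Geo.specialLinear (Fin r) F ≤ Cfsg.Geo.quadSimilarityGroup Q := fun hle =>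
  sl_not_le_similarity hr (IsSesq.of_bilinear hQ.polar_bilinear) hQ.nondegenerate fun g hg => by
    obtain ⟨c, hc⟩ := hle hg
    exact ⟨c, fun u v => by simp only [QuadraticMap.polar, ← Matrix.mulVec_add, hc]; ring⟩

end Cfsg.Agent.PrimeDim
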