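import Cfsg.Agent.Lib.PrimeDim.Forms
import Cfsg.Agent.Lib.TransvMax.SubfieldRat

/-!
The geometric subgroups do not contain the special linear group, and the special linear group is generated
by elements of prime order, so a maximal subgroup contains the scalars.
-/

set_option autoImplicit false

namespace Cfsg.Agent.PrimeDim

open scoped Matrix MatrixGroups
open Module

variable {r : ℕ} {F : Type*} [Field F]

local notation "V" => Fin r → F

local notation "Mat" => Matrix (Fin r) (Fin r) F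

theorem two_indices (hr : 2 ≤ r) : (⟨0, by omega⟩ : Fin r) ≠ ⟨1, by omega⟩ := fun e => by
  simpa using congrArg Fin.val e

theorem exists_dot_eq_one {w : V} (hw : w ≠ 0) : ∃ φ : V, φ ⬝ᵥ w = 1 := by
  obtain ⟨i, hi⟩ : ∃ i, w i ≠ 0 := Function.ne_iff.1 hw
  exact ⟨Pi.single i (w i)⁻¹, by rw [single_dotProduct, inv_mul_cancel₀ hi]⟩

theorem sl_not_le_subspace {W : Submodule F V} (h0 : W ≠ ⊥) (h1 : W ≠ ⊤) :
    ¬ Cfsg.Geo.specialLinear (Fin r) F ≤ Cfsg.Geo.subspaceStabilizer W := by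
  intro hle
  obtain ⟨w, hw, hw0⟩ := Submodule.exists_mem_ne_zero_of_ne_bot h0
  obtain ⟨u, hu⟩ : ∃ u, u ∉ W := by
    by_contra h
    push Not at h
    exact h1 (Submodule.eq_top_iff'.2 h)
  obtain ⟨φ, hφu, hφw⟩ := exists_functional w u fun a b hab => by
    have hb : b = 0 := by
      by_contra hb
      refine hu ?_
      have h2 : b • u ∈ W := by
        rw [eq_neg_of_add_eq_zero_right hab]
        exact W.neg_mem (W.smul_mem a hw)
      simpa [smul_smul, inv_mul_cancel₀ hb] using W.smul_mem b⁻¹ h2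
    subst hb
    rw [zero_smul, add_zero, smul_eq_zero] at hab
    exact ⟨hab.resolve_right hw0, rfl⟩
  have h3 := hle (TransvMax.trv_mem_specialLinear u φ hφu)
  have h4 : ((TransvMax.trv u φ hφu : GL (Fin r) F) : Mat) *ᵥ w ∈ W := by
    exact (h3 w).1 hw
  rw [TransvMax.trv_mulVec, hφw, one_smul] at h4
  exact hu (by simpa using W.sub_mem h4 hw)

theorem sl_not_le_lines (hr : 3 ≤ r) (b : Basis (Fin r) F V) :
    ¬ Cfsg.Geo.specialLinear (Fin r) F ≤ Cfsg.Geo.decompositionStabilizer fun i => Submodule.span F {b i} := by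
  intro hle
  have h01 := two_indices (r := r) (by omega)
  obtain ⟨φ, hφ1, hφ0⟩ := exists_functional (b ⟨0, by omega⟩) (b ⟨1, by omega⟩) fun x y hxy => by
    have h0 := congrArg (fun w => b.repr w ⟨0, by omega⟩) hxy
    have h1 := congrArg (fun w => b.repr w ⟨1, by omega⟩) hxy
    simp [h01, h01.symm] at h0 h1
    exact ⟨h0, h1⟩
  obtain ⟨σ, hσ⟩ := hle (TransvMax.trv_mem_specialLinear (b ⟨1, by omega⟩) φ hφ1)
  have h1 := (hσ ⟨0, by omega⟩).le (Submodule.mem_map_of_mem (Submodule.mem_span_singleton_self _))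
  rw [Matrix.toLin'_apply, TransvMax.trv_mulVec, hφ0, one_smul] at h1
  obtain ⟨c, hc⟩ := Submodule.mem_span_singleton.1 h1
  have hk : ∀ k, (b.repr (c • b (σ ⟨0, by omega⟩))) k = (b.repr (b ⟨0, by omega⟩ + b ⟨1, by omega⟩)) k := fun k => by
    rw [hc]
  simp only [map_add, map_smul, Basis.repr_self, Finsupp.smul_apply, Finsupp.add_apply] at hk
  by_cases h : σ ⟨0, by omega⟩ = ⟨0, by omega⟩
  · have := hk ⟨1, by omega⟩
    simp [h, Finsupp.single_apply, h01, h01.symm] at this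
  · have := hk ⟨0, by omega⟩
    simp [h, Finsupp.single_apply, h01, h01.symm, Ne.symm h] at this

theorem field_sub_scalar {K : Subalgebra F Mat} (hK : Cfsg.Geo.IsFieldSubalgebra r K) (hr : 2 ≤ r) :
    ∃ k ∈ K, ∀ c : F, k ≠ c • (1 : Mat) := by
  by_contra h
  push Not at h
  have hle : Subalgebra.toSubmodule K ≤ Submodule.span F {(1 : Mat)} := fun k hk => by
    obtain ⟨c, rfl⟩ := h k hk
    exact Submodule.smul_mem _ _ (Submodule.mem_span_singleton_self _)
  have h1 := Submodule.finrank_mono hle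
  have h2 := finrank_span_le_card (R := F) ({1} : Set Mat)
  have h3 := hK.finrank_eq
  simp only [Set.toFinset_singleton, Finset.card_singleton] at h2
  rw [show finrank F (Subalgebra.toSubmodule K) = finrank F K from rfl] at h1
  omega

theorem sl_not_le_field (hr : 3 ≤ r) {K : Subalgebra F Mat} (hK : Cfsg.Geo.IsFieldSubalgebra r K) :
    ¬ Cfsg.Geo.specialLinear (Fin r) F ≤ Cfsg.Geo.subalgebraNormalizer K := by
  intro hle
  haveI : NeZero r := ⟨by omega⟩
  obtain ⟨k, hk, hks⟩ := field_sub_scalar hK (by omega)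
  have hk0 : k ≠ 0 := fun e => hks 0 (by rw [e, zero_smul])
  obtain ⟨kinv, hkinv, hki⟩ := hK.inv k hk hk0
  have hcomm : ∀ (v φ : V) (h : φ ⬝ᵥ v = 0),
      ((TransvMax.trv v φ h : GL (Fin r) F) : Mat) * k = k * ((TransvMax.trv v φ h : GL (Fin r) F) : Mat) := by
    intro v φ h
    set t := TransvMax.trv v φ h
    have ht : (t : Mat) * k * ((t⁻¹ : GL (Fin r) F) : Mat) * kinv ∈ K :=
      K.mul_mem ((hle (TransvMax.trv_mem_specialLinear v φ h) k).1 hk) hkinv
    set X : Mat := (t : Mat) * k * ((t⁻¹ : GL (Fin r) F) : Mat) * kinv - 1 with hX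
    have hXK : X ∈ K := K.sub_mem ht K.one_mem
    by_cases hX0 : X = 0
    · rw [hX, sub_eq_zero] at hX0
      have h2 := congrArg (fun M => M * k * (t : Mat)) hX0
      have hki' : kinv * k = 1 := by rw [hK.comm _ hkinv _ hk]; exact hki
      have hti : ((t⁻¹ : GL (Fin r) F) : Mat) * (t : Mat) = 1 := by rw [← Units.val_mul]; simp
      simp only [mul_assoc, one_mul] at h2
      rw [← mul_assoc kinv k, hki', one_mul, hti, mul_one] at h2
      exact h2
    exfalso
    obtain ⟨Y, -, hXY⟩ := hK.inv X hXK hX0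
    have hrange : ∀ u : V, ∃ a b : F, X *ᵥ u = a • v + b • (k *ᵥ v) := by
      intro u
      set s : V := kinv *ᵥ u
      refine ⟨φ ⬝ᵥ (k *ᵥ (s + ((-φ) ⬝ᵥ s) • v)), (-φ) ⬝ᵥ s, ?_⟩
      have htinv : ((t⁻¹ : GL (Fin r) F) : Mat) *ᵥ s = s + ((-φ) ⬝ᵥ s) • v := by
        show (1 - Matrix.vecMulVec v φ) *ᵥ s = _
        rw [Matrix.sub_mulVec, Matrix.one_mulVec, Matrix.vecMulVec_mulVec, op_smul_eq_smul, neg_dotProduct,
          neg_smul, sub_eq_add_neg]
      have hks' : k *ᵥ s = u := by rw [Matrix.mulVec_mulVec, hki, Matrix.one_mulVec]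
      rw [hX, Matrix.sub_mulVec, Matrix.one_mulVec, ← Matrix.mulVec_mulVec, ← Matrix.mulVec_mulVec,
        ← Matrix.mulVec_mulVec, htinv, TransvMax.trv_mulVec]
      conv_lhs => arg 1; arg 1; rw [Matrix.mulVec_add, hks', Matrix.mulVec_smul]
      abel
    have htop : (⊤ : Submodule F V) ≤ Submodule.span F (Set.range ![v, k *ᵥ v]) := by
      intro u _
      obtain ⟨a, b, hab⟩ := hrange (Y *ᵥ u)
      rw [Matrix.mulVec_mulVec, hXY, Matrix.one_mulVec] at hab
      rw [hab]
      exact add_mem (Submodule.smul_mem _ _ (Submodule.subset_span ⟨0, rfl⟩))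
        (Submodule.smul_mem _ _ (Submodule.subset_span ⟨1, rfl⟩))
    have h1 := Submodule.finrank_mono htop
    have h2 := finrank_range_le_card (R := F) ![v, k *ᵥ v]
    rw [finrank_top, finrank_fintype_fun_eq_card, Fintype.card_fin] at h1
    rw [Set.finrank, Fintype.card_fin] at h2
    omega
  have heig : ∀ v : V, ∃ c : F, k *ᵥ v = c • v := by
    intro v
    by_cases hv : v = 0
    · exact ⟨0, by simp [hv]⟩
    obtain ⟨φ, hφ, hφ0⟩ : ∃ φ : V, φ ⬝ᵥ v = 0 ∧ φ ≠ 0 := by
      let L : V →ₗ[F] F :=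
        { toFun := fun a => a ⬝ᵥ v, map_add' := fun a b => add_dotProduct a b v, map_smul' := fun a b => by simp }
      have hk : LinearMap.ker L ≠ ⊥ := by
        intro e
        have h1 := LinearMap.finrank_le_finrank_of_injective (LinearMap.ker_eq_bot.1 e)
        simp [finrank_fintype_fun_eq_card] at h1
        omega
      obtain ⟨φ, hφ, h0⟩ := Submodule.exists_mem_ne_zero_of_ne_bot hk
      exact ⟨φ, hφ, h0⟩
    obtain ⟨x, hx⟩ := exists_dot_eq_one hφ0
    rw [dotProduct_comm] at hx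
    refine ⟨φ ⬝ᵥ (k *ᵥ x), ?_⟩
    have h1 := congrArg (· *ᵥ x) (hcomm v φ hφ)
    simp only [← Matrix.mulVec_mulVec, TransvMax.trv_mulVec, hx, one_smul, Matrix.mulVec_add] at h1
    exact (add_left_cancel h1).symm
  obtain ⟨c, hc⟩ := (LinearMap.exists_eq_smul_id_of_forall_notLinearIndependent (f := Matrix.toLin' k) fun v => by
    rw [LinearIndependent.pair_iff]
    intro h
    obtain ⟨c, hc⟩ := heig v
    have := (h c (-1) (by rw [Matrix.toLin'_apply, hc, neg_smul, one_smul, add_neg_cancel])).2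
    simp at this)
  refine hks c ?_
  have := congrArg LinearMap.toMatrix' hc
  rwa [LinearMap.toMatrix'_toLin', map_smul, LinearMap.toMatrix'_one] at this

theorem sl_not_le_subfield (hr : 3 ≤ r) {F₀ : Subfield F} (hF₀ : F₀ ≠ ⊤) (P : GL (Fin r) F) :
    ¬ Cfsg.Geo.specialLinear (Fin r) F ≤ Cfsg.Geo.subfieldSubgroup F₀ P := by
  intro hle
  obtain ⟨a, ha⟩ : ∃ a : F, a ∉ F₀ := by
    by_contra h
    push Not at h
    exact hF₀ (top_unique fun x _ => h x)
  have h01 := two_indices (r := r) (by omega)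
  set i0 : Fin r := ⟨0, by omega⟩
  set i1 : Fin r := ⟨1, by omega⟩
  set u : V := (P : Mat) *ᵥ Pi.single i0 1
  set ψ : V := (Pi.single i1 a) ᵥ* ((P⁻¹ : GL (Fin r) F) : Mat)
  have hψ : ψ ⬝ᵥ u = 0 := by
    rw [TransvMax.vecMul_inv_dot, single_dotProduct, Pi.single_eq_of_ne h01.symm, mul_zero]
  obtain ⟨c, hc, h⟩ := (TransvMax.mem_subfieldSubgroup_iff F₀ P _).1 (hle (TransvMax.trv_mem_specialLinear u ψ hψ))
  have hcv : ∀ j : Fin r, (fun i => ((Pi.single j 1 : Fin r → F₀) i : F)) = Pi.single j 1 := fun j => by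
    funext i
    by_cases hij : i = j
    · subst hij; simp
    · simp [Pi.single_eq_of_ne hij]
  have hcoord : ∀ j : Fin r, ∃ y : Fin r → F₀,
      c • (Pi.single j 1 + (if j = i1 then a else 0) • Pi.single i0 1 : V) = fun i => (y i : F) := by
    intro j
    obtain ⟨y, hy⟩ := h (Pi.single j 1)
    refine ⟨y, ?_⟩
    rw [TransvMax.ratEmb, hcv, TransvMax.trv_mulVec, ← Matrix.dotProduct_mulVec, TransvMax.inv_mulVec_mulVec,
      single_dotProduct, TransvMax.ratEmb, ← Matrix.mulVec_smul, ← Matrix.mulVec_add, ← Matrix.mulVec_smul] at hy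
    have h2 := congrArg (((P⁻¹ : GL (Fin r) F) : Mat) *ᵥ ·) hy
    simp only [TransvMax.inv_mulVec_mulVec] at h2
    rw [← h2]
    by_cases hj : j = i1
    · subst hj; simp
    · simp [hj, Ne.symm hj]
  obtain ⟨y, hy⟩ := hcoord i0
  obtain ⟨z, hz⟩ := hcoord i1
  have h1 := congrFun hy i0
  have h2 := congrFun hz i0
  simp [h01, h01.symm] at h1 h2
  refine ha ?_
  rw [show a = (z i0 : F) / (y i0 : F) by rw [← h1, ← h2]; field_simp]
  exact F₀.div_mem (SetLike.coe_mem _) (SetLike.coe_mem _)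

/-- A maximal subgroup of the special linear group contains its scalars. -/
theorem scalars_le [Fintype F] (hr : r.Prime) {H : Subgroup (GL (Fin r) F)}
    (hH : Cfsg.Geo.IsMaximalIn (Cfsg.Geo.specialLinear (Fin r) F) H) :
    Cfsg.Geo.scalars (Fin r) F ⊓ Cfsg.Geo.specialLinear (Fin r) F ≤ H := by
  classical
  haveI : NeZero r := ⟨hr.ne_zero⟩
  set Z := Cfsg.Geo.scalars (Fin r) F ⊓ Cfsg.Geo.specialLinear (Fin r) F with hZ
  rcases hH.2 (H ⊔ Z) le_sup_left (sup_le hH.1.le inf_le_right) with h | h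
  · rw [← h]; exact le_sup_right
  exfalso
  refine hH.1.not_ge (TransvMax.specialLinear_le_of_trv fun v φ hvφ => ?_)
  set t := TransvMax.trv v φ hvφ with ht
  have htm : t ∈ H ⊔ Z := h.ge (TransvMax.trv_mem_specialLinear v φ hvφ)
  have hnorm : ∀ (n : ℕ), ((t ^ n : GL (Fin r) F) : Mat) = 1 + (n : F) • Matrix.vecMulVec v φ := by
    intro n
    induction n with
    | zero => simp
    | succ n ih =>
      rw [pow_succ, Units.val_mul, ih]
      show _ * (1 + Matrix.vecMulVec v φ) = _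
      rw [add_mul, mul_add, mul_add, one_mul, mul_one, one_mul, smul_mul_assoc, Matrix.vecMulVec_mul_vecMulVec, hvφ]
      simp [add_smul]
      abel
  obtain ⟨hh, hhH, z, hz, hhz⟩ : ∃ hh ∈ H, ∃ z ∈ Z, hh * z = t := by
    refine Subgroup.closure_induction (p := fun x _ => ∃ hh ∈ H, ∃ z ∈ Z, hh * z = x) ?_
      ⟨1, H.one_mem, 1, Z.one_mem, one_mul 1⟩ ?_ ?_ (by rwa [← Subgroup.sup_eq_closure])
    · rintro x (hx | hx)
      · exact ⟨x, hx, 1, Z.one_mem, mul_one x⟩
      · exact ⟨1, H.one_mem, x, hx, one_mul x⟩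
    · rintro x y - - ⟨a, ha, z, hz, rfl⟩ ⟨b, hb, w, hw, rfl⟩
      refine ⟨a * b, H.mul_mem ha hb, z * w, Z.mul_mem hz hw, ?_⟩
      rw [mul_assoc a z, ← mul_assoc z b, scalar_comm hz.1 b]
      group
    · rintro x - ⟨a, ha, z, hz, rfl⟩
      exact ⟨a⁻¹, H.inv_mem ha, z⁻¹, Z.inv_mem hz, by rw [mul_inv_rev, scalar_comm (Z.inv_mem hz).1]⟩
  obtain ⟨c, hc⟩ := (Cfsg.Geo.mem_scalars_iff z).1 hz.1
  have hcr : (c : F) ^ r = 1 := by
    have h1 := hz.2
    have h1 := MonoidHom.mem_ker.1 h1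
    rw [Units.ext_iff, Matrix.GeneralLinearGroup.val_det_apply, hc,
      Matrix.det_smul, Matrix.det_one, mul_one, Fintype.card_fin] at h1
    simpa using h1
  by_cases hrF : (r : F) = 0
  · haveI : Fact r.Prime := ⟨hr⟩
    haveI : CharP F r := (CharP.charP_iff_prime_eq_zero hr).2 hrF
    have hc1 : (c : F) = 1 := sub_eq_zero.1 (eq_zero_of_pow_eq_zero (n := r) (by
      rw [sub_pow_char, hcr, one_pow, sub_self]))
    have : z = 1 := Units.ext (by rw [hc, hc1, one_smul, Units.val_one])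
    rw [← hhz, this, mul_one]
    exact hhH
  · obtain ⟨p, hp⟩ := CharP.exists F
    have hpp : p.Prime := (CharP.char_is_prime_or_zero F p).resolve_right (CharP.char_ne_zero_of_finite F p)
    have htp : t ^ p = 1 := Units.ext (by rw [hnorm, CharP.cast_eq_zero F p]; simp)
    have hzr : z ^ r = 1 := Units.ext (by rw [Units.val_pow_eq_pow_val, hc, smul_pow, one_pow, hcr, one_smul, Units.val_one])
    have htr : t ^ r ∈ H := by
      rw [← hhz, Commute.mul_pow (scalar_comm hz.1 hh).symm, hzr, mul_one]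
      exact H.pow_mem hhH r
    have hcop : Nat.Coprime r p := (Nat.coprime_primes hr hpp).2 fun e => hrF (by rw [e]; exact CharP.cast_eq_zero F p)
    have h1 : t = (t ^ r) ^ Nat.gcdA r p := by
      conv_lhs => rw [← pow_one t, ← hcop.gcd_eq_one]
      rw [← zpow_natCast t (Nat.gcd r p), Nat.gcd_eq_gcd_ab, zpow_add, zpow_mul, zpow_mul, zpow_natCast, zpow_natCast,
        htp, one_zpow, mul_one]
    rw [h1]
    exact H.zpow_mem htr _

end Cfsg.Agent.PrimeDim
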