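import Cfsg.Agent.Lib.PrimeDim.NotLe

/-!
The normaliser of an absolutely irreducible group realised over a subfield lies in a subfield group, and every
proper subfield lies in one of prime index.
-/

set_option autoImplicit false

namespace Cfsg.Agent.PrimeDim

open scoped Matrix MatrixGroups
open Module

variable {r : ℕ} {F : Type*} [Field F]

local notation "Mat" => Matrix (Fin r) (Fin r) F

theorem exists_prime_index [Fintype F] (F₀ : Subfield F) (h : F₀ ≠ ⊤) :
    ∃ (F₁ : Subfield F) (l : ℕ), F₀ ≤ F₁ ∧ l.Prime ∧ Fintype.card F = Nat.card F₁ ^ l ∧ F₁ ≠ ⊤ := by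
  classical
  haveI : FiniteDimensional F₀ F := Module.Finite.of_finite
  haveI : IsGalois F₀ F := inferInstance
  have hG : Nat.card (F ≃ₐ[F₀] F) = finrank F₀ F := IsGalois.card_aut_eq_finrank F₀ F
  have hne : finrank F₀ F ≠ 1 := by
    intro e
    refine h (top_unique fun x _ => ?_)
    obtain ⟨c, hc⟩ := exists_smul_eq_of_finrank_eq_one e (x := (1 : F)) one_ne_zero x
    rw [← hc]
    show (c : F) * 1 ∈ F₀
    rw [mul_one]
    exact c.2
  obtain ⟨l, hl, hdvd⟩ := Nat.exists_prime_and_dvd hne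
  haveI : Fact l.Prime := ⟨hl⟩
  obtain ⟨g, hg⟩ := exists_prime_orderOf_dvd_card' (G := F ≃ₐ[F₀] F) l (by rw [hG]; exact hdvd)
  set K1 : IntermediateField F₀ F := IntermediateField.fixedField (Subgroup.zpowers g)
  have hfin : finrank K1 F = l := by
    rw [IntermediateField.finrank_fixedField_eq_card, Nat.card_zpowers, hg]
  have hcard : Fintype.card F = Nat.card K1.toSubfield ^ l := by
    rw [← hfin, ← Nat.card_eq_fintype_card]
    exact Module.natCard_eq_pow_finrank (K := K1) (V := F)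
  refine ⟨K1.toSubfield, l, fun x hx => K1.algebraMap_mem ⟨x, hx⟩, hl, hcard, fun e => ?_⟩
  have h1 : Nat.card K1.toSubfield = Nat.card F := by rw [e]; exact Nat.card_congr (Equiv.Set.univ F)
  rw [h1, ← Nat.card_eq_fintype_card] at hcard
  have h3 := Nat.pow_lt_pow_right (Finite.one_lt_card : 1 < Nat.card F) hl.one_lt
  rw [pow_one, ← hcard] at h3
  exact lt_irrefl _ h3

theorem subfieldSubgroup_mono {F₀ F₁ : Subfield F} (h : F₀ ≤ F₁) (P : GL (Fin r) F) :
    Cfsg.Geo.subfieldSubgroup F₀ P ≤ Cfsg.Geo.subfieldSubgroup F₁ P := by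
  intro g hg
  obtain ⟨c, hc, hy⟩ := (TransvMax.mem_subfieldSubgroup_iff F₀ P g).1 hg
  refine TransvMax.mem_subfieldSubgroup_of_points F₁ P g ?_
  have hgen : ∀ y : Fin r → F₁, ∃ y', c • ((g : Mat) *ᵥ TransvMax.ratEmb F₁ P y) = TransvMax.ratEmb F₁ P y' := by
    intro y
    choose m hm using fun j => hy (Pi.single j 1)
    refine ⟨∑ j, y j • fun i => (⟨(m j i : F), h (m j i).2⟩ : F₁), ?_⟩
    have hsum : TransvMax.ratEmb F₁ P y =
        ∑ j, (y j : F) • ((P : Mat) *ᵥ (Pi.single j 1 : Fin r → F)) := by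
      rw [TransvMax.ratEmb]
      conv_lhs => rw [pi_eq_sum_univ' (fun i => (y i : F)), Matrix.mulVec_sum]
      refine Finset.sum_congr rfl fun j _ => ?_
      rw [Matrix.mulVec_smul]
    rw [hsum, Matrix.mulVec_sum, Finset.smul_sum, TransvMax.ratEmb]
    have hr' : (fun i => (((∑ j, y j • fun i => (⟨(m j i : F), h (m j i).2⟩ : F₁)) : Fin r → F₁) i : F)) =
        ∑ j, (y j : F) • fun i => (m j i : F) := by
      funext i
      simp only [Finset.sum_apply, Pi.smul_apply, smul_eq_mul, AddSubmonoidClass.coe_finsetSum,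
        MulMemClass.coe_mul]
    rw [hr', Matrix.mulVec_sum]
    refine Finset.sum_congr rfl fun j _ => ?_
    have := hm j
    rw [TransvMax.ratEmb_single] at this
    rw [Matrix.mulVec_smul, Matrix.mulVec_smul, smul_comm, this]
    rfl
  exact fun y _ => ⟨c, hc, hgen y⟩

/-- An element normalising an absolutely irreducible group with entries in a subfield. -/
theorem mem_subfieldSubgroup_of_normalises [NeZero r] {N : Subgroup (GL (Fin r) F)} (hN : ScalarCommutant N)
    (F₀ : Subfield F) {B : GL (Fin r) F}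
    (hB : ∀ s ∈ Cfsg.Geo.matrixSet N, ∀ i j, ((B : Mat) * s * ((B⁻¹ : GL (Fin r) F) : Mat)) i j ∈ F₀)
    {h : GL (Fin r) F} (hh : ∀ x ∈ N, h * x * h⁻¹ ∈ N) : h ∈ Cfsg.Geo.subfieldSubgroup F₀ B⁻¹ := by
  classical
  set h' : GL (Fin r) F := B * h * B⁻¹ with hh'
  obtain ⟨i0, j0, hij⟩ : ∃ i j, (h' : Mat) i j ≠ 0 := by
    by_contra hc
    push Not at hc
    exact h'.ne_zero (Matrix.ext hc)
  obtain ⟨l, hl⟩ : ∃ l : F →ₗ[F₀] F₀, l ((h' : Mat) i0 j0) ≠ 0 := by
    by_contra hc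
    push Not at hc
    exact hij ((Module.forall_dual_apply_eq_zero_iff F₀ _).1 hc)
  set X : Mat := fun i j => (l ((h' : Mat) i j) : F) with hX
  have hconj : ∀ x ∈ N, ((B * (h * x * h⁻¹) * B⁻¹ : GL (Fin r) F) : Mat) * X = X * ((B * x * B⁻¹ : GL (Fin r) F) : Mat) := by
    intro x hx
    ext i j
    have h1 : (((B * (h * x * h⁻¹) * B⁻¹ : GL (Fin r) F)) : Mat) * (h' : Mat) =
        (h' : Mat) * ((B * x * B⁻¹ : GL (Fin r) F) : Mat) := by
      rw [hh', ← Units.val_mul, ← Units.val_mul]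
      congr 1
      group
    have h2 := congrArg (fun M : Mat => (l (M i j) : F)) h1
    simp only [Matrix.mul_apply] at h2 ⊢
    rw [map_sum, map_sum, AddSubmonoidClass.coe_finsetSum, AddSubmonoidClass.coe_finsetSum] at h2
    refine Eq.trans ?_ (h2.trans ?_)
    · refine Finset.sum_congr rfl fun k _ => ?_
      have hm : ((B * (h * x * h⁻¹) * B⁻¹ : GL (Fin r) F) : Mat) i k ∈ F₀ := by
        rw [Units.val_mul, Units.val_mul]; exact hB _ ⟨_, hh x hx, rfl⟩ i k
      conv_rhs => rw [show ((B * (h * x * h⁻¹) * B⁻¹ : GL (Fin r) F) : Mat) i k * (h' : Mat) k j =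
        (⟨_, hm⟩ : F₀) • (h' : Mat) k j from rfl, map_smul]
      rfl
    · refine Finset.sum_congr rfl fun k _ => ?_
      have hm : ((B * x * B⁻¹ : GL (Fin r) F) : Mat) k j ∈ F₀ := by
        rw [Units.val_mul, Units.val_mul]; exact hB _ ⟨_, hx, rfl⟩ k j
      rw [show (h' : Mat) i k * ((B * x * B⁻¹ : GL (Fin r) F) : Mat) k j =
        (⟨_, hm⟩ : F₀) • (h' : Mat) i k from mul_comm _ _, map_smul]
      exact mul_comm _ _
  set a : GL (Fin r) F := B⁻¹ * h'⁻¹ with ha
  obtain ⟨c, hc⟩ := hN ((a : Mat) * X * (B : Mat)) fun x hx => by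
    have e1 : a * (B * (h * x * h⁻¹) * B⁻¹) = x * a := by rw [ha, hh']; group
    calc (a : Mat) * X * (B : Mat) * (x : Mat)
        = (a : Mat) * (X * ((B * x * B⁻¹ : GL (Fin r) F) : Mat)) * (B : Mat) := by
          simp only [Units.val_mul, mul_assoc]
          rw [Units.inv_mul, mul_one]
      _ = (a : Mat) * ((B * (h * x * h⁻¹) * B⁻¹ : GL (Fin r) F) : Mat) * X * (B : Mat) := by
          rw [← hconj x hx]
          simp only [mul_assoc]
      _ = (x : Mat) * ((a : Mat) * X * (B : Mat)) := by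
          rw [← Units.val_mul, e1, Units.val_mul, mul_assoc, mul_assoc, mul_assoc]
  have hXc : X = c • (h' : Mat) := by
    have ea : a⁻¹ = h' * B := by rw [ha]; group
    calc X = ((a⁻¹ : GL (Fin r) F) : Mat) * ((a : Mat) * X * (B : Mat)) * ((B⁻¹ : GL (Fin r) F) : Mat) := by
          rw [mul_assoc (a : Mat), Units.inv_mul_cancel_left, Units.mul_inv_cancel_right]
      _ = c • (h' : Mat) := by
          rw [hc, Matrix.mul_smul, mul_one, Matrix.smul_mul, ea, Units.val_mul, Units.mul_inv_cancel_right]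
  have hc0 : c ≠ 0 := by
    intro e
    rw [e, zero_smul] at hXc
    exact hl (Subtype.ext (congrFun (congrFun hXc i0) j0))
  refine (TransvMax.mem_subfieldSubgroup_iff F₀ B⁻¹ h).2 ⟨c, hc0, fun y => ?_⟩
  refine ⟨fun i => ∑ j, l ((h' : Mat) i j) * y j, ?_⟩
  rw [TransvMax.ratEmb, TransvMax.ratEmb]
  have e1 : ((h : Mat) *ᵥ (((B⁻¹ : GL (Fin r) F) : Mat) *ᵥ fun i => (y i : F))) =
      ((B⁻¹ : GL (Fin r) F) : Mat) *ᵥ ((h' : Mat) *ᵥ fun i => (y i : F)) := by
    rw [Matrix.mulVec_mulVec, Matrix.mulVec_mulVec, hh', ← Units.val_mul, ← Units.val_mul]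
    congr 2
    group
  rw [e1, ← Matrix.mulVec_smul, ← Matrix.smul_mulVec, ← hXc]
  congr 1
  funext i
  simp [Matrix.mulVec, dotProduct, hX]

/-- The normaliser lies in a subfield group of prime index. -/
theorem le_subfield_prime [Fintype F] [NeZero r] {N H : Subgroup (GL (Fin r) F)} (hN : ScalarCommutant N)
    (hnorm : ∀ h ∈ H, ∀ x ∈ N, h * x * h⁻¹ ∈ N) (F₀ : Subfield F) (hF₀ : F₀ ≠ ⊤)
    (hreal : Cfsg.Geo.RealisableOver F₀ (Cfsg.Geo.matrixSet N)) :
    ∃ (F₁ : Subfield F) (l : ℕ) (P : GL (Fin r) F), l.Prime ∧ Fintype.card F = Nat.card F₁ ^ l ∧ F₁ ≠ ⊤ ∧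
      H ≤ Cfsg.Geo.subfieldSubgroup F₁ P := by
  obtain ⟨B, hB⟩ := hreal
  obtain ⟨F₁, l, h01, hl, hcard, hne⟩ := exists_prime_index F₀ hF₀
  exact ⟨F₁, l, B⁻¹, hl, hcard, hne, fun h hh =>
    mem_subfieldSubgroup_of_normalises hN F₁ (fun s hs i j => h01 (hB s hs i j)) (hnorm h hh)⟩

end Cfsg.Agent.PrimeDim
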