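import Cfsg.Agent.Lib.PrimeDim.NotLe
import Cfsg.Agent.Lib.PrimeDim.Realise
import Cfsg.Agent.Lib.TransvMax.OrthBasic

/-!
Orthogonal groups of odd dimension at least seven: Siegel transformations are commutators of reflections, and
the geometric subgroups do not contain the derived group.
-/

set_option autoImplicit false

namespace Cfsg.Agent.PrimeDim

open scoped Matrix MatrixGroups commutatorElement
open Module
open Cfsg.Agent
open Cfsg.Agent.TransvMax (pB siegelHom siegelHom_apply glOf glOf_mulVec)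

variable {r : ℕ} {F : Type*} [Field F] {Q : QuadraticForm F (Fin r → F)}

local notation "V" => Fin r → F

local notation "Mat" => Matrix (Fin r) (Fin r) F

/-- Odd characteristic, dimension at least seven, and a Gram matrix over every subfield. -/
structure QS (Q : QuadraticForm F (Fin r → F)) : Prop where
  odd : ringChar F ≠ 2
  nondeg : (QuadraticMap.polarBilin Q).Nondegenerate
  dim : 7 ≤ r
  rat : ∀ (F₁ : Subfield F) (i j : Fin r),
    QuadraticMap.polar (⇑Q) (Pi.single i 1) (Pi.single j 1) ∈ F₁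

variable (S : QS Q)

include S

theorem QS.two_ne : (2 : F) ≠ 0 := Ring.two_ne_zero S.odd

omit S in
theorem pB_self (Q : QuadraticForm F V) (x : V) : pB Q x x = 2 * Q x := by
  rw [QuadraticMap.polarBilin_apply_apply, FormsLib.polar_self']

omit S in
theorem pB_comm (Q : QuadraticForm F V) (x y : V) : pB Q x y = pB Q y x := by
  simp only [QuadraticMap.polarBilin_apply_apply, QuadraticMap.polar_comm Q x y]

omit S in
theorem quad_add' (Q : QuadraticForm F V) (x y : V) : Q (x + y) = Q x + Q y + pB Q x y := by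
  rw [QuadraticMap.polarBilin_apply_apply, FormsLib.quad_add]

omit S in
theorem quad_smul' (Q : QuadraticForm F V) (c : F) (x : V) : Q (c • x) = c * c * Q x := by
  rw [QuadraticMap.map_smul, smul_eq_mul]

theorem QS.eq_zero_of (v : V) (h : ∀ x, pB Q x v = 0) : v = 0 := S.nondeg.2 v h

theorem QS.exists_one {v : V} (hv : v ≠ 0) : ∃ x, pB Q x v = 1 := by
  obtain ⟨x, hx⟩ : ∃ x, pB Q x v ≠ 0 := by
    by_contra h
    push Not at h
    exact hv (S.eq_zero_of v h)
  exact ⟨(pB Q x v)⁻¹ • x, by rw [map_smul, LinearMap.smul_apply, smul_eq_mul, inv_mul_cancel₀ hx]⟩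

theorem QS.exists_aniso_perp {k : ℕ} (v : Fin k → V) (hk : k ≤ 3) :
    ∃ p, (∀ i, pB Q p (v i) = 0) ∧ Q p ≠ 0 := by
  by_contra hc
  push Not at hc
  set L : V →ₗ[F] (Fin k → F) := LinearMap.pi fun i => (pB Q).flip (v i)
  have hQ : ∀ p ∈ LinearMap.ker L, Q p = 0 := fun p hp => hc p fun i => congrFun hp i
  have h1 : LinearMap.ker L ≤ LinearMap.BilinForm.orthogonal (pB Q) (LinearMap.ker L) := by
    intro x hx y hy
    show pB Q y x = 0
    have h := quad_add' Q y x
    rw [hQ _ (Submodule.add_mem _ hy hx), hQ _ hy, hQ _ hx] at h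
    linear_combination -h
  have h2 := Submodule.finrank_mono h1
  rw [LinearMap.BilinForm.finrank_orthogonal S.nondeg, finrank_fintype_fun_eq_card, Fintype.card_fin] at h2
  have h3 := LinearMap.finrank_range_add_finrank_ker L
  have h4 := Submodule.finrank_le (LinearMap.range L)
  rw [finrank_fintype_fun_eq_card, Fintype.card_fin] at h4
  rw [finrank_fintype_fun_eq_card, Fintype.card_fin] at h3
  have := S.dim
  omega

theorem QS.exists_sing_one [Finite F] {z : V} (hz : z ≠ 0) : ∃ u, Q u = 0 ∧ pB Q u z = 1 := by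
  obtain ⟨x, hx⟩ := S.exists_one hz
  obtain ⟨p, hp, hQp⟩ := S.exists_aniso_perp ![x, z] (by norm_num)
  obtain ⟨t, ht, hQt⟩ := S.exists_aniso_perp ![p, x, z] le_rfl
  have := Fintype.ofFinite F
  obtain ⟨a, b, h⟩ := FiniteField.exists_root_sum_quadratic
    (f := Polynomial.C (Q p) * Polynomial.X ^ 2)
    (g := Polynomial.C (Q t) * Polynomial.X ^ 2 + Polynomial.C (Q x))
    (by rw [Polynomial.degree_C_mul_X_pow 2 hQp]; rfl)
    (by rw [Polynomial.degree_add_C (by rw [Polynomial.degree_C_mul_X_pow 2 hQt]; decide),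
          Polynomial.degree_C_mul_X_pow 2 hQt]; rfl)
    (Nat.odd_iff.1 (Nat.odd_iff.mpr (FiniteField.odd_card_of_char_ne_two S.odd)))
  simp only [Polynomial.eval_add, Polynomial.eval_mul, Polynomial.eval_C, Polynomial.eval_pow,
    Polynomial.eval_X] at h
  have hpx : pB Q p x = 0 := hp 0
  have hpz : pB Q p z = 0 := hp 1
  have htp : pB Q t p = 0 := ht 0
  have htx : pB Q t x = 0 := ht 1
  have htz : pB Q t z = 0 := ht 2
  refine ⟨x + (a • p + b • t), ?_, ?_⟩
  · simp only [quad_add', quad_smul', map_add, map_smul, LinearMap.smul_apply,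
      smul_eq_mul, pB_comm Q x p, pB_comm Q x t, pB_comm Q p t, hpx, htx, htp, mul_zero, add_zero]
    linear_combination h
  · simp only [map_add, map_smul, LinearMap.add_apply, LinearMap.smul_apply, hx, hpz, htz, smul_zero, add_zero]

omit S in
theorem siegel_comp {u w w' : V} (hu : Q u = 0) (hw : pB Q w u = 0) (hw' : pB Q w' u = 0) (x : V) :
    siegelHom Q u w (siegelHom Q u w' x) = siegelHom Q u (w + w') x := by
  have huu : pB Q u u = 0 := by rw [pB_self, hu, mul_zero]
  have huw : pB Q u w = 0 := by rw [pB_comm, hw]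
  simp only [siegelHom_apply, map_add, map_sub, map_smul, LinearMap.add_apply, LinearMap.sub_apply,
    LinearMap.smul_apply, smul_eq_mul, hw', huu, huw, quad_add', pB_comm Q w' w, mul_zero, add_zero,
    sub_zero]
  module

theorem siegel_mem_omega_aniso {u w : V} (hu : Q u = 0) (hw : pB Q w u = 0) (hQ : Q w ≠ 0) :
    ∃ g ∈ Cfsg.Geo.omegaGL ⇑Q, ∀ x, (g : Mat) *ᵥ x = siegelHom Q u w x := by
  set t : F := -(Q w / 2)
  have hwt : Q (w + t • u) = Q w := by
    rw [quad_add', quad_smul', hu, map_smul, smul_eq_mul, hw]; ring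
  have hQ' : Q (w + t • u) ≠ 0 := hwt ▸ hQ
  have hiso : ∀ g : V ≃ₗ[F] V, (∀ v, Q (g v) = Q v) → glOf g ∈ Cfsg.isometryGroup F ⇑Q := by
    intro g h a b
    show Q (((glOf g : GL (Fin r) F) : Mat) *ᵥ a) = Q a
    rw [glOf_mulVec]
    exact h a
  set a : Cfsg.isometryGroup F ⇑Q := ⟨glOf (FormsLib.refl Q _ hQ'), hiso _ (FormsLib.refl_mem Q hQ')⟩
  set b : Cfsg.isometryGroup F ⇑Q := ⟨glOf (FormsLib.refl Q _ hQ), hiso _ (FormsLib.refl_mem Q hQ)⟩
  refine ⟨_, ⟨⁅a, b⁆, Subgroup.commutator_mem_commutator (Subgroup.mem_top a) (Subgroup.mem_top b), rfl⟩, ?_⟩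
  intro x
  set s : F := (2 : F)⁻¹
  have hst : -(t / Q w) = s := by
    have := S.two_ne
    simp only [t, s]
    field_simp
  have hstep : ∀ y, ((glOf (FormsLib.refl Q _ hQ') : GL (Fin r) F) : Mat) *ᵥ
      (((glOf (FormsLib.refl Q _ hQ) : GL (Fin r) F) : Mat) *ᵥ y) = siegelHom Q u (s • w) y := by
    intro y
    rw [glOf_mulVec, glOf_mulVec, FormsLib.refl_apply, FormsLib.refl_apply, hwt, siegelHom_apply, ← hst]
    simp only [← QuadraticMap.polarBilin_apply_apply, map_add, map_sub, map_smul, LinearMap.add_apply,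
      LinearMap.sub_apply, LinearMap.smul_apply, smul_eq_mul, quad_smul', hw, pB_self Q w]
    match_scalars <;> field_simp <;> ring
  show (((((glOf (FormsLib.refl Q _ hQ') : GL (Fin r) F)) * glOf (FormsLib.refl Q _ hQ) *
    (glOf (FormsLib.refl Q _ hQ'))⁻¹ * (glOf (FormsLib.refl Q _ hQ))⁻¹) : GL (Fin r) F) : Mat) *ᵥ x = _
  rw [← map_inv, ← map_inv, FormsLib.refl_inv, FormsLib.refl_inv]
  simp only [Units.val_mul, ← Matrix.mulVec_mulVec]
  rw [hstep, hstep, siegel_comp hu (by rw [map_smul, LinearMap.smul_apply, hw, smul_zero])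
    (by rw [map_smul, LinearMap.smul_apply, hw, smul_zero]), ← add_smul,
    show s + s = 1 by have := S.two_ne; simp only [s]; field_simp; ring, one_smul]

theorem siegel_mem_omega {u w : V} (hu : Q u = 0) (hw : pB Q w u = 0) :
    ∃ g ∈ Cfsg.Geo.omegaGL ⇑Q, ∀ x, (g : Mat) *ᵥ x = siegelHom Q u w x := by
  by_cases hQ : Q w = 0
  swap
  · exact siegel_mem_omega_aniso S hu hw hQ
  obtain ⟨p, hp, hQp⟩ := S.exists_aniso_perp ![u] (by norm_num)
  have hpu : pB Q p u = 0 := hp 0
  obtain ⟨a, ha, haQ⟩ : ∃ a, pB Q a u = 0 ∧ (Q a ≠ 0 ∧ Q (w - a) ≠ 0) := by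
    by_cases h : Q (w - p) = 0
    · refine ⟨-p, by rw [map_neg, LinearMap.neg_apply, hpu, neg_zero], by rwa [QuadraticMap.map_neg], fun h' => ?_⟩
      rw [sub_neg_eq_add, quad_add', hQ] at h'
      rw [sub_eq_add_neg, quad_add', hQ, QuadraticMap.map_neg, map_neg] at h
      exact mul_ne_zero S.two_ne hQp (by linear_combination h + h')
    · exact ⟨p, hpu, hQp, h⟩
  have hwa : pB Q (w - a) u = 0 := by rw [map_sub, LinearMap.sub_apply, hw, ha, sub_zero]
  obtain ⟨g, hg, hgx⟩ := siegel_mem_omega_aniso S hu ha haQ.1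
  obtain ⟨h, hh, hhx⟩ := siegel_mem_omega_aniso S hu hwa haQ.2
  refine ⟨g * h, mul_mem hg hh, fun x => ?_⟩
  rw [Units.val_mul, ← Matrix.mulVec_mulVec, hhx, hgx, siegel_comp hu ha hwa, add_sub_cancel]

theorem omega_irr [Finite F] : Irr (Cfsg.Geo.omegaGL ⇑Q) := by
  intro W hW
  by_cases hWs : ∀ u, Q u = 0 → ∀ w ∈ W, pB Q w u = 0
  · left
    refine eq_bot_iff.2 fun w hw => ?_
    rw [Submodule.mem_bot]
    by_contra h0
    obtain ⟨u, hu, huw⟩ := S.exists_sing_one h0
    rw [pB_comm, hWs u hu w hw] at huw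
    exact zero_ne_one huw
  right
  push Not at hWs
  obtain ⟨u, hu, w, hw, hc⟩ := hWs
  set c := pB Q w u with hcdef
  have hdiff : ∀ z, pB Q z u = 0 → c • z - pB Q w z • u - (Q z * c) • u ∈ W := by
    intro z hz
    obtain ⟨g, hg, hgx⟩ := siegel_mem_omega S hu hz
    have h1 := W.sub_mem (hW g hg w hw) hw
    rw [hgx, siegelHom_apply, ← hcdef] at h1
    convert h1 using 1
    abel
  obtain ⟨p, hp, hQp⟩ := S.exists_aniso_perp ![u] (by norm_num)
  have hpu : pB Q p u = 0 := hp 0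
  have huW : u ∈ W := by
    have h2 := W.add_mem (hdiff p hpu) (hdiff (-p) (by rw [map_neg, LinearMap.neg_apply, hpu, neg_zero]))
    rw [map_neg, QuadraticMap.map_neg] at h2
    have h3 : (-(2 * (Q p * c))) • u ∈ W := by convert h2 using 1; module
    have hne : -(2 * (Q p * c)) ≠ 0 := neg_ne_zero.2 (mul_ne_zero S.two_ne (mul_ne_zero hQp hc))
    have h4 := W.smul_mem (-(2 * (Q p * c)))⁻¹ h3
    rwa [smul_smul, inv_mul_cancel₀ hne, one_smul] at h4
  refine eq_top_iff.2 fun x _ => ?_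
  set z := x - (pB Q x u / c) • w with hz
  have hzu : pB Q z u = 0 := by
    rw [hz, map_sub, LinearMap.sub_apply, map_smul, LinearMap.smul_apply, ← hcdef, smul_eq_mul,
      div_mul_cancel₀ _ hc, sub_self]
  have h4 : c • z ∈ W := by
    have := W.add_mem (W.add_mem (hdiff z hzu) (W.smul_mem (pB Q w z) huW)) (W.smul_mem (Q z * c) huW)
    convert this using 1
    abel
  have h5 : z ∈ W := by simpa [smul_smul, inv_mul_cancel₀ hc] using W.smul_mem c⁻¹ h4
  have h6 := W.add_mem h5 (W.smul_mem (pB Q x u / c) hw)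
  rwa [hz, sub_add_cancel] at h6

theorem omega_not_le_subspace [Finite F] {W : Submodule F V} (h0 : W ≠ ⊥) (h1 : W ≠ ⊤) :
    ¬ Cfsg.Geo.omegaGL ⇑Q ≤ Cfsg.Geo.subspaceStabilizer W := fun hle =>
  (omega_irr S W fun g hg w hw => ((hle hg) w).1 hw).elim h0 h1

theorem omega_not_le_lines [Finite F] (b : Basis (Fin r) F V) :
    ¬ Cfsg.Geo.omegaGL ⇑Q ≤ Cfsg.Geo.decompositionStabilizer fun i => Submodule.span F {b i} := by
  classical
  intro hle
  have hdim := S.dim
  haveI : NeZero r := ⟨by omega⟩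
  haveI : Fintype F := Fintype.ofFinite F
  obtain ⟨u, hu, huk⟩ := S.exists_sing_one (b.ne_zero 0)
  have hk : pB Q (b 0) u = 1 := by rw [pB_comm]; exact huk
  set Z := LinearMap.ker ((pB Q).flip u) with hZ
  have hmem : ∀ z : Z, pB Q (z : V) u = 0 := fun z => z.2
  have himg : ∀ z : Z, ∃ (j : Fin r) (d : F), siegelHom Q u z (b 0) = d • b j := by
    intro z
    obtain ⟨g, hg, hgx⟩ := siegel_mem_omega S hu (hmem z)
    obtain ⟨π, hπ⟩ := hle hg
    have h1 := (hπ 0).le (Submodule.mem_map_of_mem (Submodule.mem_span_singleton_self _))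
    rw [Matrix.toLin'_apply, hgx] at h1
    obtain ⟨d, hd⟩ := Submodule.mem_span_singleton.1 h1
    exact ⟨π 0, d, hd.symm⟩
  choose J D hJD using himg
  let Φ : Z → Fin r × F := fun z => (J z, pB Q (b 0) (z : V) + Q (z : V))
  have hΦ : Function.Injective Φ := by
    intro a a' h
    have hJ : J a = J a' := congrArg Prod.fst h
    have he : pB Q (b 0) (a : V) + Q (a : V) = pB Q (b 0) (a' : V) + Q (a' : V) := congrArg Prod.snd h
    have hu0 : pB Q u u = 0 := by rw [pB_self, hu, mul_zero]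
    have hval : ∀ z : Z, D z * pB Q (b (J z)) u = 1 := fun z => by
      have h1 := congrArg (fun v => pB Q v u) (hJD z)
      simp only [siegelHom_apply, map_add, map_sub, map_smul, LinearMap.add_apply, LinearMap.sub_apply,
        LinearMap.smul_apply, smul_eq_mul, hk, hmem z, hu0, mul_zero, add_zero, sub_zero] at h1
      exact h1.symm
    have hD : D a = D a' := by
      have h1 := hval a
      have h2 := hval a'
      rw [← hJ] at h2
      exact mul_right_cancel₀ (fun e => by rw [e, mul_zero] at h1; exact zero_ne_one h1) (h1.trans h2.symm)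
    have h3 : siegelHom Q u a (b 0) = siegelHom Q u a' (b 0) := by rw [hJD, hJD, hJ, hD]
    rw [siegelHom_apply, siegelHom_apply, hk, one_smul, one_smul, sub_sub, sub_sub, mul_one, mul_one, ← add_smul,
      ← add_smul, he, sub_left_inj, add_right_inj] at h3
    exact Subtype.ext h3
  have h1 := Fintype.card_le_of_injective Φ hΦ
  rw [Fintype.card_prod, Fintype.card_fin, @Module.card_eq_pow_finrank F Z] at h1
  have h2 : r - 1 ≤ finrank F Z := by
    have h3 := LinearMap.finrank_range_add_finrank_ker ((pB Q).flip u)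
    have h4 := Submodule.finrank_le (LinearMap.range ((pB Q).flip u))
    rw [finrank_fintype_fun_eq_card, Fintype.card_fin] at h3
    rw [Module.finrank_self] at h4
    rw [hZ]
    omega
  have hF : 1 < Fintype.card F := Fintype.one_lt_card
  have h3 := (Nat.pow_le_pow_right (by omega : 0 < Fintype.card F) h2).trans h1
  obtain ⟨m, hm⟩ : ∃ m, r = m + 2 := ⟨r - 2, by omega⟩
  subst hm
  rw [show m + 2 - 1 = m + 1 by omega, pow_succ] at h3
  have h4 : Fintype.card F ^ m ≤ m + 2 := Nat.le_of_mul_le_mul_right h3 (by omega)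
  have h5 : 2 ^ m ≤ Fintype.card F ^ m := Nat.pow_le_pow_left hF m
  have h6 : ∀ n : ℕ, 5 ≤ n → n + 2 < 2 ^ n := fun n hn => by
    induction n, hn using Nat.le_induction with
    | base => norm_num
    | succ n hn ih => rw [pow_succ]; omega
  have := h6 m (by omega)
  omega

omit S in
theorem mem_subfieldSubgroup_of_entries {F₁ : Subfield F} {P g : GL (Fin r) F}
    (h : ∀ i j, (((P⁻¹ : GL (Fin r) F) : Mat) * (g : Mat) * (P : Mat)) i j ∈ F₁) :
    g ∈ Cfsg.Geo.subfieldSubgroup F₁ P := by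
  refine (TransvMax.mem_subfieldSubgroup_iff F₁ P g).2 ⟨1, one_ne_zero, fun y =>
    ⟨fun i => ∑ j, ⟨_, h i j⟩ * y j, ?_⟩⟩
  rw [one_smul, TransvMax.ratEmb, TransvMax.ratEmb]
  rw [show (fun i => (((∑ j, (⟨_, h i j⟩ : F₁) * y j) : F₁) : F)) =
    (((P⁻¹ : GL (Fin r) F) : Mat) * (g : Mat) * (P : Mat)) *ᵥ fun i => (y i : F) by
      funext i; simp [Matrix.mulVec, dotProduct]]
  rw [← Matrix.mulVec_mulVec, ← Matrix.mulVec_mulVec, TransvMax.mulVec_inv_mulVec]

theorem omega_not_le_subfield [Finite F] {F₁ : Subfield F} (hF₁ : F₁ ≠ ⊤) (P : GL (Fin r) F) :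
    ¬ Cfsg.Geo.omegaGL ⇑Q ≤ Cfsg.Geo.subfieldSubgroup F₁ P := by
  classical
  intro hle
  have hdim := S.dim
  haveI : NeZero r := ⟨by omega⟩
  obtain ⟨p, hp⟩ := CharP.exists F
  haveI := hp
  haveI : Fact p.Prime := ⟨CharP.char_is_prime F p⟩
  haveI : CharP F₁ p := CharP.subring F p F₁.toSubring
  have key : ∀ (u w : V), Q u = 0 → pB Q w u = 0 → ∀ y : Fin r → F₁,
      ∀ i, (((P⁻¹ : GL (Fin r) F) : Mat) *ᵥ siegelHom Q u w (TransvMax.ratEmb F₁ P y)) i ∈ F₁ := by
    intro u w hu hw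
    obtain ⟨g, hg, hgx⟩ := siegel_mem_omega S hu hw
    obtain ⟨c, hc, hcy⟩ := (TransvMax.mem_subfieldSubgroup_iff F₁ P g).1 (hle hg)
    have hpow : ∀ (n : ℕ) (y : Fin r → F₁), ∃ y', c ^ n • siegelHom Q u ((n : F) • w) (TransvMax.ratEmb F₁ P y) =
        TransvMax.ratEmb F₁ P y' := by
      intro n y
      induction n with
      | zero => exact ⟨y, by simp [siegelHom_apply]⟩
      | succ n ih =>
        obtain ⟨y1, hy1⟩ := ih
        obtain ⟨y2, hy2⟩ := hcy y1
        refine ⟨y2, ?_⟩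
        rw [← hy2, hgx, ← hy1, map_smul, smul_smul, siegel_comp hu hw (by rw [map_smul, LinearMap.smul_apply, hw, smul_zero]),
          pow_succ', Nat.cast_succ, add_smul, one_smul, add_comm w]
    obtain ⟨y1, hy1⟩ := hpow p (Pi.single 0 1)
    rw [CharP.cast_eq_zero, zero_smul, show siegelHom Q u 0 _ = TransvMax.ratEmb F₁ P (Pi.single 0 1) by
      simp [siegelHom_apply]] at hy1
    have h1 := congrArg (fun v => (((P⁻¹ : GL (Fin r) F) : Mat) *ᵥ v) 0) hy1
    simp only [Matrix.mulVec_smul, TransvMax.ratEmb, TransvMax.inv_mulVec_mulVec] at h1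
    simp at h1
    have hcp : c ^ p ∈ F₁ := by rw [h1]; exact (y1 0).2
    obtain ⟨s, hs⟩ := (bijective_frobenius F₁ p).2 ⟨c ^ p, hcp⟩
    have hcF : c ∈ F₁ := by
      have : (s : F) = c := (bijective_frobenius F p).1 (congrArg Subtype.val hs)
      exact this ▸ s.2
    intro y i
    obtain ⟨y', hy'⟩ := hcy y
    rw [hgx] at hy'
    have h2 := congrArg (fun v => (((P⁻¹ : GL (Fin r) F) : Mat) *ᵥ v) i) hy'
    simp only [Matrix.mulVec_smul, TransvMax.ratEmb, TransvMax.inv_mulVec_mulVec, Pi.smul_apply, smul_eq_mul] at h2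
    rw [TransvMax.ratEmb]
    rw [← inv_mul_cancel_left₀ hc ((((P⁻¹ : GL (Fin r) F) : Mat) *ᵥ _) i), h2]
    exact F₁.mul_mem (F₁.inv_mem hcF) (y' i).2
  obtain ⟨u, hu, hu1⟩ := S.exists_sing_one (z := (P : Mat) *ᵥ Pi.single 0 1) fun e => by
    have h0 := congrArg (((P⁻¹ : GL (Fin r) F) : Mat) *ᵥ ·) e
    simp only [TransvMax.inv_mulVec_mulVec, Matrix.mulVec_zero] at h0
    simpa using congrFun h0 0
  obtain ⟨z, hz, hQz⟩ := S.exists_aniso_perp ![u] (by norm_num)
  have hzu : pB Q z u = 0 := hz 0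
  set e0 := TransvMax.ratEmb F₁ P (Pi.single 0 1) with he0
  have he0' : e0 = (P : Mat) *ᵥ Pi.single 0 1 := TransvMax.ratEmb_single F₁ P 0
  have hb : pB Q e0 u = 1 := by rw [he0', pB_comm]; exact hu1
  set U := ((P⁻¹ : GL (Fin r) F) : Mat) *ᵥ u
  have hU : ∀ (a : F) i, 2 * (a * a * Q z) * U i ∈ F₁ := by
    intro a i
    have h1 := key u (a • z) hu (by rw [map_smul, LinearMap.smul_apply, hzu, smul_zero]) (Pi.single 0 1) i
    have h2 := key u (-(a • z)) hu (by rw [map_neg, LinearMap.neg_apply, map_smul, LinearMap.smul_apply, hzu,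
      smul_zero, neg_zero]) (Pi.single 0 1) i
    have h3 := F₁.add_mem h1 h2
    have h4 : (((P⁻¹ : GL (Fin r) F) : Mat) *ᵥ e0) i ∈ F₁ := by
      rw [he0, TransvMax.ratEmb, TransvMax.inv_mulVec_mulVec]; exact (Pi.single 0 1 : Fin r → F₁) i |>.2
    rw [← he0] at h3
    simp only [siegelHom_apply, hb, one_smul, mul_one, map_neg, QuadraticMap.map_neg, quad_smul', Matrix.mulVec_add,
      Matrix.mulVec_sub, Matrix.mulVec_smul, Matrix.mulVec_neg, Pi.add_apply, Pi.sub_apply, Pi.smul_apply,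
      Pi.neg_apply, smul_eq_mul] at h3
    have h5 := F₁.sub_mem (F₁.add_mem h4 h4) h3
    convert h5 using 1
    ring
  obtain ⟨i, hi⟩ : ∃ i, U i ≠ 0 := by
    by_contra hcon
    push Not at hcon
    have h7 : u = 0 := by
      rw [← TransvMax.mulVec_inv_mulVec P u, show ((P⁻¹ : GL (Fin r) F) : Mat) *ᵥ u = 0 from funext hcon,
        Matrix.mulVec_zero]
    rw [h7, map_zero, LinearMap.zero_apply] at hu1
    exact zero_ne_one hu1
  have hsq : ∀ a : F, a * a ∈ F₁ := by
    intro a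
    have h1 := F₁.div_mem (hU a i) (hU 1 i)
    convert h1 using 1
    have := S.two_ne
    field_simp
  refine hF₁ (top_unique fun a _ => ?_)
  rw [show a = ((a + 1) * (a + 1) - a * a - 1) / (((1 : F₁) + 1 : F₁) : F) by
    have := S.two_ne
    push_cast
    rw [one_add_one_eq_two]
    field_simp
    ring]
  exact F₁.div_mem (F₁.sub_mem (F₁.sub_mem (hsq _) (hsq _)) F₁.one_mem) (SetLike.coe_mem _)

end Cfsg.Agent.PrimeDim
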