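import Cfsg.Agent.Lib.PrimeDim.UnitaryNotLe
import Cfsg.Agent.Lib.PrimeDim.Realise

/-!
Absolutely irreducible groups of isometries of a unitary form: a second invariant form gives a realisation
over a smaller field, and a realisation over a smaller field gives a compatible rational structure.
-/

set_option autoImplicit false

namespace Cfsg.Agent.PrimeDim

open scoped Matrix MatrixGroups
open Module
open Cfsg.Agent

variable {r : ℕ} {F : Type*} [Field F]

local notation "Mat" => Matrix (Fin r) (Fin r) F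

theorem IsSesq.gram_invariant {σ : F ≃+* F} {f : (Fin r → F) → (Fin r → F) → F} (hf : IsSesq σ f)
    {N : Subgroup (GL (Fin r) F)} (hfix : Cfsg.Geo.FixesForm (Cfsg.Geo.matrixSet N) f) {x : GL (Fin r) F}
    (hx : x ∈ N) : (x : Mat)ᵀ * gram f * (x : Mat).map σ = gram f := by
  rw [← hf.gram_comp]
  congr 1
  funext u v
  exact hfix _ ⟨x, hx, rfl⟩ u v

/-- The form of a matrix. -/
def matForm (σ : F ≃+* F) (J : Matrix (Fin r) (Fin r) F) (u v : Fin r → F) : F :=
  u ⬝ᵥ (J *ᵥ fun i => σ (v i))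

theorem matForm_sesq (σ : F ≃+* F) (J : Mat) : IsSesq σ (matForm σ J) where
  add_left x y v := by simp [matForm, add_dotProduct]
  smul_left c x v := by simp [matForm]
  add_right v x y := by
    simp only [matForm]
    rw [show (fun i => σ ((x + y) i)) = (fun i => σ (x i)) + fun i => σ (y i) from funext fun i => map_add σ _ _,
      Matrix.mulVec_add, dotProduct_add]
  smul_right c v x := by
    simp only [matForm]
    rw [show (fun i => σ ((c • x) i)) = σ c • fun i => σ (x i) from funext fun i => by simp, Matrix.mulVec_smul,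
      dotProduct_smul, smul_eq_mul]

theorem gram_matForm (σ : F ≃+* F) (J : Mat) : gram (matForm σ J) = J := by
  ext i j
  have h : (fun k => σ ((Pi.single j 1 : Fin r → F) k)) = Pi.single j 1 := by
    funext k
    by_cases hk : k = j
    · subst hk; simp
    · simp [Pi.single_eq_of_ne hk]
  show matForm σ J (Pi.single i 1) (Pi.single j 1) = J i j
  rw [matForm, h, single_dotProduct, one_mul, Matrix.mulVec_single_one, Matrix.col_apply]

theorem fixes_matForm {σ : F ≃+* F} {J : Mat} {S : Set Mat} (h : ∀ s ∈ S, sᵀ * J * s.map σ = J) :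
    Cfsg.Geo.FixesForm S (matForm σ J) := by
  intro s hs u v
  have hv : (fun i => σ ((s *ᵥ v) i)) = s.map σ *ᵥ fun i => σ (v i) := by
    funext i
    simp [Matrix.mulVec, dotProduct, map_sum]
  rw [matForm, matForm, hv, ← Matrix.vecMul_transpose, ← Matrix.dotProduct_mulVec, Matrix.mulVec_mulVec,
    Matrix.mulVec_mulVec, h s hs]

variable [Fintype F]

/-- A second invariant bilinear form gives a realisation over the fixed field. -/
theorem realisable_of_two_forms [NeZero r] {σ : F ≃+* F} {f : (Fin r → F) → (Fin r → F) → F}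
    (hf : Cfsg.Geo.IsUnitaryForm σ f) {g : (Fin r → F) → (Fin r → F) → F} (hg : Cfsg.Geo.IsBilinearForm g)
    (hgn : Cfsg.Geo.IsNondegenerateForm g) {N : Subgroup (GL (Fin r) F)} (hN : ScalarCommutant N)
    (hfixf : Cfsg.Geo.FixesForm (Cfsg.Geo.matrixSet N) f) (hfixg : Cfsg.Geo.FixesForm (Cfsg.Geo.matrixSet N) g) :
    ∃ F₀ : Subfield F, F₀ ≠ ⊤ ∧ Cfsg.Geo.RealisableOver F₀ (Cfsg.Geo.matrixSet N) := by
  classical
  have hfs := IsSesq.of_unitary hf
  have hgs := IsSesq.of_bilinear hg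
  have hJ : IsUnit (gram f).det := (det_gram_ne_zero hfs hf.nondegenerate).isUnit
  have hB : IsUnit (gram g).det := (det_gram_ne_zero hgs hgn).isUnit
  set J := gram f
  set B := gram g
  set K : Mat := J⁻¹ * B with hK
  have hKd : K.det ≠ 0 := by
    rw [hK, Matrix.det_mul]
    exact mul_ne_zero (Matrix.isUnit_nonsing_inv_det _ hJ).ne_zero hB.ne_zero
  have hsw : ∀ x ∈ N, (x : Mat).map σ * K = K * (x : Mat) := by
    intro x hx
    have h1 : (x : Mat)ᵀ * J * (x : Mat).map σ = J := hfs.gram_invariant hfixf hx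
    have h2 : (x : Mat)ᵀ * B * (x : Mat) = B := by simpa using hgs.gram_invariant hfixg hx
    have hxd : IsUnit ((x : Mat)ᵀ * J).det := by
      rw [Matrix.det_mul, Matrix.det_transpose]
      exact ((Matrix.isUnit_iff_isUnit_det _).1 ⟨x, rfl⟩).mul hJ
    refine (Matrix.isUnit_iff_isUnit_det _).2 hxd |>.mul_left_cancel ?_
    calc (x : Mat)ᵀ * J * ((x : Mat).map σ * K) = J * K := by rw [← mul_assoc, h1]
      _ = B := by rw [hK, Matrix.mul_nonsing_inv_cancel_left _ _ hJ]
      _ = (x : Mat)ᵀ * B * (x : Mat) := h2.symm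
      _ = (x : Mat)ᵀ * J * (K * (x : Mat)) := by
        rw [hK, mul_assoc (x : Mat)ᵀ J, ← mul_assoc J, Matrix.mul_nonsing_inv_cancel_left _ _ hJ, ← mul_assoc]
  have hmap : ∀ (M : Mat) (v : Fin r → F), (fun i => σ ((M *ᵥ v) i)) = M.map σ *ᵥ fun i => σ (v i) := by
    intro M v
    funext i
    simp [Matrix.mulVec, dotProduct, map_sum]
  have hσσ : ∀ M : Mat, (M.map σ).map σ = M := fun M => Matrix.ext fun i j => hf.involutive _
  -- the semilinear map
  let T : (Fin r → F) → (Fin r → F) := fun v i => σ ((K *ᵥ v) i)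
  have hTx : ∀ x ∈ N, ∀ v, T ((x : Mat) *ᵥ v) = (x : Mat) *ᵥ T v := by
    intro x hx v
    show (fun i => σ ((K *ᵥ ((x : Mat) *ᵥ v)) i)) = _
    rw [Matrix.mulVec_mulVec, ← hsw x hx, ← Matrix.mulVec_mulVec, hmap, hσσ]
  have hT2 : ∀ v, T (T v) = (K.map σ * K) *ᵥ v := by
    intro v
    show (fun i => σ ((K *ᵥ T v) i)) = _
    rw [hmap, ← Matrix.mulVec_mulVec]
    congr 1
    funext i
    exact hf.involutive _
  obtain ⟨μ, hμ⟩ := hN (K.map σ * K) fun x hx => Matrix.ext_iff_mulVec.2 fun v => by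
    rw [← Matrix.mulVec_mulVec v _ (x : Mat), ← hT2, ← Matrix.mulVec_mulVec v (x : Mat), ← hT2, hTx x hx, hTx x hx]
  have hTs : ∀ (c : F) v, T (c • v) = σ c • T v := by
    intro c v
    funext i
    simp [T, Matrix.mulVec_smul]
  have hTa : ∀ v w, T (v + w) = T v + T w := by
    intro v w
    funext i
    simp [T, Matrix.mulVec_add]
  have hμ0 : μ ≠ 0 := by
    intro h
    rw [h, zero_smul] at hμ
    have := congrArg Matrix.det hμ
    rw [Matrix.det_mul, Matrix.det_zero, ← RingEquiv.coe_toRingHom, ← RingHom.mapMatrix_apply,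
      ← RingHom.map_det] at this
    rcases mul_eq_zero.1 this with h1 | h1
    · exact hKd (by simpa using h1)
    · exact hKd h1
  have hμσ : σ μ = μ := by
    have hTne : T (Pi.single 0 1) ≠ 0 := by
      intro h
      have h1 := hT2 (Pi.single 0 1)
      rw [h, hμ, Matrix.smul_mulVec, Matrix.one_mulVec, show T 0 = 0 by simpa using hTs 0 0] at h1
      have := congrFun h1 0
      simp at this
      exact hμ0 this.symm
    have h1 := congrArg T (hT2 (Pi.single 0 1))
    rw [hT2 (T (Pi.single 0 1)), hμ, Matrix.smul_mulVec, Matrix.one_mulVec, Matrix.smul_mulVec, Matrix.one_mulVec,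
      hTs] at h1
    exact (smul_left_injective F hTne h1).symm
  obtain ⟨l, hl⟩ := TransvMax.exists_norm_eq hf.ne_refl hf.involutive (a := μ⁻¹) (by rw [map_inv₀, hμσ])
  let U : (Fin r → F) → (Fin r → F) := fun v => l • T v
  have hU2 : ∀ v, U (U v) = v := by
    intro v
    show l • T (l • T v) = v
    rw [hTs, hT2, hμ, Matrix.smul_mulVec, Matrix.one_mulVec, smul_smul, smul_smul, hl, inv_mul_cancel₀ hμ0, one_smul]
  have hUs : ∀ (c : F) v, U (c • v) = σ c • U v := fun c v => by
    show l • T (c • v) = σ c • (l • T v)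
    rw [hTs, smul_comm]
  have hUa : ∀ v w, U (v + w) = U v + U w := fun v w => by
    show l • T (v + w) = l • T v + l • T w
    rw [hTa, smul_add]
  obtain ⟨c, hc⟩ : ∃ c, σ c ≠ c := by
    by_contra h
    push Not at h
    exact hf.ne_refl (RingEquiv.ext h)
  have hspan : Submodule.span F {v | U v = v} = ⊤ := by
    refine eq_top_iff.2 fun v _ => ?_
    have ha : v + U v ∈ {w | U w = w} := by
      show U (v + U v) = v + U v
      rw [hUa, hU2, add_comm]
    have hb : c • v + σ c • U v ∈ {w | U w = w} := by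
      show U (c • v + σ c • U v) = c • v + σ c • U v
      rw [hUa, hUs, hUs, hU2, hf.involutive, add_comm]
    have h1 : (c - σ c) • v ∈ Submodule.span F {w | U w = w} := by
      have h2 := Submodule.sub_mem _ (Submodule.subset_span hb) (Submodule.smul_mem _ (σ c) (Submodule.subset_span ha))
      rw [show (c - σ c) • v = c • v + σ c • U v - σ c • (v + U v) by rw [smul_add, sub_smul]; abel]
      exact h2
    simpa [smul_smul, inv_mul_cancel₀ (sub_ne_zero.2 (Ne.symm hc))] using Submodule.smul_mem _ (c - σ c)⁻¹ h1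
  obtain ⟨s, hsub, hspan', hli⟩ := exists_linearIndependent F {v : Fin r → F | U v = v}
  rw [hspan] at hspan'
  let b0 : Basis s F (Fin r → F) := Basis.mk hli (by rw [Subtype.range_coe, hspan'])
  haveI : Fintype s := FiniteDimensional.fintypeBasisIndex b0
  have hcard : Fintype.card s = Fintype.card (Fin r) := by rw [← finrank_eq_card_basis b0]; simp
  let b : Basis (Fin r) F (Fin r → F) := b0.reindex (Fintype.equivOfCardEq hcard)
  have hbU : ∀ i, U (b i) = b i := fun i => by
    simp only [b, b0, Basis.reindex_apply, Basis.mk_apply]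
    exact hsub (Subtype.coe_prop _)
  refine ⟨RingHom.eqLocusField σ.toRingHom (RingHom.id F), fun e => hc ?_, ?_⟩
  · have : c ∈ RingHom.eqLocusField σ.toRingHom (RingHom.id F) := by rw [e]; exact Subfield.mem_top c
    exact this
  let P : GL (Fin r) F := TransvMax.glOf b.equivFun.symm
  have hP : ∀ i, (P : Mat) *ᵥ (Pi.single i 1 : Fin r → F) = b i := fun i => by
    show _ = b i
    rw [TransvMax.glOf_mulVec, Basis.equivFun_symm_apply]
    simp [Pi.single_apply]
  refine ⟨P⁻¹, ?_⟩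
  rintro _ ⟨x, hx, rfl⟩ i j
  rw [inv_inv]
  set w : Fin r → F := (((P⁻¹ : GL (Fin r) F) : Mat) * (x : Mat) * (P : Mat)) *ᵥ (Pi.single j 1) with hw
  have hxb : (x : Mat) *ᵥ b j = ∑ k, w k • b k := by
    have h1 : (P : Mat) *ᵥ w = ∑ k, w k • b k := by rw [TransvMax.glOf_mulVec, Basis.equivFun_symm_apply]
    rw [← h1, hw, ← Matrix.mulVec_mulVec, ← Matrix.mulVec_mulVec, hP, TransvMax.mulVec_inv_mulVec]
  have hfixw : U ((x : Mat) *ᵥ b j) = (x : Mat) *ᵥ b j := by
    show l • T _ = _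
    rw [hTx x hx, ← Matrix.mulVec_smul]
    show (x : Mat) *ᵥ U (b j) = _
    rw [hbU]
  rw [hxb] at hfixw
  have hUsum : U (∑ k, w k • b k) = ∑ k, σ (w k) • b k := by
    let Uh : (Fin r → F) →+ (Fin r → F) := AddMonoidHom.mk' U hUa
    show Uh _ = _
    rw [map_sum]
    exact Finset.sum_congr rfl fun k _ => by
      show U (w k • b k) = _
      rw [hUs, hbU]
  rw [hUsum] at hfixw
  have h3 := congrArg (fun v => b.repr v i) hfixw
  simp only [b.repr_sum_self] at h3
  show σ _ = _
  have h4 : (((P⁻¹ : GL (Fin r) F) : Mat) * (x : Mat) * (P : Mat)) i j = w i := by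
    show _ = ((((P⁻¹ : GL (Fin r) F) : Mat) * (x : Mat) * (P : Mat)) *ᵥ (Pi.single j 1 : Fin r → F)) i
    rw [Matrix.mulVec_single_one, Matrix.col_apply]
  rw [h4]
  exact h3

theorem subfieldSubgroup_scalar (F₀ : Subfield F) (P : GL (Fin r) F) {s : GL (Fin r) F}
    (hs : s ∈ Cfsg.Geo.scalars (Fin r) F) :
    Cfsg.Geo.subfieldSubgroup F₀ (P * s) = Cfsg.Geo.subfieldSubgroup F₀ P := by
  rw [Cfsg.Geo.subfieldSubgroup, Cfsg.Geo.subfieldSubgroup]
  congr 1
  refine MonoidHom.ext fun x => ?_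
  simp only [MulEquiv.coe_toMonoidHom, MulAut.conj_apply, mul_inv_rev]
  rw [mul_assoc P s x, scalar_comm hs x]
  group

omit [Fintype F] in
theorem no_symmetric_two (hr : 2 ≤ r) (hodd : Odd r) [Finite F] [CharP F 2] {J : Mat} (hJs : Jᵀ = J) (hJd : J.det ≠ 0)
    {N : Subgroup (GL (Fin r) F)} (hN : Irr N) (hfix : ∀ x ∈ N, (x : Mat)ᵀ * J * (x : Mat) = J) : False := by
  classical
  haveI : Fact (Nat.Prime 2) := ⟨Nat.prime_two⟩
  set g : (Fin r → F) → (Fin r → F) → F := matForm (RingEquiv.refl F) J with hg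
  have hgs : IsSesq (RingEquiv.refl F) g := matForm_sesq (RingEquiv.refl F) J
  have hinv := fixes_matForm (σ := RingEquiv.refl F) (J := J) (S := Cfsg.Geo.matrixSet N) (by
    rintro _ ⟨x, hx, rfl⟩
    simpa using hfix x hx)
  have hsymm : ∀ u v, g u v = g v u := by
    intro u v
    show u ⬝ᵥ (J *ᵥ v) = v ⬝ᵥ (J *ᵥ u)
    rw [Matrix.dotProduct_mulVec, ← Matrix.mulVec_transpose, hJs, dotProduct_comm]
  have hadd : ∀ u v, g (u + v) (u + v) = g u u + g v v := by
    intro u v
    rw [hgs.add_left, hgs.add_right, hgs.add_right, hsymm v u]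
    linear_combination (CharTwo.add_self_eq_zero (g u v))
  let W : Submodule F (Fin r → F) :=
    { carrier := {v | g v v = 0}
      add_mem' := fun {u v} hu hv => by
        show g _ _ = 0
        rw [hadd, show g u u = 0 from hu, show g v v = 0 from hv, add_zero]
      zero_mem' := by
        show g 0 0 = 0
        simp [hg, matForm]
      smul_mem' := fun c v hv => by
        show g _ _ = 0
        rw [hgs.smul_left, hgs.smul_right, show g v v = 0 from hv, mul_zero, mul_zero] }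
  rcases hN W (fun x hx w hw => (hinv _ ⟨x, hx, rfl⟩ w w).trans hw) with h | h
  · have hinj : Function.Injective fun v : Fin r → F => g v v := by
      intro u v huv
      have h1 : g (u + v) (u + v) = 0 := by
        rw [hadd]
        show g u u + g v v = 0
        rw [show g u u = g v v from huv, CharTwo.add_self_eq_zero]
      have h2 : u + v ∈ W := h1
      rw [h, Submodule.mem_bot] at h2
      rw [eq_neg_of_add_eq_zero_left h2]
      funext i
      exact CharTwo.neg_eq _
    have h1 := Nat.card_le_card_of_injective _ hinj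
    rw [Nat.card_fun, Nat.card_fin] at h1
    have h2 := Nat.pow_lt_pow_right (Finite.one_lt_card : 1 < Nat.card F) (show 1 < r by omega)
    rw [pow_one] at h2
    omega
  · refine no_alternating hodd (g := g) ⟨hgs.add_left, hgs.smul_left, hgs.add_right, hgs.smul_right⟩ (fun v => ?_) ?_
    · have : v ∈ W := by rw [h]; trivial
      exact this
    · intro v hv
      have hne : J *ᵥ v ≠ 0 := fun e => hJd (Matrix.exists_mulVec_eq_zero_iff.1 ⟨v, hv, e⟩)
      obtain ⟨φ, hφ⟩ := exists_dot_eq_one hne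
      have h0 : g φ v ≠ 0 := by show φ ⬝ᵥ (J *ᵥ v) ≠ 0; rw [hφ]; exact one_ne_zero
      exact ⟨⟨φ, h0⟩, ⟨φ, by rw [hsymm]; exact h0⟩⟩

theorem two_dvd_of_fixed {σ : F ≃+* F} (hne : σ ≠ RingEquiv.refl F) (hinv : ∀ a, σ (σ a) = a) {F₁ : Subfield F}
    {l : ℕ} (hcard : Fintype.card F = Nat.card F₁ ^ l) (hfix : ∀ a ∈ F₁, σ a = a) : 2 ∣ l := by
  haveI : FiniteDimensional F₁ F := Module.Finite.of_finite
  have hl : finrank F₁ F = l := by
    refine Nat.pow_right_injective (Finite.one_lt_card (α := F₁)) ?_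
    show Nat.card F₁ ^ finrank F₁ F = Nat.card F₁ ^ l
    rw [← Module.natCard_eq_pow_finrank, Nat.card_eq_fintype_card, hcard]
  let g : F ≃ₐ[F₁] F := AlgEquiv.ofRingEquiv (f := σ) fun x => hfix x x.2
  have hg : orderOf g = 2 := by
    haveI : Fact (Nat.Prime 2) := ⟨Nat.prime_two⟩
    refine orderOf_eq_prime (AlgEquiv.ext fun x => ?_) fun e => hne (RingEquiv.ext fun x => ?_)
    · show g (g x) = x
      exact hinv x
    · exact AlgEquiv.congr_fun e x
  have h1 := orderOf_dvd_natCard g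
  rwa [hg, IsGalois.card_aut_eq_finrank F₁ F, hl] at h1

variable {q : ℕ} {σ : F ≃+* F}

/-- A group realised over a smaller field: the overgroup lies in a subfield group with a compatible structure. -/
theorem rational_structure [NeZero r] (S : USetting r F q σ) (hodd : Odd r) {N H : Subgroup (GL (Fin r) F)}
    (hNi : Irr N) (hN : ScalarCommutant N) (hfix : Cfsg.Geo.FixesForm (Cfsg.Geo.matrixSet N) (Cfsg.hermForm r F q))
    (hnorm : ∀ h ∈ H, ∀ x ∈ N, h * x * h⁻¹ ∈ N)
    {F₀ : Subfield F} (hF₀ : F₀ ≠ ⊤) (hreal : Cfsg.Geo.RealisableOver F₀ (Cfsg.Geo.matrixSet N)) :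
    ∃ (F₁ : Subfield F) (l : ℕ) (P : GL (Fin r) F), l.Prime ∧ Fintype.card F = Nat.card F₁ ^ l ∧ F₁ ≠ ⊤ ∧
      Cfsg.Geo.IsFormRationalStructure (Cfsg.hermForm r F q) F₁ 1 P ∧ (l = 2 → Odd q) ∧
      H ≤ Cfsg.Geo.subfieldSubgroup F₁ P := by
  classical
  obtain ⟨B, hB₀⟩ := hreal
  obtain ⟨F₁, l, h01, hl, hcard, hne⟩ := exists_prime_index F₀ hF₀
  have hB : ∀ s ∈ Cfsg.Geo.matrixSet N, ∀ i j, ((B : Mat) * s * ((B⁻¹ : GL (Fin r) F) : Mat)) i j ∈ F₁ :=
    fun s hs i j => h01 (hB₀ s hs i j)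
  have hle : H ≤ Cfsg.Geo.subfieldSubgroup F₁ B⁻¹ :=
    fun h hh => mem_subfieldSubgroup_of_normalises hN F₁ hB (hnorm h hh)
  have hσF : ∀ a ∈ F₁, σ a ∈ F₁ := fun a ha => by rw [S.pow]; exact pow_mem ha q
  have hfs := IsSesq.of_unitary S.herm
  set g := fun u v => Cfsg.hermForm r F q (((B⁻¹ : GL (Fin r) F) : Mat) *ᵥ u) (((B⁻¹ : GL (Fin r) F) : Mat) *ᵥ v)
  have hgs : IsSesq σ g := hfs.comp _
  set J := gram g with hJ
  set N' : Set Mat := (fun x : Mat => (B : Mat) * x * ((B⁻¹ : GL (Fin r) F) : Mat)) '' Cfsg.Geo.matrixSet N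
  have hgfix : ∀ s ∈ N', ∀ u v, g (s *ᵥ u) (s *ᵥ v) = g u v := by
    rintro _ ⟨x, hx, rfl⟩ u v
    show Cfsg.hermForm r F q _ _ = Cfsg.hermForm r F q _ _
    simp only [← Matrix.mulVec_mulVec, TransvMax.inv_mulVec_mulVec]
    exact hfix x hx _ _
  have hJinv : ∀ s ∈ N', sᵀ * J * s.map σ = J := by
    intro s hs
    rw [hJ, ← hgs.gram_comp]
    congr 1
    funext u v
    exact hgfix s hs u v
  have hJd : J.det ≠ 0 := by
    refine det_gram_ne_zero hgs fun v hv => ?_
    obtain ⟨⟨x, hx⟩, ⟨y, hy⟩⟩ := S.herm.nondegenerate (((B⁻¹ : GL (Fin r) F) : Mat) *ᵥ v) fun e => hv (by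
      simpa only [TransvMax.mulVec_inv_mulVec, Matrix.mulVec_zero] using congrArg ((B : Mat) *ᵥ ·) e)
    exact ⟨⟨(B : Mat) *ᵥ x, by simpa only [g, TransvMax.inv_mulVec_mulVec] using hx⟩,
      ⟨(B : Mat) *ᵥ y, by simpa only [g, TransvMax.inv_mulVec_mulVec] using hy⟩⟩
  obtain ⟨i0, j0, hij⟩ : ∃ i j, J i j ≠ 0 := by
    by_contra hc
    push Not at hc
    exact hJd (by rw [show J = 0 from Matrix.ext hc]; exact Matrix.det_zero)
  obtain ⟨L, hL⟩ : ∃ L : F →ₗ[F₁] F₁, L (J i0 j0) ≠ 0 := by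
    by_contra hc
    push Not at hc
    exact hij ((Module.forall_dual_apply_eq_zero_iff F₁ _).1 hc)
  set J1 : Mat := fun i j => (L (J i j) : F) with hJ1
  have hJ1F : ∀ i j, J1 i j ∈ F₁ := fun i j => (L (J i j)).2
  have hsF : ∀ s ∈ N', ∀ i j, s i j ∈ F₁ := by
    rintro _ ⟨x, hx, rfl⟩ i j
    exact hB x hx i j
  have hJ1inv : ∀ s ∈ N', sᵀ * J1 * s.map σ = J1 := by
    intro s hs
    ext i j
    have h1 := congrArg (fun M : Mat => (L (M i j) : F)) (hJinv s hs)
    refine Eq.trans ?_ h1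
    simp only [Matrix.mul_apply, Finset.sum_mul, map_sum, AddSubmonoidClass.coe_finsetSum]
    refine Finset.sum_congr rfl fun k _ => Finset.sum_congr rfl fun m _ => ?_
    have hm : sᵀ i m * (s.map σ) k j ∈ F₁ := F₁.mul_mem (hsF s hs m i) (hσF _ (hsF s hs k j))
    rw [show sᵀ i m * J m k * (s.map σ) k j = (⟨_, hm⟩ : F₁) • J m k by
      show _ = (sᵀ i m * (s.map σ) k j) * J m k
      ring, map_smul]
    show sᵀ i m * J1 m k * _ = (sᵀ i m * (s.map σ) k j) * (L (J m k) : F)
    rw [hJ1]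
    ring
  have hf1 : IsSesq σ fun u v => matForm σ J1 ((B : Mat) *ᵥ u) ((B : Mat) *ᵥ v) := (matForm_sesq σ J1).comp _
  obtain ⟨c, hc⟩ := form_unique hN hfs S.herm.nondegenerate hf1 hfix (by
    rintro x hx u v
    have h1 := fixes_matForm (S := N') hJ1inv _ ⟨x, hx, rfl⟩ ((B : Mat) *ᵥ u) ((B : Mat) *ᵥ v)
    simpa only [← Matrix.mulVec_mulVec, TransvMax.inv_mulVec_mulVec] using h1)
  have hJ1c : ∀ i j, J1 i j = c * J i j := by
    intro i j
    have h1 := hc (((B⁻¹ : GL (Fin r) F) : Mat) *ᵥ Pi.single i 1) (((B⁻¹ : GL (Fin r) F) : Mat) *ᵥ Pi.single j 1)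
    simp only [TransvMax.mulVec_inv_mulVec] at h1
    rw [← show matForm σ J1 (Pi.single i 1) (Pi.single j 1) = J1 i j from congrFun (congrFun (gram_matForm σ J1) i) j]
    exact h1
  have hc0 : c ≠ 0 := fun e => hL (Subtype.ext (by
    have := hJ1c i0 j0
    rw [e, zero_mul] at this
    exact this))
  set d := c⁻¹ with hd
  have hd0 : d ≠ 0 := inv_ne_zero hc0
  have hJd1 : ∀ i j, J i j = d * J1 i j := fun i j => by rw [hJ1c, hd, inv_mul_cancel_left₀ hc0]
  have hherm : ∀ i j, J j i = σ (J i j) := fun i j => S.herm.herm _ _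
  set δ := σ d / d with hδ
  have hδF : δ ∈ F₁ := by
    have h1 : J1 i0 j0 ≠ 0 := fun e => hij (by rw [hJd1, e, mul_zero])
    have h2 := hherm i0 j0
    rw [hJd1 j0 i0, hJd1 i0 j0, map_mul] at h2
    rw [show δ = J1 j0 i0 / σ (J1 i0 j0) by
      rw [hδ, div_eq_div_iff hd0 (by simpa using h1)]; linear_combination -h2]
    exact F₁.div_mem (hJ1F _ _) (hσF _ (hJ1F _ _))
  have hδJ : ∀ i j, J1 j i = δ * σ (J1 i j) := by
    intro i j
    have h2 := hherm i j
    rw [hJd1 j i, hJd1 i j, map_mul] at h2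
    rw [hδ, div_mul_eq_mul_div, eq_div_iff hd0]
    linear_combination h2
  -- it suffices to find a rational multiplier with the same twist
  suffices key : ∃ ε ∈ F₁, ε ≠ 0 ∧ σ ε = δ * ε ∧ (l = 2 → Odd q) by
    obtain ⟨ε, hεF, hε0, hεσ, hq⟩ := key
    obtain ⟨t, ht⟩ := TransvMax.exists_norm_eq S.herm.ne_refl S.herm.involutive (a := ε / d) (by
      rw [map_div₀, hεσ, hδ]; field_simp; exact div_self (by simpa using hd0))
    have ht0 : t ≠ 0 := fun e => div_ne_zero hε0 hd0 (by rw [← ht, e, zero_mul])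
    obtain ⟨s, hs, hsv⟩ : ∃ s ∈ Cfsg.Geo.scalars (Fin r) F, (s : Mat) = t • 1 := by
      refine ⟨Units.map (Matrix.scalar (Fin r) : F →+* Mat).toMonoidHom (Units.mk0 t ht0), ⟨_, rfl⟩, ?_⟩
      simp [Matrix.smul_one_eq_diagonal]
    refine ⟨F₁, l, B⁻¹ * s, hl, hcard, hne, ?_, hq, by rw [subfieldSubgroup_scalar _ _ hs]; exact hle⟩
    intro u v hu hv
    rw [one_mul, Units.val_mul, hsv, mul_smul_comm, mul_one, Matrix.smul_mulVec, Matrix.smul_mulVec,
      hfs.smul_left, hfs.smul_right]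
    show t * (σ t * g u v) ∈ F₁
    rw [hgs.eq_gram, ← mul_assoc, ht, ← hJ, show J = d • J1 from Matrix.ext fun i j => hJd1 i j, Matrix.smul_mulVec,
      dotProduct_smul, smul_eq_mul, ← mul_assoc, div_mul_cancel₀ _ hd0]
    refine F₁.mul_mem hεF (sum_mem fun i _ => F₁.mul_mem (hu i) ?_)
    show ∑ j, J1 i j * σ (v j) ∈ F₁
    exact sum_mem fun j _ => F₁.mul_mem (hJ1F i j) (hσF _ (hv j))
  have hδ1 : δ * σ δ = 1 := by
    rw [hδ, map_div₀, S.herm.involutive]
    field_simp
    rw [div_self (by simpa using hd0 : σ d ≠ 0)]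
  by_cases hfixF : ∀ a ∈ F₁, σ a = a
  · -- index two
    have hl2 : l = 2 :=
      ((Nat.prime_dvd_prime_iff_eq Nat.prime_two hl).1
        (two_dvd_of_fixed S.herm.ne_refl S.herm.involutive hcard hfixF)).symm
    have hJs : ∀ i j, J1 j i = δ * J1 i j := fun i j => by rw [hδJ, hfixF _ (hJ1F i j)]
    have hJ1d : J1.det ≠ 0 := by
      rw [show J1 = c • J from Matrix.ext fun i j => hJ1c i j, Matrix.det_smul]
      exact mul_ne_zero (pow_ne_zero _ hc0) hJd
    have hδ2 : δ ^ 2 = 1 := by rw [hfixF δ hδF] at hδ1; rw [pow_two]; exact hδ1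
    by_cases h2 : (2 : F) = 0
    · exfalso
      haveI : CharP F 2 := (CharP.charP_iff_prime_eq_zero Nat.prime_two).2 h2
      have hδe : δ = 1 := by
        have h3 : (δ - 1) ^ 2 = 0 := by linear_combination hδ2 - (δ - 1) * h2
        exact sub_eq_zero.1 ((pow_eq_zero_iff two_ne_zero).1 h3)
      have hNC : ∀ x ∈ N, B * x * B⁻¹ ∈ N.map (MulAut.conj B).toMonoidHom := fun x hx => ⟨x, hx, rfl⟩
      refine no_symmetric_two (by have := S.dim; omega) hodd (J := J1)
        (Matrix.ext fun i j => by rw [Matrix.transpose_apply, hJs, hδe, one_mul]) hJ1d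
        (N := N.map (MulAut.conj B).toMonoidHom) (fun W hW => ?_) ?_
      · have hinvW : ∀ x ∈ N, ∀ w ∈ gmap B⁻¹ W, (x : Mat) *ᵥ w ∈ gmap B⁻¹ W := by
          intro x hx w hw
          rw [mem_gmap, inv_inv] at hw ⊢
          have h1 := hW _ (hNC x hx) _ hw
          rwa [Units.val_mul, Units.val_mul, ← Matrix.mulVec_mulVec, ← Matrix.mulVec_mulVec,
            TransvMax.inv_mulVec_mulVec] at h1
        rcases hNi (gmap B⁻¹ W) hinvW with h | h
        · left
          refine eq_bot_iff.2 fun w hw => ?_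
          have h1 : ((B⁻¹ : GL (Fin r) F) : Mat) *ᵥ w ∈ gmap B⁻¹ W := by
            rw [mem_gmap, inv_inv, TransvMax.mulVec_inv_mulVec]; exact hw
          rw [h, Submodule.mem_bot] at h1
          rw [Submodule.mem_bot, ← TransvMax.mulVec_inv_mulVec B w, h1, Matrix.mulVec_zero]
        · right
          refine eq_top_iff.2 fun w _ => ?_
          have h1 : ((B⁻¹ : GL (Fin r) F) : Mat) *ᵥ w ∈ gmap B⁻¹ W := by rw [h]; trivial
          rwa [mem_gmap, inv_inv, TransvMax.mulVec_inv_mulVec] at h1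
      · rintro _ ⟨x, hx, rfl⟩
        have hmem : ((MulAut.conj B).toMonoidHom x : Mat) ∈ N' := ⟨x, ⟨x, hx, rfl⟩, by simp [Units.val_mul]⟩
        have h1 := hJ1inv _ hmem
        rwa [show ((MulAut.conj B).toMonoidHom x : Mat).map σ = ((MulAut.conj B).toMonoidHom x : Mat) from
          Matrix.ext fun i j => hfixF _ (hsF _ hmem i j)] at h1
    · have hqodd : Odd q := by
        have h3 : Odd (Fintype.card F) := Nat.odd_iff.2 (FiniteField.odd_card_of_char_ne_two fun e => h2 (by
          haveI := ringChar.charP F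
          have := CharP.cast_eq_zero F (ringChar F)
          rw [e] at this
          exact_mod_cast this))
        rw [S.card] at h3
        exact (Nat.odd_pow_iff two_ne_zero).1 h3
      have hδe : δ = 1 := by
        rcases mul_eq_zero.1 (show (δ - 1) * (δ + 1) = 0 by linear_combination hδ2) with h | h
        · exact sub_eq_zero.1 h
        exfalso
        have hδm : δ = -1 := eq_neg_of_add_eq_zero_left h
        have hskew : ∀ u v, matForm (RingEquiv.refl F) J1 u v = - matForm (RingEquiv.refl F) J1 v u := by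
          intro u v
          show u ⬝ᵥ (J1 *ᵥ v) = -(v ⬝ᵥ (J1 *ᵥ u))
          have ht : J1ᵀ = -J1 := Matrix.ext fun i j => by
            rw [Matrix.transpose_apply, hJs, hδm, neg_one_mul, Matrix.neg_apply]
          rw [Matrix.dotProduct_mulVec, ← Matrix.mulVec_transpose, ht, Matrix.neg_mulVec, neg_dotProduct, dotProduct_comm]
        have hs' := matForm_sesq (RingEquiv.refl F) J1
        refine no_alternating hodd ⟨hs'.add_left, hs'.smul_left, hs'.add_right, hs'.smul_right⟩ (fun v => ?_) (fun v hv => ?_)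
        · have h3 := hskew v v
          have h4 : (2 : F) * matForm (RingEquiv.refl F) J1 v v = 0 := by linear_combination h3
          exact (mul_eq_zero.1 h4).resolve_left h2
        · have hne' : J1 *ᵥ v ≠ 0 := fun e => hJ1d (Matrix.exists_mulVec_eq_zero_iff.1 ⟨v, hv, e⟩)
          obtain ⟨φ, hφ⟩ := exists_dot_eq_one hne'
          have h0 : matForm (RingEquiv.refl F) J1 φ v ≠ 0 := by
            show φ ⬝ᵥ (J1 *ᵥ v) ≠ 0
            rw [hφ]; exact one_ne_zero
          exact ⟨⟨φ, h0⟩, ⟨φ, by rw [hskew]; exact neg_ne_zero.2 h0⟩⟩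
      exact ⟨1, F₁.one_mem, one_ne_zero, by rw [map_one, hδe, one_mul], fun _ => hqodd⟩
  · -- odd index
    have hl2 : l ≠ 2 := by
      intro e
      refine hfixF fun a ha => ?_
      rw [e] at hcard
      have hq : q = Nat.card F₁ := Nat.pow_left_injective two_ne_zero (S.card.symm.trans hcard)
      rw [S.pow, hq]
      have h1 := FiniteField.pow_card (K := F₁) (⟨a, ha⟩ : F₁)
      rw [← Nat.card_eq_fintype_card] at h1
      exact congrArg Subtype.val h1
    have hδ0 : δ ≠ 0 := fun e => by rw [e, zero_mul] at hδ1; exact zero_ne_one hδ1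
    have hδi : σ δ⁻¹ = δ := by
      rw [map_inv₀]
      exact (eq_inv_of_mul_eq_one_left hδ1).symm
    obtain ⟨y, hy, hyne⟩ : ∃ y ∈ F₁, y + δ⁻¹ * σ y ≠ 0 := by
      by_contra hcon
      push Not at hcon
      have h1 := hcon 1 F₁.one_mem
      rw [map_one, mul_one] at h1
      obtain ⟨a, ha, hane⟩ : ∃ a ∈ F₁, σ a ≠ a := by
        by_contra hh
        push Not at hh
        exact hfixF hh
      refine hane ?_
      have h2 := hcon a ha
      linear_combination (σ a) * h1 - h2
    exact ⟨y + δ⁻¹ * σ y, F₁.add_mem hy (F₁.mul_mem (F₁.inv_mem hδF) (hσF y hy)), hyne, by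
      rw [map_add, map_mul, hδi, S.herm.involutive, mul_add, mul_inv_cancel_left₀ hδ0, add_comm],
      fun e => absurd e hl2⟩

end Cfsg.Agent.PrimeDim
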