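import Cfsg.Agent.Lib.PrimeDim.Abelian
import Cfsg.Agent.Lib.PrimeDim.Core
import Cfsg.Agent.Lib.PrimeDim.Main
import Cfsg.Agent.Lib.PrimeDim.UnitaryRational
import Cfsg.Agent.Lib.PrimeDim.OrthBase

/-!
Maximal subgroups of the derived orthogonal group of prime dimension at least seven.
-/

set_option autoImplicit false

namespace Cfsg.Agent.PrimeDim

open scoped Matrix MatrixGroups commutatorElement
open Module
open Cfsg.Agent
open Cfsg.Agent.TransvMax (pB)

variable {r : ℕ} {F : Type*} [Field F] [Fintype F] {Q : QuadraticForm F (Fin r → F)}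

local notation "V" => Fin r → F

local notation "Mat" => Matrix (Fin r) (Fin r) F

/-- The list for the derived orthogonal group in prime dimension. -/
def OPrimeCases (H : Subgroup (GL (Fin r) F)) (Q : QuadraticForm F (Fin r → F)) : Prop :=
  (∃ W : Submodule F V, W ≠ ⊥ ∧ Cfsg.Geo.IsTotallySingularQuad (⇑Q) W ∧
    H = Cfsg.Geo.subspaceStabilizer W ⊓ Cfsg.Geo.omegaGL ⇑Q) ∨
  (∃ W : Submodule F V, W ≠ ⊥ ∧ Even (finrank F W) ∧ Cfsg.Geo.IsNondegenerateOn (QuadraticMap.polar ⇑Q) W ∧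
    ¬ (Fintype.card F = 3 ∧ finrank F W = 2 ∧ Cfsg.Geo.IsPlusTypeOn (⇑Q) W) ∧
    H = Cfsg.Geo.subspaceStabilizer W ⊓ Cfsg.Geo.omegaGL ⇑Q) ∨
  ((Fintype.card F).Prime ∧ ∃ D : Fin r → Submodule F V, Cfsg.Geo.IsOrthogonalMDecomposition (⇑Q) 1 D ∧
    H = Cfsg.Geo.decompositionStabilizer D ⊓ Cfsg.Geo.omegaGL ⇑Q) ∨
  (∃ (F₀ : Subfield F) (l : ℕ) (P : GL (Fin r) F), l.Prime ∧ Fintype.card F = Nat.card F₀ ^ l ∧
    Cfsg.Geo.IsQuadFormRationalStructure (⇑Q) F₀ P ∧
    H = Cfsg.Geo.subfieldSubgroup F₀ P ⊓ Cfsg.Geo.omegaGL ⇑Q) ∨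
  Cfsg.Geo.InOrthogonalResidualClass H

variable {H : Subgroup (GL (Fin r) F)}

theorem eq_inf_of_le_omega {M : Subgroup (GL (Fin r) F)} (hH : Cfsg.Geo.IsMaximalIn (Cfsg.Geo.omegaGL ⇑Q) H)
    (hle : H ≤ M) (hne : ¬ Cfsg.Geo.omegaGL ⇑Q ≤ M) : H = M ⊓ Cfsg.Geo.omegaGL ⇑Q := by
  rcases hH.2 (M ⊓ Cfsg.Geo.omegaGL ⇑Q) (le_inf hle hH.1.le) inf_le_right with h | h
  · exact h.symm
  · exact absurd (inf_eq_right.1 h) hne

theorem quad_of_mem (hH : Cfsg.Geo.IsMaximalIn (Cfsg.Geo.omegaGL ⇑Q) H) {g : GL (Fin r) F} (hg : g ∈ H) (u : V) :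
    Q ((g : Mat) *ᵥ u) = Q u := by
  obtain ⟨x, -, rfl⟩ := hH.1.le hg
  exact x.2 u u

theorem polar_of_mem_H (hH : Cfsg.Geo.IsMaximalIn (Cfsg.Geo.omegaGL ⇑Q) H) {g : GL (Fin r) F} (hg : g ∈ H)
    (u v : V) : QuadraticMap.polar (⇑Q) ((g : Mat) *ᵥ u) ((g : Mat) *ᵥ v) = QuadraticMap.polar (⇑Q) u v := by
  simp only [QuadraticMap.polar, ← Matrix.mulVec_add, quad_of_mem hH hg]

omit [Fintype F] in
theorem QS.bilinear (_S : QS Q) : Cfsg.Geo.IsBilinearForm (QuadraticMap.polar ⇑Q) :=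
  ⟨QuadraticMap.polar_add_left Q, fun c x v => by rw [QuadraticMap.polar_smul_left, smul_eq_mul],
    fun v x y => QuadraticMap.polar_add_right Q v x y,
    fun c v x => by rw [QuadraticMap.polar_smul_right, smul_eq_mul]⟩

omit [Fintype F] in
theorem QS.nondeg_form (S : QS Q) : Cfsg.Geo.IsNondegenerateForm (QuadraticMap.polar ⇑Q) := by
  intro v hv
  obtain ⟨x, hx⟩ := S.exists_one hv
  rw [QuadraticMap.polarBilin_apply_apply] at hx
  exact ⟨⟨x, by rw [hx]; exact one_ne_zero⟩, ⟨x, by rw [QuadraticMap.polar_comm, hx]; exact one_ne_zero⟩⟩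

theorem stab_of_invariant_omega {W : Submodule F V} (hinv : ∀ g ∈ H, ∀ w ∈ W, (g : Mat) *ᵥ w ∈ W) :
    H ≤ Cfsg.Geo.subspaceStabilizer W := by
  intro g hg v
  refine ⟨hinv g hg v, fun h => ?_⟩
  have := hinv g⁻¹ (H.inv_mem hg) _ h
  rwa [show Cfsg.glToMat (Fin r) F g *ᵥ v = (g : Mat) *ᵥ v from rfl, TransvMax.inv_mulVec_mulVec] at this

theorem orth_invariant (hH : Cfsg.Geo.IsMaximalIn (Cfsg.Geo.omegaGL ⇑Q) H) {W : Submodule F V}
    (hinv : ∀ g ∈ H, ∀ w ∈ W, (g : Mat) *ᵥ w ∈ W) :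
    ∀ g ∈ H, ∀ y ∈ LinearMap.BilinForm.orthogonal (pB Q) W, (g : Mat) *ᵥ y ∈ LinearMap.BilinForm.orthogonal (pB Q) W := by
  intro g hg y hy w hw
  show pB Q w _ = 0
  rw [QuadraticMap.polarBilin_apply_apply, ← TransvMax.mulVec_inv_mulVec g w, polar_of_mem_H hH hg]
  exact hy _ (hinv g⁻¹ (H.inv_mem hg) w hw)

theorem even_case (S : QS Q) (hH : Cfsg.Geo.IsMaximalIn (Cfsg.Geo.omegaGL ⇑Q) H) (hodd : Odd r)
    {W : Submodule F V} (hW0 : W ≠ ⊥) (hev : Even (finrank F W))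
    (hnd : Cfsg.Geo.IsNondegenerateOn (QuadraticMap.polar ⇑Q) W)
    (hinv : ∀ g ∈ H, ∀ w ∈ W, (g : Mat) *ᵥ w ∈ W) : OPrimeCases H Q := by
  classical
  have hW1 : W ≠ ⊤ := fun e => by
    rw [e, finrank_top, finrank_fintype_fun_eq_card, Fintype.card_fin] at hev
    exact Nat.not_even_iff_odd.2 hodd hev
  by_cases hexc : Fintype.card F = 3 ∧ finrank F W = 2 ∧ Cfsg.Geo.IsPlusTypeOn (⇑Q) W
  swap
  · exact Or.inr (Or.inl ⟨W, hW0, hev, hnd, hexc,
      eq_inf_of_le_omega hH (stab_of_invariant_omega hinv) (omega_not_le_subspace S hW0 hW1)⟩)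
  obtain ⟨h3, h2, U, hUW, hUs, hUd⟩ := hexc
  have h20 := S.two_ne
  obtain ⟨e, he, he0⟩ := Submodule.exists_mem_ne_zero_of_ne_bot (p := U) (fun h => by
    rw [h, finrank_bot] at hUd; omega)
  have hQe : Q e = 0 := hUs e he
  obtain ⟨w, hw, hwe⟩ := (hnd e (hUW he) he0).1
  rw [← QuadraticMap.polarBilin_apply_apply] at hwe
  set f := (pB Q w e)⁻¹ • w - ((pB Q w e)⁻¹ * (pB Q w e)⁻¹ * Q w) • e with hf
  have hee : pB Q e e = 0 := by rw [pB_self, hQe, mul_zero]
  have hfe : pB Q f e = 1 := by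
    rw [hf, map_sub, LinearMap.sub_apply, map_smul, LinearMap.smul_apply, map_smul, LinearMap.smul_apply, hee,
      smul_zero, sub_zero, smul_eq_mul, inv_mul_cancel₀ hwe]
  have hQf : Q f = 0 := by
    rw [hf, sub_eq_add_neg, ← neg_smul, quad_add', quad_smul', quad_smul', hQe, map_smul, map_smul,
      LinearMap.smul_apply, smul_eq_mul, smul_eq_mul]
    field_simp
    ring
  have hfW : f ∈ W := W.sub_mem (W.smul_mem _ hw) (W.smul_mem _ (hUW he))
  have hli : LinearIndependent F ![e, f] := by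
    refine LinearIndependent.pair_iff.2 fun a b hab => ?_
    have h1 := congrArg (fun v => pB Q v e) hab
    simp only [map_add, map_smul, LinearMap.add_apply, LinearMap.smul_apply, hee, hfe, map_zero, LinearMap.zero_apply,
      smul_eq_mul, mul_zero, zero_add, mul_one] at h1
    subst h1
    rw [zero_smul, add_zero, smul_eq_zero] at hab
    exact ⟨hab.resolve_right he0, rfl⟩
  have hspan : Submodule.span F (Set.range ![e, f]) = W := by
    refine Submodule.eq_of_le_of_finrank_le (Submodule.span_le.2 ?_) ?_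
    · rintro _ ⟨i, rfl⟩
      fin_cases i
      · exact hUW he
      · exact hfW
    · rw [finrank_span_eq_card hli, h2]; rfl
  have hQef : Q (e + f) = 1 := by rw [quad_add', hQe, hQf, pB_comm, hfe]; ring
  have h3F : ∀ a : F, a ^ 3 = a := fun a => by rw [← h3]; exact FiniteField.pow_card a
  set L := Submodule.span F {e + f}
  have hLinv : ∀ g ∈ H, ∀ v ∈ L, (g : Mat) *ᵥ v ∈ L := by
    intro g hg v hv
    obtain ⟨t, rfl⟩ := Submodule.mem_span_singleton.1 hv
    rw [Matrix.mulVec_smul]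
    refine L.smul_mem _ ?_
    have h1 := hinv g hg _ (W.add_mem (hUW he) hfW)
    have hQ := quad_of_mem hH hg (e + f)
    rw [← hspan, Submodule.mem_span_range_iff_exists_fun] at h1
    obtain ⟨c, hc⟩ := h1
    rw [Fin.sum_univ_two] at hc
    simp only [Matrix.cons_val_zero, Matrix.cons_val_one] at hc
    rw [← hc, hQef, quad_add', quad_smul', quad_smul', hQe, hQf, map_smul, map_smul, LinearMap.smul_apply,
      smul_eq_mul, smul_eq_mul, pB_comm, hfe] at hQ
    have h01 : c 0 * c 1 = 1 := by linear_combination hQ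
    have heq : c 1 = c 0 := by
      have hne : c 0 ≠ 0 := fun h => by rw [h, zero_mul] at h01; exact zero_ne_one h01
      have hsq : c 0 * c 0 = 1 := mul_left_cancel₀ hne (by linear_combination h3F (c 0))
      exact mul_left_cancel₀ hne (h01.trans hsq.symm)
    rw [← hc, heq, ← smul_add]
    exact L.smul_mem _ (Submodule.mem_span_singleton_self _)
  have hne : e + f ≠ 0 := fun h => by
    rw [h, map_zero] at hQef
    exact zero_ne_one hQef
  set P := LinearMap.BilinForm.orthogonal (pB Q) L with hP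
  have hdim : finrank F P = r - 1 := by
    rw [hP, LinearMap.BilinForm.finrank_orthogonal S.nondeg, finrank_span_singleton hne, finrank_fintype_fun_eq_card,
      Fintype.card_fin]
  have hself : pB Q (e + f) (e + f) = 2 := by rw [pB_self, hQef, mul_one]
  have hPnd : Cfsg.Geo.IsNondegenerateOn (QuadraticMap.polar ⇑Q) P := by
    intro y hy hy0
    obtain ⟨x, hx⟩ : ∃ x, pB Q x y ≠ 0 := ⟨_, by rw [(S.exists_one hy0).choose_spec]; exact one_ne_zero⟩
    have hya : pB Q (e + f) y = 0 := hy _ (Submodule.mem_span_singleton_self _)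
    set x' := x - (pB Q (e + f) x / 2) • (e + f) with hx'
    have hxP : x' ∈ P := by
      intro n hn
      obtain ⟨t, rfl⟩ := Submodule.mem_span_singleton.1 hn
      show pB Q (t • (e + f)) x' = 0
      rw [map_smul, LinearMap.smul_apply, hx', map_sub, map_smul, hself, smul_eq_mul, smul_eq_mul, div_mul_cancel₀ _ h20,
        sub_self, mul_zero]
    have hxy : pB Q x' y ≠ 0 := by
      rw [hx', map_sub, LinearMap.sub_apply, map_smul, LinearMap.smul_apply, hya, smul_zero, sub_zero]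
      exact hx
    rw [QuadraticMap.polarBilin_apply_apply] at hxy
    exact ⟨⟨x', hxP, hxy⟩, ⟨x', hxP, by rwa [QuadraticMap.polar_comm]⟩⟩
  have hdr := S.dim
  have hP0 : P ≠ ⊥ := fun h => by rw [h, finrank_bot] at hdim; omega
  have hP1 : P ≠ ⊤ := fun h => by
    rw [h, finrank_top, finrank_fintype_fun_eq_card, Fintype.card_fin] at hdim; omega
  refine Or.inr (Or.inl ⟨P, hP0, ?_, hPnd, fun h => ?_,
    eq_inf_of_le_omega hH (stab_of_invariant_omega (orth_invariant hH hLinv)) (omega_not_le_subspace S hP0 hP1)⟩)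
  · rw [hdim]
    obtain ⟨m, rfl⟩ := hodd
    exact ⟨m, by omega⟩
  · rw [hdim] at h
    omega

theorem reducible_omega (S : QS Q) (hH : Cfsg.Geo.IsMaximalIn (Cfsg.Geo.omegaGL ⇑Q) H) (hodd : Odd r)
    (hirr : ¬ Irr H) : OPrimeCases H Q := by
  classical
  obtain ⟨W, hW0, hW1, hinv, hmin⟩ := exists_minimal_invariant hirr
  set P := LinearMap.BilinForm.orthogonal (pB Q) W with hP
  have hPinv := orth_invariant hH hinv
  rcases hmin (W ⊓ P) (fun g hg w hw => ⟨hinv g hg w hw.1, hPinv g hg w hw.2⟩) inf_le_left with h | h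
  · have hnd : Cfsg.Geo.IsNondegenerateOn (QuadraticMap.polar ⇑Q) W := by
      intro w hw hw0
      have hwP : w ∉ P := fun hwP => hw0 (by
        have h1 : w ∈ W ⊓ P := ⟨hw, hwP⟩
        rw [h] at h1
        simpa using h1)
      obtain ⟨x, hx, hx'⟩ : ∃ x ∈ W, pB Q x w ≠ 0 := by
        by_contra hc
        push Not at hc
        exact hwP hc
      rw [QuadraticMap.polarBilin_apply_apply] at hx'
      exact ⟨⟨x, hx, hx'⟩, ⟨x, hx, by rwa [QuadraticMap.polar_comm]⟩⟩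
    rcases Nat.even_or_odd (finrank F W) with hev | hod
    · exact even_case S hH hodd hW0 hev hnd hinv
    have hsum : finrank F W + finrank F P = r := by
      rw [hP, LinearMap.BilinForm.finrank_orthogonal S.nondeg, finrank_fintype_fun_eq_card, Fintype.card_fin]
      have := Submodule.finrank_le W
      rw [finrank_fintype_fun_eq_card, Fintype.card_fin] at this
      omega
    have hP0 : P ≠ ⊥ := fun e => by
      rw [e, finrank_bot, add_zero] at hsum
      exact hW1 (Submodule.eq_top_of_finrank_eq (by rw [hsum]; simp))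
    have hPnd : Cfsg.Geo.IsNondegenerateOn (QuadraticMap.polar ⇑Q) P := by
      have htop : W ⊔ P = ⊤ := Submodule.eq_top_of_finrank_eq (by
        have h1 := Submodule.finrank_sup_add_finrank_inf_eq W P
        rw [h, finrank_bot, add_zero, hsum] at h1
        rw [h1]; simp)
      intro y hy hy0
      obtain ⟨x, hx⟩ := S.exists_one hy0
      obtain ⟨a, ha, b, hb, rfl⟩ := Submodule.mem_sup.1 (htop.ge (Submodule.mem_top (x := x)))
      rw [map_add, LinearMap.add_apply, show pB Q a y = 0 from hy a ha, zero_add,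
        QuadraticMap.polarBilin_apply_apply] at hx
      exact ⟨⟨b, hb, by rw [hx]; exact one_ne_zero⟩,
        ⟨b, hb, by rw [QuadraticMap.polar_comm, hx]; exact one_ne_zero⟩⟩
    refine even_case S hH hodd hP0 ?_ hPnd hPinv
    by_contra hc
    obtain ⟨a, ha⟩ := hod
    obtain ⟨b, hb⟩ := Nat.not_even_iff_odd.1 hc
    obtain ⟨m, hm⟩ := hodd
    omega
  · refine Or.inl ⟨W, hW0, fun w hw => ?_,
      eq_inf_of_le_omega hH (stab_of_invariant_omega hinv) (omega_not_le_subspace S hW0 hW1)⟩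
    have h1 : pB Q w w = 0 := (h.ge hw).2 w hw
    rw [pB_self] at h1
    exact (mul_eq_zero.1 h1).resolve_left S.two_ne

theorem exists_rational_scalar (S : QS Q) (hodd : Odd r) (F₁ : Subfield F) (P : GL (Fin r) F) {d : F}
    (hd : d ≠ 0) {J1 : Mat} (hJ1 : ∀ i j, J1 i j ∈ F₁)
    (hg : ∀ i j, QuadraticMap.polar (⇑Q) ((P : Mat) *ᵥ Pi.single i 1) ((P : Mat) *ᵥ Pi.single j 1) = d * J1 i j) :
    ∃ s ∈ Cfsg.Geo.scalars (Fin r) F, Cfsg.Geo.IsQuadFormRationalStructure (⇑Q) F₁ (P * s) := by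
  classical
  have hb := IsSesq.of_bilinear S.bilinear
  set J0 : Mat := gram (QuadraticMap.polar ⇑Q) with hJ0
  have hJ0F : ∀ i j, J0 i j ∈ F₁ := fun i j => S.rat F₁ i j
  have hdet : ∀ M : Mat, (∀ i j, M i j ∈ F₁) → M.det ∈ F₁ := fun M hM => by
    rw [Matrix.det_apply]
    refine sum_mem fun σ _ => ?_
    rcases Int.units_eq_one_or (Equiv.Perm.sign σ) with h | h <;> rw [h]
    · rw [one_smul]; exact prod_mem fun i _ => hM _ _
    · rw [Units.neg_smul, one_smul]; exact neg_mem (prod_mem fun i _ => hM _ _)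
  have heq : (P : Mat)ᵀ * J0 * (P : Mat) = d • J1 := by
    have h1 := hb.gram_comp (P : Mat)
    rw [show (P : Mat).map (RingEquiv.refl F) = (P : Mat) from Matrix.ext fun i j => rfl, ← hJ0] at h1
    rw [← h1]
    exact Matrix.ext fun i j => hg i j
  have hJ0d : J0.det ≠ 0 := det_gram_ne_zero hb S.nondeg_form
  have hPd : (P : Mat).det ≠ 0 := ((Matrix.isUnit_iff_isUnit_det _).1 ⟨P, rfl⟩).ne_zero
  have h2 := congrArg Matrix.det heq
  rw [Matrix.det_mul, Matrix.det_mul, Matrix.det_transpose, Matrix.det_smul, Fintype.card_fin] at h2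
  have hJ1d : J1.det ≠ 0 := fun e => by
    rw [e, mul_zero] at h2
    exact mul_ne_zero (mul_ne_zero hPd hJ0d) hPd h2
  obtain ⟨m, hm⟩ := hodd
  set t := d ^ m / (P : Mat).det with ht
  have ht0 : t ≠ 0 := div_ne_zero (pow_ne_zero _ hd) hPd
  have htd : t * t * d ∈ F₁ := by
    rw [show t * t * d = J0.det / J1.det by
      rw [ht, div_mul_div_comm, div_mul_eq_mul_div, div_eq_div_iff (mul_ne_zero hPd hPd) hJ1d]
      rw [show d ^ r = d ^ m * d ^ m * d by rw [hm, pow_succ, two_mul, pow_add]] at h2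
      linear_combination (-1 : F) * h2]
    exact F₁.div_mem (hdet _ hJ0F) (hdet _ hJ1)
  refine ⟨Units.map (Matrix.scalar (Fin r) : F →+* Mat).toMonoidHom (Units.mk0 t ht0), ⟨_, rfl⟩, fun u hu => ?_⟩
  have hv : ((P * Units.map (Matrix.scalar (Fin r) : F →+* Mat).toMonoidHom (Units.mk0 t ht0) : GL (Fin r) F) : Mat) *ᵥ u =
      t • ((P : Mat) *ᵥ u) := by
    rw [Units.val_mul, show ((Units.map (Matrix.scalar (Fin r) : F →+* Mat).toMonoidHom (Units.mk0 t ht0) :
      GL (Fin r) F) : Mat) = t • (1 : Mat) by simp [Matrix.smul_one_eq_diagonal]]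
    rw [Matrix.mul_smul, mul_one, Matrix.smul_mulVec]
  rw [hv]
  have h5 : QuadraticMap.polar (⇑Q) (t • ((P : Mat) *ᵥ u)) (t • ((P : Mat) *ᵥ u)) ∈ F₁ := by
    rw [QuadraticMap.polar_smul_left, QuadraticMap.polar_smul_right, (hb.comp (P : Mat)).eq_gram, hb.gram_comp,
      show (P : Mat).map (RingEquiv.refl F) = (P : Mat) from Matrix.ext fun i j => rfl, ← hJ0, heq,
      Matrix.smul_mulVec, dotProduct_smul, smul_eq_mul, smul_eq_mul, smul_eq_mul, ← mul_assoc t t, ← mul_assoc]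
    refine F₁.mul_mem htd (sum_mem fun i _ => F₁.mul_mem (hu i) ?_)
    show ∑ j, J1 i j * u j ∈ F₁
    exact sum_mem fun j _ => F₁.mul_mem (hJ1 i j) (hu j)
  rw [FormsLib.polar_self'] at h5
  have h6 := F₁.div_mem h5 (natCast_mem F₁ 2)
  rwa [Nat.cast_ofNat, mul_div_cancel_left₀ _ S.two_ne] at h6

theorem rational_omega (S : QS Q) (hodd : Odd r) (hH : Cfsg.Geo.IsMaximalIn (Cfsg.Geo.omegaGL ⇑Q) H)
    {N : Subgroup (GL (Fin r) F)} (hNH : N ≤ H) (hN : ScalarCommutant N)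
    (hnorm : ∀ h ∈ H, ∀ x ∈ N, h * x * h⁻¹ ∈ N) {F₀ : Subfield F} (hF₀ : F₀ ≠ ⊤)
    (hreal : Cfsg.Geo.RealisableOver F₀ (Cfsg.Geo.matrixSet N)) : OPrimeCases H Q := by
  classical
  have hdim := S.dim
  haveI : NeZero r := ⟨by omega⟩
  obtain ⟨B, hB₀⟩ := hreal
  obtain ⟨F₁, l, h01, hl, hcard, hne⟩ := exists_prime_index F₀ hF₀
  have hB : ∀ s ∈ Cfsg.Geo.matrixSet N, ∀ i j, ((B : Mat) * s * ((B⁻¹ : GL (Fin r) F) : Mat)) i j ∈ F₁ :=
    fun s hs i j => h01 (hB₀ s hs i j)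
  have hle : H ≤ Cfsg.Geo.subfieldSubgroup F₁ B⁻¹ :=
    fun h hh => mem_subfieldSubgroup_of_normalises hN F₁ hB (hnorm h hh)
  have hb := IsSesq.of_bilinear S.bilinear
  set g := fun u v => QuadraticMap.polar (⇑Q) (((B⁻¹ : GL (Fin r) F) : Mat) *ᵥ u) (((B⁻¹ : GL (Fin r) F) : Mat) *ᵥ v)
  have hgs : IsSesq (RingEquiv.refl F) g := hb.comp _
  set J := gram g with hJ
  set N' : Set Mat := (fun x : Mat => (B : Mat) * x * ((B⁻¹ : GL (Fin r) F) : Mat)) '' Cfsg.Geo.matrixSet N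
  have hfix : Cfsg.Geo.FixesForm (Cfsg.Geo.matrixSet N) (QuadraticMap.polar ⇑Q) := by
    rintro _ ⟨x, hx, rfl⟩ u v
    exact polar_of_mem_H hH (hNH hx) u v
  have hJinv : ∀ s ∈ N', sᵀ * J * s = J := by
    rintro _ ⟨x, hx, rfl⟩
    show ((B : Mat) * x * ((B⁻¹ : GL (Fin r) F) : Mat))ᵀ * J * ((B : Mat) * x * ((B⁻¹ : GL (Fin r) F) : Mat)) = J
    have h1 := hgs.gram_comp ((B : Mat) * x * ((B⁻¹ : GL (Fin r) F) : Mat))
    rw [← hJ, show Matrix.map ((B : Mat) * x * ((B⁻¹ : GL (Fin r) F) : Mat)) (RingEquiv.refl F) =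
      (B : Mat) * x * ((B⁻¹ : GL (Fin r) F) : Mat) from Matrix.ext fun i j => rfl] at h1
    rw [← h1]
    congr 1
    funext u v
    show QuadraticMap.polar (⇑Q) _ _ = QuadraticMap.polar (⇑Q) _ _
    simp only [← Matrix.mulVec_mulVec, TransvMax.inv_mulVec_mulVec]
    exact hfix x hx _ _
  have hJd : J.det ≠ 0 := by
    have h1 := hb.gram_comp ((B⁻¹ : GL (Fin r) F) : Mat)
    rw [hJ, show gram g = _ from h1, Matrix.det_mul, Matrix.det_mul, Matrix.det_transpose,
      show ((B⁻¹ : GL (Fin r) F) : Mat).map (RingEquiv.refl F) = ((B⁻¹ : GL (Fin r) F) : Mat) from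
      Matrix.ext fun i j => rfl]
    have h2 : (((B⁻¹ : GL (Fin r) F) : Mat)).det ≠ 0 := ((Matrix.isUnit_iff_isUnit_det _).1 ⟨B⁻¹, rfl⟩).ne_zero
    exact mul_ne_zero (mul_ne_zero h2 (det_gram_ne_zero hb S.nondeg_form)) h2
  obtain ⟨i0, j0, hij⟩ : ∃ i j, J i j ≠ 0 := by
    by_contra hc
    push Not at hc
    exact hJd (by rw [show J = 0 from Matrix.ext hc, Matrix.det_zero])
  obtain ⟨L, hL⟩ : ∃ L : F →ₗ[F₁] F₁, L (J i0 j0) ≠ 0 := by
    by_contra hc
    push Not at hc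
    exact hij ((Module.forall_dual_apply_eq_zero_iff F₁ _).1 hc)
  set J1 : Mat := fun i j => (L (J i j) : F) with hJ1
  have hJ1inv : ∀ s ∈ N', sᵀ * J1 * s.map (RingEquiv.refl F) = J1 := by
    intro s hs
    rw [show s.map (RingEquiv.refl F) = s from Matrix.ext fun i j => rfl]
    have hsF : ∀ i j, s i j ∈ F₁ := by
      obtain ⟨x, hx, rfl⟩ := hs
      exact hB x hx
    ext i j
    have h1 := congrArg (fun M : Mat => (L (M i j) : F)) (hJinv s hs)
    refine Eq.trans ?_ h1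
    simp only [Matrix.mul_apply, Finset.sum_mul, map_sum, AddSubmonoidClass.coe_finsetSum]
    refine Finset.sum_congr rfl fun k _ => Finset.sum_congr rfl fun m _ => ?_
    have hm : sᵀ i m * s k j ∈ F₁ := F₁.mul_mem (hsF m i) (hsF k j)
    rw [show sᵀ i m * J m k * s k j = (⟨_, hm⟩ : F₁) • J m k by
      show _ = (sᵀ i m * s k j) * J m k
      ring, map_smul]
    show sᵀ i m * J1 m k * _ = (sᵀ i m * s k j) * (L (J m k) : F)
    rw [hJ1]
    ring
  have hf1 : IsSesq (RingEquiv.refl F) fun u v => matForm (RingEquiv.refl F) J1 ((B : Mat) *ᵥ u) ((B : Mat) *ᵥ v) :=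
    (matForm_sesq _ J1).comp _
  obtain ⟨c, hc⟩ := form_unique hN hb S.nondeg_form hf1 hfix (by
    rintro x hx u v
    have h1 := fixes_matForm (S := N') hJ1inv _ ⟨x, hx, rfl⟩ ((B : Mat) *ᵥ u) ((B : Mat) *ᵥ v)
    simpa only [← Matrix.mulVec_mulVec, TransvMax.inv_mulVec_mulVec] using h1)
  have hJ1c : ∀ i j, J1 i j = c * J i j := by
    intro i j
    have h1 := hc (((B⁻¹ : GL (Fin r) F) : Mat) *ᵥ Pi.single i 1) (((B⁻¹ : GL (Fin r) F) : Mat) *ᵥ Pi.single j 1)
    simp only [TransvMax.mulVec_inv_mulVec] at h1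
    rw [← show matForm (RingEquiv.refl F) J1 (Pi.single i 1) (Pi.single j 1) = J1 i j from
      congrFun (congrFun (gram_matForm _ J1) i) j]
    exact h1
  have hc0 : c ≠ 0 := fun e => hL (Subtype.ext (by
    have := hJ1c i0 j0
    rw [e, zero_mul] at this
    exact this))
  obtain ⟨s, hs, hstr⟩ := exists_rational_scalar S hodd F₁ B⁻¹ (inv_ne_zero hc0) (J1 := J1) (fun i j => (L (J i j)).2)
    (fun i j => by rw [hJ1c, inv_mul_cancel_left₀ hc0]; rfl)
  exact Or.inr (Or.inr (Or.inr (Or.inl ⟨F₁, l, B⁻¹ * s, hl, hcard, hstr,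
    eq_inf_of_le_omega hH (hle.trans (subfieldSubgroup_scalar _ _ hs).ge) (omega_not_le_subfield S hne _)⟩)))

theorem lines_omega (S : QS Q) (hr : r.Prime) (hH : Cfsg.Geo.IsMaximalIn (Cfsg.Geo.omegaGL ⇑Q) H) (hirr : Irr H)
    {A : Subgroup (GL (Fin r) F)} (hAH : A ≤ H) {b : Basis (Fin r) F V}
    (hdiag : ∀ x ∈ A, ∀ i, ∃ c : F, (x : Mat) *ᵥ b i = c • b i)
    (hinj : ∀ i j, (∀ x ∈ A, ∀ c : F, (x : Mat) *ᵥ b i = c • b i → (x : Mat) *ᵥ b j = c • b j) → i = j)
    (hperm : ∀ g ∈ H, ∃ (π : Equiv.Perm (Fin r)) (c : Fin r → F), ∀ i, (g : Mat) *ᵥ b i = c i • b (π i)) :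
    OPrimeCases H Q := by
  classical
  have hdim := S.dim
  haveI : NeZero r := ⟨by omega⟩
  have hsm : ∀ (a c : F) (u v : V), QuadraticMap.polar (⇑Q) (a • u) (c • v) = a * c * QuadraticMap.polar (⇑Q) u v :=
    fun a c u v => by rw [QuadraticMap.polar_smul_left, QuadraticMap.polar_smul_right, smul_eq_mul, smul_eq_mul, mul_assoc]
  have hb := IsSesq.of_bilinear S.bilinear
  have huniq : ∀ i j k, QuadraticMap.polar (⇑Q) (b i) (b j) ≠ 0 → QuadraticMap.polar (⇑Q) (b i) (b k) ≠ 0 → j = k := by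
    intro i j k hij hik
    refine hinj j k fun x hx c hc => ?_
    obtain ⟨ci, hi⟩ := hdiag x hx i
    obtain ⟨ck, hk⟩ := hdiag x hx k
    have h1 := polar_of_mem_H hH (hAH hx) (b i) (b j)
    have h2 := polar_of_mem_H hH (hAH hx) (b i) (b k)
    rw [hi, hc, hsm] at h1
    rw [hi, hk, hsm] at h2
    have e1 := (mul_eq_right₀ hij).1 h1
    have e2 := (mul_eq_right₀ hik).1 h2
    have hci : ci ≠ 0 := fun e => by rw [e, zero_mul] at e1; exact zero_ne_one e1
    rw [hk, show ck = c from mul_left_cancel₀ hci (e2.trans e1.symm)]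
  have hex : ∀ i, ∃ j, QuadraticMap.polar (⇑Q) (b i) (b j) ≠ 0 := by
    intro i
    by_contra hc
    push Not at hc
    obtain ⟨-, x, hx⟩ := S.nondeg_form (b i) (b.ne_zero i)
    refine hx ?_
    rw [← b.sum_repr x, hb.sum_right]
    exact Finset.sum_eq_zero fun j _ => by rw [hb.smul_right, hc j, mul_zero]
  choose τ hτ using hex
  have hττ : ∀ i, τ (τ i) = i := fun i =>
    huniq (τ i) _ _ (hτ (τ i)) (by rw [QuadraticMap.polar_comm]; exact hτ i)
  haveI : Fact (Nat.Prime 2) := ⟨Nat.prime_two⟩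
  let τe : Equiv.Perm (Fin r) := ⟨τ, τ, hττ, hττ⟩
  obtain ⟨i0, hi0⟩ := Equiv.Perm.exists_fixed_point_of_prime (p := 2) (n := 1) (σ := τe)
    (by rw [Fintype.card_fin]; intro h; rcases (Nat.dvd_prime hr).1 h with h | h <;> omega)
    (Equiv.ext fun i => by
      rw [pow_one, pow_two]
      exact hττ i)
  have hQ0 : Q (b i0) ≠ 0 := by
    have h1 := hτ i0
    rw [show τ i0 = i0 from hi0, FormsLib.polar_self'] at h1
    exact fun e => h1 (by rw [e, mul_zero])
  let T : Submodule F V := Submodule.span F (b '' {i | ∃ t : F, t ≠ 0 ∧ Q (b i) = t * t * Q (b i0)})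
  have hT : T = ⊤ := by
    refine (hirr T fun g hg w hw => ?_).resolve_left fun e => b.ne_zero i0 ?_
    · have h1 := Submodule.mem_map_of_mem (f := Matrix.toLin' (g : Mat)) hw
      rw [Submodule.map_span, Matrix.toLin'_apply] at h1
      refine (Submodule.span_le.2 ?_) h1
      rintro _ ⟨_, ⟨i, ⟨t, ht, hti⟩, rfl⟩, rfl⟩
      obtain ⟨π, c, hc⟩ := hperm g hg
      rw [Matrix.toLin'_apply, hc]
      have hci := monomial_coeff_ne_zero hc i
      refine Submodule.smul_mem _ _ (Submodule.subset_span ⟨π i, ⟨t / c i, div_ne_zero ht hci, ?_⟩, rfl⟩)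
      have h2 := quad_of_mem hH hg (b i)
      rw [hc, quad_smul', hti] at h2
      field_simp
      linear_combination h2
    · have : b i0 ∈ T := Submodule.subset_span ⟨i0, ⟨1, one_ne_zero, by ring⟩, rfl⟩
      rwa [e, Submodule.mem_bot] at this
  have hnorms : ∀ i, ∃ t : F, t ≠ 0 ∧ Q (b i) = t * t * Q (b i0) := by
    intro i
    have h1 : b i ∈ T := by rw [hT]; trivial
    exact (b.mem_span_image.1 h1) (show i ∈ ((b.repr (b i)).support : Set (Fin r)) by simp)
  choose t ht0 ht using hnorms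
  have hself : ∀ i, QuadraticMap.polar (⇑Q) (b i) (b i) ≠ 0 := fun i => by
    rw [FormsLib.polar_self', ht]
    exact mul_ne_zero S.two_ne (mul_ne_zero (mul_ne_zero (ht0 i) (ht0 i)) hQ0)
  have horth : ∀ i j, i ≠ j → QuadraticMap.polar (⇑Q) (b i) (b j) = 0 := fun i j hij => by
    by_contra h
    exact hij (huniq i i j (hself i) h)
  by_cases hp : (Fintype.card F).Prime
  · refine Or.inr (Or.inr (Or.inl ⟨hp, fun i => Submodule.span F {b i}, ⟨⟨⟨hr.two_le, one_pos,
      fun i => finrank_span_singleton (b.ne_zero i), b.linearIndependent.iSupIndep_span_singleton, ?_⟩,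
      fun i w hw hw0 => ?_, fun i j hij u hu v hv => ?_⟩, fun i j => ?_⟩,
      eq_inf_of_le_omega hH (fun g hg => ?_) (omega_not_le_lines S b)⟩))
    · rw [← Submodule.span_range_eq_iSup, b.span_eq]
    · obtain ⟨a, rfl⟩ := Submodule.mem_span_singleton.1 hw
      have ha : a ≠ 0 := fun e => hw0 (by rw [e, zero_smul])
      refine ⟨⟨b i, Submodule.mem_span_singleton_self _, ?_⟩, ⟨b i, Submodule.mem_span_singleton_self _, ?_⟩⟩
      · rw [QuadraticMap.polar_smul_right, smul_eq_mul]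
        exact mul_ne_zero ha (hself i)
      · rw [QuadraticMap.polar_smul_left, smul_eq_mul]
        exact mul_ne_zero ha (hself i)
    · obtain ⟨a, rfl⟩ := Submodule.mem_span_singleton.1 hu
      obtain ⟨c, rfl⟩ := Submodule.mem_span_singleton.1 hv
      rw [hsm, horth i j hij, mul_zero]
    · let ei := LinearEquiv.toSpanNonzeroSingleton F V (b i) (b.ne_zero i)
      let ej := LinearEquiv.toSpanNonzeroSingleton F V (b j) (b.ne_zero j)
      refine ⟨ei.symm.trans ((LinearEquiv.smulOfNeZero F F (t i / t j) (div_ne_zero (ht0 i) (ht0 j))).trans ej),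
        fun w => ?_⟩
      obtain ⟨a, rfl⟩ := ei.surjective w
      rw [LinearEquiv.trans_apply, LinearEquiv.trans_apply, LinearEquiv.symm_apply_apply]
      show Q (((t i / t j) • a) • b j) = Q (a • b i)
      rw [quad_smul', quad_smul', ht i, ht j, smul_eq_mul]
      have := ht0 j
      field_simp
    · obtain ⟨π, c, hc⟩ := hperm g hg
      refine ⟨π, fun i => ?_⟩
      rw [Submodule.map_span, Set.image_singleton, Matrix.toLin'_apply, hc,
        Submodule.span_singleton_smul_eq (isUnit_iff_ne_zero.2 (monomial_coeff_ne_zero hc i))]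
  have hbot : (⊥ : Subfield F) ≠ ⊤ := by
    intro e
    obtain ⟨p, hp'⟩ := CharP.exists F
    haveI := hp'
    haveI : Fact p.Prime := ⟨CharP.char_is_prime F p⟩
    refine hp ?_
    have h1 : Nat.card (⊥ : Subfield F) = p := Subfield.card_bot F p
    rw [e] at h1
    rw [← Nat.card_eq_fintype_card, show Nat.card F = Nat.card (⊤ : Subfield F) from
      (Nat.card_congr (Equiv.Set.univ F)).symm, h1]
    exact Fact.out
  obtain ⟨F₁, l, -, hl, hcard, hne⟩ := exists_prime_index ⊥ hbot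
  let b' : Basis (Fin r) F V := b.unitsSMul fun i => (Units.mk0 (t i) (ht0 i))⁻¹
  have hb' : ∀ i, b' i = (t i)⁻¹ • b i := fun i => by
    rw [Basis.unitsSMul_apply, Units.smul_def, Units.val_inv_eq_inv_val, Units.val_mk0]
  let P : GL (Fin r) F := TransvMax.glOf b'.equivFun.symm
  have hP : ∀ i, (P : Mat) *ᵥ (Pi.single i 1 : V) = b' i := fun i => by
    show _ = b' i
    rw [TransvMax.glOf_mulVec, Basis.equivFun_symm_apply]
    simp [Pi.single_apply]
  have hQb' : ∀ i, Q (b' i) = Q (b i0) := fun i => by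
    rw [hb', quad_smul', ht]
    have := ht0 i
    field_simp
  have hgram : ∀ i j, QuadraticMap.polar (⇑Q) ((P : Mat) *ᵥ Pi.single i 1) ((P : Mat) *ᵥ Pi.single j 1) =
      Q (b i0) * ((2 : F) • (1 : Mat)) i j := by
    intro i j
    rw [hP, hP]
    by_cases hij : i = j
    · subst hij
      rw [FormsLib.polar_self', hQb', Matrix.smul_apply, Matrix.one_apply_eq, smul_eq_mul, mul_one, mul_comm]
    · rw [hb', hb', hsm, horth i j hij, Matrix.smul_apply, Matrix.one_apply_ne hij, smul_zero, mul_zero, mul_zero]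
  obtain ⟨s, hs, hstr⟩ := exists_rational_scalar S (hr.odd_of_ne_two (by omega)) F₁ P hQ0
    (J1 := (2 : F) • (1 : Mat)) (fun i j => by
      rw [Matrix.smul_apply, Matrix.one_apply]
      split_ifs
      · rw [smul_eq_mul, mul_one]; exact natCast_mem F₁ 2
      · rw [smul_zero]; exact F₁.zero_mem) hgram
  refine Or.inr (Or.inr (Or.inr (Or.inl ⟨F₁, l, P * s, hl, hcard, hstr,
    eq_inf_of_le_omega hH (fun g hg => ?_) (omega_not_le_subfield S hne _)⟩)))
  rw [subfieldSubgroup_scalar _ _ hs]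
  refine mem_subfieldSubgroup_of_entries fun i j => ?_
  obtain ⟨π, c, hc⟩ := hperm g hg
  set d := (t j)⁻¹ * c j * t (π j)
  have hg' : (g : Mat) *ᵥ b' j = d • b' (π j) := by
    rw [hb', hb', Matrix.mulVec_smul, hc, smul_smul, smul_smul]
    have := ht0 (π j)
    congr 1
    simp only [d]
    field_simp
  have h1 : (((P⁻¹ : GL (Fin r) F) : Mat) * (g : Mat) * (P : Mat)) *ᵥ (Pi.single j 1 : V) =
      d • (Pi.single (π j) 1 : V) := by
    rw [← Matrix.mulVec_mulVec, ← Matrix.mulVec_mulVec, hP, hg', Matrix.mulVec_smul, ← hP (π j),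
      TransvMax.inv_mulVec_mulVec]
  have hd2 : d * d = 1 := by
    have h2 := quad_of_mem hH hg (b' j)
    rw [hg', quad_smul', hQb', hQb'] at h2
    exact (mul_eq_right₀ hQ0).1 h2
  have hdF : d ∈ F₁ := by
    rcases mul_self_eq_one_iff.1 hd2 with h | h <;> rw [h]
    · exact F₁.one_mem
    · exact F₁.neg_mem F₁.one_mem
  have h2 := congrFun h1 i
  rw [Matrix.mulVec_single_one, Matrix.col_apply] at h2
  rw [h2, Pi.smul_apply, smul_eq_mul]
  refine F₁.mul_mem hdF ?_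
  by_cases h : i = π j
  · subst h; rw [Pi.single_eq_same]; exact F₁.one_mem
  · rw [Pi.single_eq_of_ne h]; exact F₁.zero_mem

theorem field_omega_false (S : QS Q) (hodd : Odd r) (hH : Cfsg.Geo.IsMaximalIn (Cfsg.Geo.omegaGL ⇑Q) H)
    {A : Subgroup (GL (Fin r) F)} (hAH : A ≤ H)
    (hK : Cfsg.Geo.IsFieldSubalgebra r (Algebra.adjoin F (Cfsg.Geo.matrixSet A)))
    (hns : ¬ A ≤ Cfsg.Geo.scalars (Fin r) F) : False := by
  classical
  have hdim := S.dim
  set K := Algebra.adjoin F (Cfsg.Geo.matrixSet A) with hKdef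
  refine hns fun x hx => ?_
  have hxK : (x : Mat) ∈ K := Algebra.subset_adjoin ⟨x, hx, rfl⟩
  have hxK' : ((x⁻¹ : GL (Fin r) F) : Mat) ∈ K := Algebra.subset_adjoin ⟨_, A.inv_mem hx, rfl⟩
  have hadj : ∀ (y : GL (Fin r) F), y ∈ A → ∀ u v, QuadraticMap.polar (⇑Q) ((y : Mat) *ᵥ u) v =
      QuadraticMap.polar (⇑Q) u (((y⁻¹ : GL (Fin r) F) : Mat) *ᵥ v) := by
    intro y hy u v
    conv_lhs => rw [← TransvMax.mulVec_inv_mulVec y v]
    exact polar_of_mem_H hH (hAH hy) _ _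
  set k : Mat := (x : Mat) - ((x⁻¹ : GL (Fin r) F) : Mat) with hk
  have hk0 : k = 0 := by
    by_contra hk0
    obtain ⟨y, -, hy'⟩ := hK.inv k (sub_mem hxK hxK') hk0
    have hskew : ∀ u v, QuadraticMap.polar (⇑Q) (k *ᵥ u) v = - QuadraticMap.polar (⇑Q) u (k *ᵥ v) := by
      intro u v
      rw [hk, Matrix.sub_mulVec, Matrix.sub_mulVec, QuadraticMap.polar_sub_left, QuadraticMap.polar_sub_right,
        hadj x hx, hadj x⁻¹ (A.inv_mem hx), inv_inv, neg_sub]
    have hb := S.bilinear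
    refine no_alternating hodd (g := fun u v => QuadraticMap.polar (⇑Q) (k *ᵥ u) v)
      ⟨fun a b c => by simp only [Matrix.mulVec_add, hb.add_left],
        fun a b c => by simp only [Matrix.mulVec_smul, hb.smul_left],
        fun a b c => hb.add_right _ _ _, fun a b c => hb.smul_right _ _ _⟩
      (fun v => ?_) (fun v hv => ?_)
    · have h1 := hskew v v
      rw [QuadraticMap.polar_comm (⇑Q) v] at h1
      exact (mul_eq_zero.1 (show (2 : F) * QuadraticMap.polar (⇑Q) (k *ᵥ v) v = 0 by linear_combination h1)).resolve_left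
        S.two_ne
    · obtain ⟨⟨a, ha⟩, -⟩ := S.nondeg_form v hv
      have hrep : (k *ᵥ (y *ᵥ a)) = a := by rw [Matrix.mulVec_mulVec, hy', Matrix.one_mulVec]
      have h0 : QuadraticMap.polar (⇑Q) (k *ᵥ (y *ᵥ a)) v ≠ 0 := by rw [hrep]; exact ha
      refine ⟨⟨y *ᵥ a, h0⟩, ⟨y *ᵥ a, ?_⟩⟩
      show QuadraticMap.polar (⇑Q) (k *ᵥ v) (y *ᵥ a) ≠ 0
      rw [hskew, QuadraticMap.polar_comm, neg_ne_zero]
      exact h0
  have hxx : (x : Mat) * (x : Mat) = 1 := by
    have h1 : (x : Mat) = ((x⁻¹ : GL (Fin r) F) : Mat) := sub_eq_zero.1 hk0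
    nth_rewrite 2 [h1]
    exact Units.mul_inv x
  by_cases h1 : (x : Mat) - 1 = 0
  · exact mem_scalars_of_val (by omega) (c := 1) (by rw [sub_eq_zero.1 h1, one_smul])
  obtain ⟨y, -, hy⟩ := hK.inv _ (sub_mem hxK K.one_mem) h1
  refine mem_scalars_of_val (by omega) (c := -1) ?_
  have h2 : ((x : Mat) - 1) * ((x : Mat) + 1) = 0 := by rw [sub_mul, mul_add, mul_add, hxx, mul_one, one_mul, mul_one]; abel
  have h3 : (x : Mat) + 1 = 0 := by
    have hy' : y * ((x : Mat) - 1) = 1 := mul_eq_one_comm.1 hy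
    have := congrArg (y * ·) h2
    simpa [← mul_assoc, hy'] using this
  rw [eq_neg_of_add_eq_zero_left h3, neg_smul, one_smul]

/-- Every maximal subgroup is geometric or residual. -/
theorem orth_prime_dim_cases (S : QS Q) (hr : r.Prime)
    (hH : Cfsg.Geo.IsMaximalIn (Cfsg.Geo.omegaGL ⇑Q) H) : OPrimeCases H Q := by
  classical
  have hdim := S.dim
  have hodd : Odd r := hr.odd_of_ne_two (by omega)
  haveI : NeZero r := ⟨hr.ne_zero⟩
  by_cases hirr : Irr H
  swap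
  · exact reducible_omega S hH hodd hirr
  have hHs : ¬ H ≤ Cfsg.Geo.scalars (Fin r) F := by
    intro hle
    set u : V := Pi.single 0 1
    have hu : u ≠ 0 := fun e => by simpa [u] using congrFun e 0
    rcases hirr (Submodule.span F {u}) (fun g hg w hw => by
      obtain ⟨c, hc⟩ := (Cfsg.Geo.mem_scalars_iff g).1 (hle hg)
      rw [hc, Matrix.smul_mulVec, Matrix.one_mulVec]
      exact Submodule.smul_mem _ _ hw) with h | h
    · exact hu (by simpa using h)
    · have h1 := finrank_span_singleton (K := F) hu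
      rw [h, finrank_top, finrank_fintype_fun_eq_card, Fintype.card_fin] at h1
      omega
  by_cases hAb : ∀ A : Subgroup (GL (Fin r) F), A ≤ H → (∀ g ∈ H, ∀ x ∈ A, g * x * g⁻¹ ∈ A) →
      (∀ x ∈ A, ∀ y ∈ A, x * y = y * x) → A ≤ Cfsg.Geo.scalars (Fin r) F
  swap
  · push Not at hAb
    obtain ⟨A, hAH, hAn, hAc, hAs⟩ := hAb
    rcases abelian_normal hr hirr hAn hAc hAs with ⟨b, hdiag, hinj, hperm⟩ | ⟨K, hK, rfl, -⟩
    · exact lines_omega S hr hH hirr hAH hdiag hinj hperm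
    · exact (field_omega_false S hodd hH hAH hK hAs).elim
  let Good : ℕ → Prop := fun n => ∃ N : Subgroup (GL (Fin r) F), Nat.card N = n ∧ N ≤ H ∧
    (∀ g ∈ H, ∀ x ∈ N, g * x * g⁻¹ ∈ N) ∧ ¬ N ≤ Cfsg.Geo.scalars (Fin r) F
  have hex : ∃ n, Good n :=
    ⟨_, H, rfl, le_rfl, fun g hg x hx => H.mul_mem (H.mul_mem hg hx) (H.inv_mem hg), hHs⟩
  obtain ⟨N, hNcard, hNH, hNn, hNs⟩ := Nat.find_spec hex
  have hmin : ∀ R : Subgroup (GL (Fin r) F), R ≤ N → (∀ g ∈ H, ∀ x ∈ R, g * x * g⁻¹ ∈ R) →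
      ¬ R ≤ Cfsg.Geo.scalars (Fin r) F → R = N := fun R hR hRn hRs =>
    Subgroup.eq_of_le_of_card_ge hR (by rw [hNcard]; exact Nat.find_min' hex ⟨R, rfl, hR.trans hNH, hRn, hRs⟩)
  by_cases hD : ⁅N, N⁆ ≤ Cfsg.Geo.scalars (Fin r) F
  · exfalso
    refine hNs (hAb N hNH hNn fun x hx y hy => ?_)
    have hz : x * y * x⁻¹ * y⁻¹ ∈ Cfsg.Geo.scalars (Fin r) F := by
      have := hD (Subgroup.commutator_mem_commutator hx hy)
      rwa [commutatorElement_def] at this
    set z := x * y * x⁻¹ * y⁻¹ with hzdef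
    have hzr : z ^ r = 1 := scalar_pow_eq_one (x := x) (y := y) hz (by rw [hzdef]; group)
    obtain ⟨c, hc⟩ := (Cfsg.Geo.mem_scalars_iff z).1 hz
    obtain ⟨v, hv⟩ : ∃ v, Q v ≠ 0 := by
      obtain ⟨p, -, hp⟩ := S.exists_aniso_perp (k := 0) ![] (by norm_num)
      exact ⟨p, hp⟩
    have hc2 : (c : F) * c = 1 := by
      have hzN : z ∈ H := hNH (N.mul_mem (N.mul_mem (N.mul_mem hx hy) (N.inv_mem hx)) (N.inv_mem hy))
      have h1 := quad_of_mem hH hzN v
      rw [hc, Matrix.smul_mulVec, Matrix.one_mulVec, quad_smul'] at h1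
      exact (mul_eq_right₀ hv).1 h1
    have hcr : (c : F) ^ r = 1 := by
      have h1 := congrArg (fun g : GL (Fin r) F => (g : Mat) 0 0) hzr
      simpa [Units.val_pow_eq_pow_val, hc, smul_pow] using h1
    have hc1 : (c : F) = 1 := by
      obtain ⟨m, hm⟩ := hodd
      rw [hm, pow_succ, pow_mul, pow_two, hc2, one_pow, one_mul] at hcr
      exact hcr
    have hz1 : z = 1 := Units.ext (by rw [hc, hc1, one_smul, Units.val_one])
    calc x * y = z * y * x := by rw [hzdef]; group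
      _ = y * x := by rw [hz1, one_mul]
  have hperf : ⁅N, N⁆ = N := by
    refine hmin _ (Subgroup.commutator_le.2 fun a ha c hc => ?_) (fun g hg x hx => ?_) hD
    · exact N.mul_mem (N.mul_mem (N.mul_mem ha hc) (N.inv_mem ha)) (N.inv_mem hc)
    · have h1 : g * x * g⁻¹ ∈ ⁅N, N⁆.map (MulAut.conj g).toMonoidHom := ⟨x, hx, rfl⟩
      rw [Subgroup.map_commutator] at h1
      have hle : N.map (MulAut.conj g).toMonoidHom ≤ N := by
        rintro _ ⟨t, ht, rfl⟩
        exact hNn g hg t ht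
      exact Subgroup.commutator_mono hle hle h1
  obtain ⟨hNirr, hNsc, hsimp, hnab, hcen⟩ := residual_core hr hirr hNH hperf hNn hNs hmin
  by_cases hreal : ∃ F₀ : Subfield F, F₀ ≠ ⊤ ∧ Cfsg.Geo.RealisableOver F₀ (Cfsg.Geo.matrixSet N)
  · obtain ⟨F₀, hF₀, h⟩ := hreal
    exact rational_omega S hodd hH hNH hNsc hNn hF₀ h
  refine Or.inr (Or.inr (Or.inr (Or.inr ⟨N,
    ⟨hNH, hNn, hperf, hsimp, hnab, hcen, absIrred_matrixSet hNirr hNsc,
      fun F₀ hF₀ h => hreal ⟨F₀, hF₀, h⟩⟩, ?_⟩)))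
  rintro ⟨σ, f, hf, hfix⟩
  exact hreal (realisable_of_two_forms hf S.bilinear S.nondeg_form hNsc hfix
    (by rintro _ ⟨x, hx, rfl⟩ u v; exact polar_of_mem_H hH (hNH hx) u v))

end Cfsg.Agent.PrimeDim
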