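import Cfsg.Agent.Lib.PrimeDim.OrthMain
import Cfsg.Agent.Lib.Forms.OddInvol

/-!
The standard odd orthogonal space, carried to coordinates indexed by `Fin r`.
-/

set_option autoImplicit false

namespace Cfsg.Agent.PrimeDim

open scoped Matrix MatrixGroups
open Module
open Cfsg.Agent

variable {ι : Type} [Fintype ι] [DecidableEq ι] {r : ℕ} {F : Type*} [Field F] (e : ι ≃ Fin r)

/-- Renaming the coordinates of matrices. -/
def gEquiv : GL ι F ≃* GL (Fin r) F := Units.mapEquiv (Matrix.reindexAlgEquiv F F e).toMulEquiv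

/-- Renaming the coordinates of vectors. -/
def vEquiv : (Fin r → F) ≃ₗ[F] (ι → F) := LinearEquiv.funCongrLeft F F e

theorem vEquiv_apply (w : Fin r → F) (i : ι) : vEquiv e w i = w (e i) := rfl

theorem gEquiv_val (g : GL ι F) :
    ((gEquiv e g : GL (Fin r) F) : Matrix (Fin r) (Fin r) F) = (g : Matrix ι ι F).submatrix e.symm e.symm := rfl

theorem vEquiv_mulVec (g : GL ι F) (w : Fin r → F) :
    vEquiv e ((gEquiv e g : Matrix (Fin r) (Fin r) F) *ᵥ w) = (g : Matrix ι ι F) *ᵥ vEquiv e w := by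
  funext i
  rw [vEquiv_apply, gEquiv_val, Matrix.submatrix_mulVec_equiv]
  simp only [Function.comp_apply, Equiv.symm_apply_apply, Equiv.symm_symm]
  rfl

theorem stab_iff (W : Submodule F (Fin r → F)) (g : GL ι F) :
    gEquiv e g ∈ Cfsg.Geo.subspaceStabilizer W ↔
      g ∈ Cfsg.Geo.subspaceStabilizer (W.map (vEquiv e).toLinearMap) := by
  have h : ∀ w, vEquiv e w ∈ W.map (vEquiv e).toLinearMap ↔ w ∈ W := fun w => by
    constructor
    · rintro ⟨v, hv, hvw⟩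
      exact (vEquiv e).injective hvw ▸ hv
    · exact fun hw => ⟨w, hw, rfl⟩
  constructor
  · intro hg v
    obtain ⟨w, rfl⟩ := (vEquiv e).surjective v
    show vEquiv e w ∈ W.map (vEquiv e).toLinearMap ↔ (g : Matrix ι ι F) *ᵥ vEquiv e w ∈ W.map (vEquiv e).toLinearMap
    rw [← vEquiv_mulVec, h, h]
    exact hg w
  · intro hg w
    show w ∈ W ↔ (gEquiv e g : Matrix (Fin r) (Fin r) F) *ᵥ w ∈ W
    rw [← h w, ← h ((gEquiv e g : Matrix (Fin r) (Fin r) F) *ᵥ w), vEquiv_mulVec]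
    exact hg (vEquiv e w)

theorem map_gEquiv_lines (g : GL ι F) (W W' : Submodule F (Fin r → F)) :
    W.map (Matrix.toLin' (gEquiv e g : Matrix (Fin r) (Fin r) F)) = W' ↔
      (W.map (vEquiv e).toLinearMap).map (Matrix.toLin' (g : Matrix ι ι F)) = W'.map (vEquiv e).toLinearMap := by
  have hc : (Matrix.toLin' (g : Matrix ι ι F)).comp (vEquiv e).toLinearMap =
      (vEquiv e).toLinearMap.comp (Matrix.toLin' (gEquiv e g : Matrix (Fin r) (Fin r) F)) :=
    LinearMap.ext fun w => by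
      simp only [LinearMap.comp_apply, Matrix.toLin'_apply, LinearEquiv.coe_coe, vEquiv_mulVec]
  rw [← Submodule.map_comp, hc, Submodule.map_comp]
  exact ⟨fun h => by rw [h], fun h => Submodule.map_injective_of_injective (vEquiv e).injective h⟩

theorem decomp_iff {t : ℕ} (D : Fin t → Submodule F (Fin r → F)) (g : GL ι F) :
    gEquiv e g ∈ Cfsg.Geo.decompositionStabilizer D ↔
      g ∈ Cfsg.Geo.decompositionStabilizer fun i => (D i).map (vEquiv e).toLinearMap :=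
  ⟨fun ⟨π, h⟩ => ⟨π, fun i => (map_gEquiv_lines e g _ _).1 (h i)⟩,
    fun ⟨π, h⟩ => ⟨π, fun i => (map_gEquiv_lines e g _ _).2 (h i)⟩⟩

theorem subfield_iff (F₀ : Subfield F) (P : GL (Fin r) F) (g : GL ι F) :
    gEquiv e g ∈ Cfsg.Geo.subfieldSubgroup F₀ P ↔
      g ∈ Cfsg.Geo.subfieldSubgroup F₀ ((gEquiv e).symm P) := by
  rw [TransvMax.mem_subfieldSubgroup_iff, TransvMax.mem_subfieldSubgroup_iff]
  have hemb : ∀ y : Fin r → F₀, TransvMax.ratEmb F₀ ((gEquiv e).symm P) (fun i => y (e i)) =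
      vEquiv e (TransvMax.ratEmb F₀ P y) := by
    intro y
    show _ = vEquiv e ((P : Matrix (Fin r) (Fin r) F) *ᵥ fun i => (y i : F))
    conv_rhs => rw [← (gEquiv e).apply_symm_apply P, vEquiv_mulVec]
    rfl
  constructor
  · rintro ⟨c, hc, h⟩
    refine ⟨c, hc, fun y => ?_⟩
    obtain ⟨y', hy'⟩ := h fun j => y (e.symm j)
    refine ⟨fun i => y' (e i), ?_⟩
    rw [hemb, ← hy', map_smul, vEquiv_mulVec, ← hemb]
    simp
  · rintro ⟨c, hc, h⟩
    refine ⟨c, hc, fun y => ?_⟩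
    obtain ⟨y', hy'⟩ := h fun i => y (e i)
    refine ⟨fun j => y' (e.symm j), (vEquiv e).injective ?_⟩
    rw [map_smul, vEquiv_mulVec, ← hemb, hy', ← hemb]
    simp

theorem scalars_iff (g : GL ι F) : gEquiv e g ∈ Cfsg.Geo.scalars (Fin r) F ↔ g ∈ Cfsg.Geo.scalars ι F := by
  rw [Cfsg.Geo.mem_scalars_iff, Cfsg.Geo.mem_scalars_iff]
  refine exists_congr fun c => ?_
  have h1 : Matrix.reindexAlgEquiv F F e ((c : F) • (1 : Matrix ι ι F)) = (c : F) • 1 := by rw [map_smul, map_one]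
  constructor
  · intro h
    exact (Matrix.reindexAlgEquiv F F e).injective (h.trans h1.symm)
  · intro h
    rw [show ((gEquiv e g : GL (Fin r) F) : Matrix (Fin r) (Fin r) F) = Matrix.reindexAlgEquiv F F e g from rfl, h, h1]

theorem isometry_iff (Q : QuadraticForm F (ι → F)) (g : GL ι F) :
    gEquiv e g ∈ Cfsg.isometryGroup F ⇑(Q.comp (vEquiv e).toLinearMap) ↔ g ∈ Cfsg.isometryGroup F ⇑Q := by
  constructor
  · intro h u v
    obtain ⟨w, rfl⟩ := (vEquiv e).surjective u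
    have h1 : Q (vEquiv e ((gEquiv e g : Matrix (Fin r) (Fin r) F) *ᵥ w)) = Q (vEquiv e w) := h w w
    rw [vEquiv_mulVec] at h1
    exact h1
  · intro h w v
    show Q (vEquiv e ((gEquiv e g : Matrix (Fin r) (Fin r) F) *ᵥ w)) = Q (vEquiv e w)
    rw [vEquiv_mulVec]
    exact h (vEquiv e w) (vEquiv e w)

theorem map_omega_gEquiv (Q : QuadraticForm F (ι → F)) :
    (Cfsg.Geo.omegaGL ⇑Q).map (gEquiv e).toMonoidHom = Cfsg.Geo.omegaGL ⇑(Q.comp (vEquiv e).toLinearMap) := by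
  have h : ∀ {κ : Type} [Fintype κ] [DecidableEq κ] (q : (κ → F) → F),
      Cfsg.Geo.omegaGL q = ⁅Cfsg.isometryGroup F q, Cfsg.isometryGroup F q⁆ := by
    intro κ _ _ q
    rw [Cfsg.Geo.omegaGL, Cfsg.Omega, map_commutator_eq]
    simp
  rw [h, h, Subgroup.map_commutator]
  congr 1 <;>
  · ext g
    obtain ⟨g₀, rfl⟩ := (gEquiv e).surjective g
    rw [isometry_iff]
    exact ⟨fun ⟨x, hx, hxe⟩ => (gEquiv e).injective hxe ▸ hx, fun hx => ⟨g₀, hx, rfl⟩⟩

theorem mem_omega_iff (Q : QuadraticForm F (ι → F)) (g : GL ι F) :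
    gEquiv e g ∈ Cfsg.Geo.omegaGL ⇑(Q.comp (vEquiv e).toLinearMap) ↔ g ∈ Cfsg.Geo.omegaGL ⇑Q := by
  rw [← map_omega_gEquiv]
  exact ⟨fun ⟨x, hx, hxe⟩ => (gEquiv e).injective hxe ▸ hx, fun hx => ⟨g, hx, rfl⟩⟩

theorem residual_transport [Fintype F] {H : Subgroup (GL ι F)}
    (h : Cfsg.Geo.InOrthogonalResidualClass (H.map (gEquiv e).toMonoidHom)) :
    Cfsg.Geo.InOrthogonalResidualClass H := by
  classical
  obtain ⟨P', hP, hU⟩ := h
  set P := P'.comap (gEquiv e).toMonoidHom with hPdef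
  have hmem : ∀ g, g ∈ P ↔ gEquiv e g ∈ P' := fun g => Iff.rfl
  have hPm : P.map (gEquiv e).toMonoidHom = P' := Subgroup.map_comap_eq_self_of_surjective (gEquiv e).surjective P'
  have hH : ∀ g, gEquiv e g ∈ H.map (gEquiv e).toMonoidHom ↔ g ∈ H :=
    fun g => ⟨fun ⟨x, hx, hxe⟩ => (gEquiv e).injective hxe ▸ hx, fun hx => ⟨g, hx, rfl⟩⟩
  let φ : P ≃* P' :=
    { toFun := fun x => ⟨gEquiv e x.1, x.2⟩
      invFun := fun y => ⟨(gEquiv e).symm y.1, by rw [hmem, MulEquiv.apply_symm_apply]; exact y.2⟩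
      left_inv := fun x => Subtype.ext ((gEquiv e).symm_apply_apply _)
      right_inv := fun y => Subtype.ext ((gEquiv e).apply_symm_apply _)
      map_mul' := fun x y => Subtype.ext (map_mul (gEquiv e) _ _) }
  have hZ : ((Cfsg.Geo.scalars ι F).subgroupOf P).map φ.toMonoidHom = (Cfsg.Geo.scalars (Fin r) F).subgroupOf P' := by
    ext y
    obtain ⟨x, rfl⟩ := φ.surjective y
    rw [Subgroup.mem_subgroupOf]
    show φ x ∈ _ ↔ gEquiv e x.1 ∈ _
    rw [scalars_iff]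
    exact ⟨fun ⟨z, hz, hze⟩ => φ.injective hze ▸ Subgroup.mem_subgroupOf.1 hz,
      fun hx => ⟨x, Subgroup.mem_subgroupOf.2 hx, rfl⟩⟩
  let ψ := QuotientGroup.congr ((Cfsg.Geo.scalars ι F).subgroupOf P) ((Cfsg.Geo.scalars (Fin r) F).subgroupOf P') φ hZ
  refine ⟨P, ⟨fun g hg => (hH g).1 (hP.le ((hmem g).1 hg)), fun h hh x hx => ?_, ?_, ?_, ?_, fun h hh hx => ?_, ?_,
    fun F₀ hF₀ hr => ?_⟩, ?_⟩
  · rw [hmem, map_mul, map_mul, map_inv]
    exact hP.normal _ ((hH h).2 hh) _ hx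
  · refine Subgroup.map_injective (gEquiv e).injective (f := (gEquiv e).toMonoidHom) ?_
    rw [Subgroup.map_commutator, hPm, hP.perfect]
  · haveI := hP.simple
    exact ψ.isSimpleGroup
  · intro hc
    refine hP.nonabelian ⟨⟨fun a b => ?_⟩⟩
    obtain ⟨a, rfl⟩ := ψ.surjective a
    obtain ⟨b, rfl⟩ := ψ.surjective b
    rw [← map_mul, ← map_mul, hc.is_comm.comm]
  · rw [← scalars_iff e]
    refine hP.centralizer_scalar _ ((hH h).2 hh) fun y hy => ?_
    obtain ⟨x, rfl⟩ := (gEquiv e).surjective y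
    rw [← map_inv, ← map_inv, ← map_mul, ← map_mul, ← map_mul, scalars_iff]
    exact hx x hy
  · refine ⟨fun W hW => ?_, fun M hM => ?_⟩
    · set W' := W.map (vEquiv e).symm.toLinearMap with hW'
      have hWm : ∀ w, w ∈ W' ↔ vEquiv e w ∈ W := fun w => by
        constructor
        · rintro ⟨v, hv, rfl⟩
          simpa using hv
        · exact fun hw => ⟨_, hw, (vEquiv e).symm_apply_apply w⟩
      have h1 := hP.absIrred.1 W' (by
        rintro _ ⟨g, hg, rfl⟩ _ ⟨w, hw, rfl⟩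
        obtain ⟨x, rfl⟩ := (gEquiv e).surjective g
        rw [Matrix.toLin'_apply, hWm, vEquiv_mulVec]
        have h2 := hW _ ⟨x, hg, rfl⟩ (Submodule.mem_map_of_mem ((hWm w).1 hw))
        rwa [Matrix.toLin'_apply] at h2)
      rcases h1 with h1 | h1
      · left
        refine eq_bot_iff.2 fun v hv => ?_
        have h2 : (vEquiv e).symm v ∈ W' := ⟨v, hv, rfl⟩
        rw [h1, Submodule.mem_bot] at h2
        simpa using h2
      · right
        refine eq_top_iff.2 fun v _ => ?_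
        have h2 : (vEquiv e).symm v ∈ W' := by rw [h1]; trivial
        rw [hWm, LinearEquiv.apply_symm_apply] at h2
        exact h2
    · obtain ⟨c, hc⟩ := hP.absIrred.2 (Matrix.reindexAlgEquiv F F e M) (by
        rintro _ ⟨g, hg, rfl⟩
        obtain ⟨x, rfl⟩ := (gEquiv e).surjective g
        show _ * Matrix.reindexAlgEquiv F F e x = Matrix.reindexAlgEquiv F F e x * _
        rw [← map_mul, ← map_mul, hM _ ⟨x, hg, rfl⟩])
      exact ⟨c, (Matrix.reindexAlgEquiv F F e).injective (by rw [hc, map_smul, map_one])⟩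
  · obtain ⟨B, hB⟩ := hr
    refine hP.no_subfield F₀ hF₀ ⟨gEquiv e B, ?_⟩
    rintro _ ⟨g, hg, rfl⟩ i j
    obtain ⟨x, rfl⟩ := (gEquiv e).surjective g
    rw [← map_inv, ← Units.val_mul, ← map_mul, ← Units.val_mul, ← map_mul, gEquiv_val, Matrix.submatrix_apply]
    have := hB _ ⟨x, hg, rfl⟩ (e.symm i) (e.symm j)
    simpa [Units.val_mul] using this
  · rintro ⟨σ, f, hf, hfix⟩
    refine hU ⟨σ, fun u v => f (vEquiv e u) (vEquiv e v), ⟨hf.ne_refl, hf.involutive,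
      fun x y v => by rw [map_add, hf.add_left], fun c x v => by rw [map_smul, hf.smul_left], fun v w => hf.herm _ _,
      fun v hv => ?_⟩, ?_⟩
    · obtain ⟨⟨x, hx⟩, ⟨y, hy⟩⟩ := hf.nondegenerate (vEquiv e v) fun h => hv ((vEquiv e).map_eq_zero_iff.1 h)
      exact ⟨⟨(vEquiv e).symm x, by simpa using hx⟩, ⟨(vEquiv e).symm y, by simpa using hy⟩⟩
    · rintro _ ⟨g, hg, rfl⟩ u v
      obtain ⟨x, rfl⟩ := (gEquiv e).surjective g
      show f (vEquiv e _) (vEquiv e _) = _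
      rw [vEquiv_mulVec, vEquiv_mulVec]
      exact hfix _ ⟨x, hg, rfl⟩ _ _

theorem polar_comp (Q : QuadraticForm F (ι → F)) (u v : Fin r → F) :
    QuadraticMap.polar ⇑(Q.comp (vEquiv e).toLinearMap) u v = QuadraticMap.polar ⇑Q (vEquiv e u) (vEquiv e v) := by
  simp [QuadraticMap.polar]

/-- The classification for the standard odd form. -/
theorem omega_odd_cases [Fintype F] {m n : ℕ} (hm : 3 ≤ m) (hn : n = 2 * m + 1) (hp : n.Prime)
    (hodd : Odd (Fintype.card F)) (H : Subgroup (GL (Unit ⊕ (Fin m ⊕ Fin m)) F))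
    (hH : Cfsg.Geo.IsMaximalIn (Cfsg.Geo.omegaGL (Cfsg.quadFormOdd m F)) H) :
    (∃ W : Submodule F (Unit ⊕ (Fin m ⊕ Fin m) → F), W ≠ ⊥ ∧
      Cfsg.Geo.IsTotallySingularQuad (Cfsg.quadFormOdd m F) W ∧
      H = Cfsg.Geo.subspaceStabilizer W ⊓ Cfsg.Geo.omegaGL (Cfsg.quadFormOdd m F)) ∨
    (∃ W : Submodule F (Unit ⊕ (Fin m ⊕ Fin m) → F), W ≠ ⊥ ∧ Even (finrank F W) ∧
      Cfsg.Geo.IsNondegenerateOn (QuadraticMap.polar (Cfsg.quadFormOdd m F)) W ∧
      ¬ (Fintype.card F = 3 ∧ finrank F W = 2 ∧ Cfsg.Geo.IsPlusTypeOn (Cfsg.quadFormOdd m F) W) ∧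
      H = Cfsg.Geo.subspaceStabilizer W ⊓ Cfsg.Geo.omegaGL (Cfsg.quadFormOdd m F)) ∨
    ((Fintype.card F).Prime ∧ ∃ D : Fin n → Submodule F (Unit ⊕ (Fin m ⊕ Fin m) → F),
      Cfsg.Geo.IsOrthogonalMDecomposition (Cfsg.quadFormOdd m F) 1 D ∧
      H = Cfsg.Geo.decompositionStabilizer D ⊓ Cfsg.Geo.omegaGL (Cfsg.quadFormOdd m F)) ∨
    (∃ (F₀ : Subfield F) (l : ℕ) (P : GL (Unit ⊕ (Fin m ⊕ Fin m)) F), l.Prime ∧
      Fintype.card F = Nat.card F₀ ^ l ∧ Cfsg.Geo.IsQuadFormRationalStructure (Cfsg.quadFormOdd m F) F₀ P ∧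
      H = Cfsg.Geo.subfieldSubgroup F₀ P ⊓ Cfsg.Geo.omegaGL (Cfsg.quadFormOdd m F)) ∨
    Cfsg.Geo.InOrthogonalResidualClass H := by
  classical
  have h2 : ringChar F ≠ 2 := fun h => by
    have := FiniteField.even_card_of_char_two h
    exact Nat.not_even_iff_odd.2 hodd (Nat.even_iff.2 this)
  rw [← FormsLib.coe_qOdd] at hH ⊢
  set Q := FormsLib.qOdd m F with hQ
  let e : Unit ⊕ (Fin m ⊕ Fin m) ≃ Fin n := Fintype.equivFinOfCardEq (by simp; omega)
  set Q' := Q.comp (vEquiv e).toLinearMap with hQ'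
  set L := (vEquiv (F := F) e) with hL
  have hLs : ∀ i, L (Pi.single i 1) = Pi.single (e.symm i) 1 := fun i => by
    funext j
    show (Pi.single i 1 : Fin n → F) (e j) = _
    by_cases h : j = e.symm i
    · subst h; simp
    · rw [Pi.single_eq_of_ne h, Pi.single_eq_of_ne fun h' => h (by rw [← h', Equiv.symm_apply_apply])]
  have S : QS Q' := ⟨h2, by
    refine ⟨fun x hx => L.map_eq_zero_iff.1 ((FormsLib.qOdd_nondeg (Ring.two_ne_zero h2)).1 _ fun w => ?_),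
      fun y hy => L.map_eq_zero_iff.1 ((FormsLib.qOdd_nondeg (Ring.two_ne_zero h2)).2 _ fun w => ?_)⟩
    · have h1 := hx (L.symm w)
      rw [QuadraticMap.polarBilin_apply_apply, polar_comp, LinearEquiv.apply_symm_apply] at h1
      exact h1
    · have h1 := hy (L.symm w)
      rw [QuadraticMap.polarBilin_apply_apply, polar_comp, LinearEquiv.apply_symm_apply] at h1
      exact h1, by omega, fun F₁ i j => by
    rw [polar_comp, hLs, hLs, FormsLib.qOdd_polar]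
    refine F₁.add_mem (F₁.mul_mem (natCast_mem F₁ 2) (F₁.mul_mem ?_ ?_))
      (sum_mem fun k _ => F₁.add_mem (F₁.mul_mem ?_ ?_) (F₁.mul_mem ?_ ?_))
    all_goals
      rw [Pi.single_apply]
      split_ifs
      · exact F₁.one_mem
      · exact F₁.zero_mem⟩
  set H' := H.map (gEquiv e).toMonoidHom with hH'
  have hmap : (Cfsg.Geo.omegaGL ⇑Q).map (gEquiv e).toMonoidHom = Cfsg.Geo.omegaGL ⇑Q' := map_omega_gEquiv e Q
  have hmax : Cfsg.Geo.IsMaximalIn (Cfsg.Geo.omegaGL ⇑Q') H' := by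
    rw [← hmap]
    refine ⟨(Subgroup.map_lt_map_iff_of_injective (gEquiv e).injective).2 hH.1, fun K hK hK' => ?_⟩
    have hKm := Subgroup.map_comap_eq_self_of_surjective (f := (gEquiv e).toMonoidHom) (gEquiv e).surjective K
    have h1 : H ≤ K.comap (gEquiv e).toMonoidHom := fun g hg => hK ⟨g, hg, rfl⟩
    have h3 : K.comap (gEquiv e).toMonoidHom ≤ Cfsg.Geo.omegaGL ⇑Q := fun g hg => by
      obtain ⟨x, hx, hxe⟩ := hK' hg
      exact (gEquiv e).injective hxe ▸ hx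
    rcases hH.2 _ h1 h3 with h | h
    · left; rw [hH', ← h, hKm]
    · right; rw [← h, hKm]
  have hpull : ∀ {M' : Subgroup (GL (Fin n) F)} {M : Subgroup (GL (Unit ⊕ (Fin m ⊕ Fin m)) F)},
      (∀ g, gEquiv e g ∈ M' ↔ g ∈ M) → H' = M' ⊓ Cfsg.Geo.omegaGL ⇑Q' → H = M ⊓ Cfsg.Geo.omegaGL ⇑Q := by
    intro M' M hM h
    ext g
    rw [Subgroup.mem_inf, ← hM, ← mem_omega_iff e Q, ← Subgroup.mem_inf, ← h]
    exact ⟨fun hg => ⟨g, hg, rfl⟩, fun ⟨x, hx, hxe⟩ => (gEquiv e).injective hxe ▸ hx⟩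
  have hfin : ∀ W : Submodule F (Fin n → F), finrank F ↥(W.map L.toLinearMap) = finrank F W :=
    fun W => (L.submoduleMap W).finrank_eq.symm
  have hne : ∀ W : Submodule F (Fin n → F), W ≠ ⊥ → W.map L.toLinearMap ≠ ⊥ := fun W hW h =>
    hW (Submodule.map_injective_of_injective L.injective (h.trans (Submodule.map_bot _).symm))
  have hnd : ∀ W : Submodule F (Fin n → F), Cfsg.Geo.IsNondegenerateOn (QuadraticMap.polar ⇑Q') W →
      Cfsg.Geo.IsNondegenerateOn (QuadraticMap.polar ⇑Q) (W.map L.toLinearMap) := by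
    rintro W hW _ ⟨w, hw, rfl⟩ hw0
    obtain ⟨⟨x, hx, hx'⟩, ⟨y, hy, hy'⟩⟩ := hW w hw fun h => hw0 (by rw [h, map_zero])
    rw [polar_comp] at hx' hy'
    exact ⟨⟨_, ⟨x, hx, rfl⟩, hx'⟩, ⟨_, ⟨y, hy, rfl⟩, hy'⟩⟩
  rcases orth_prime_dim_cases S hp hmax with ⟨W, hW, hWs, h⟩ | ⟨W, hW, hev, hWn, hexc, h⟩ | ⟨hq, D, hD, h⟩ |
      ⟨F₀, l, P, hl, hcard, hstr, h⟩ | h
  · refine Or.inl ⟨W.map L.toLinearMap, hne W hW, ?_, hpull (stab_iff e W) h⟩
    rintro _ ⟨w, hw, rfl⟩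
    exact hWs w hw
  · refine Or.inr (Or.inl ⟨W.map L.toLinearMap, hne W hW, by rwa [hfin], hnd W hWn, ?_, hpull (stab_iff e W) h⟩)
    rintro ⟨h3, hd, U, hU, hUs, hUd⟩
    refine hexc ⟨h3, by rwa [hfin] at hd, U.map L.symm.toLinearMap, ?_, ?_, ?_⟩
    · rintro _ ⟨u, hu, rfl⟩
      obtain ⟨w, hw, hwu⟩ := hU hu
      rw [← hwu]
      simpa using hw
    · rintro _ ⟨u, hu, rfl⟩
      show Q (L (L.symm u)) = 0
      rw [LinearEquiv.apply_symm_apply]
      exact hUs u hu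
    · rw [(L.symm.submoduleMap U).finrank_eq.symm]
      rwa [hfin] at hUd
  · refine Or.inr (Or.inr (Or.inl ⟨hq, fun i => (D i).map L.toLinearMap, ⟨⟨⟨hD.decomp.decomp.two_le,
      hD.decomp.decomp.pos, fun i => (hfin _).trans (hD.decomp.decomp.finrank_eq i), ?_, ?_⟩,
      fun i => hnd _ (hD.decomp.nondegenerate i), ?_⟩, fun i j => ?_⟩, hpull (decomp_iff e D) h⟩))
    · exact hD.decomp.decomp.indep.map_orderIso (Submodule.orderIsoMapComap L)
    · rw [← Submodule.map_iSup, hD.decomp.decomp.iSup_eq_top, Submodule.map_top, LinearEquiv.range]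
    · rintro i j hij _ ⟨u, hu, rfl⟩ _ ⟨v, hv, rfl⟩
      have h1 := hD.decomp.orthogonal i j hij u hu v hv
      rw [polar_comp] at h1
      exact h1
    · obtain ⟨ε, hε⟩ := hD.isometric i j
      refine ⟨(L.submoduleMap (D i)).symm.trans (ε.trans (L.submoduleMap (D j))), fun w => ?_⟩
      obtain ⟨w, rfl⟩ := (L.submoduleMap (D i)).surjective w
      simp only [LinearEquiv.trans_apply, LinearEquiv.symm_apply_apply]
      exact hε w
  · refine Or.inr (Or.inr (Or.inr (Or.inl ⟨F₀, l, (gEquiv e).symm P, hl, hcard, fun u hu => ?_,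
      hpull (subfield_iff e F₀ P) h⟩)))
    have h1 := hstr (fun j => u (e.symm j)) fun j => hu _
    show Q _ ∈ F₀
    have h3 := vEquiv_mulVec e ((gEquiv e).symm P) (fun j => u (e.symm j))
    rw [MulEquiv.apply_symm_apply] at h3
    have h4 : vEquiv e (fun j => u (e.symm j)) = u := funext fun i => by simp [vEquiv_apply]
    rw [h4] at h3
    rw [← h3]
    exact h1
  · exact Or.inr (Or.inr (Or.inr (Or.inr (residual_transport e h))))

end Cfsg.Agent.PrimeDim
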