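import Cfsg.Agent.Lib.PrimeDim.Main

/-!
The possible residues of the characteristic in the symplectic-type case.
-/

set_option autoImplicit false

namespace Cfsg.Agent.PrimeDim

open scoped Matrix MatrixGroups

variable {r : ℕ} {F : Type*} [Field F] [Fintype F] {H : Subgroup (GL (Fin r) F)} {p e : ℕ}

theorem SympOption.residue (hr : r.Prime) (h : SympOption H p e) :
    p % r ≠ 0 ∧ e < r ∧ (p % r) ^ e % r = 1 ∧ ∀ d : ℕ, 0 < d → d < e → (p % r) ^ d % r ≠ 1 := by
  haveI : Fact r.Prime := ⟨hr⟩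
  have hmod : ∀ d : ℕ, r ∣ p ^ d - 1 ↔ (p % r) ^ d % r = 1 := fun d => by
    rw [← Nat.pow_mod, ← Nat.modEq_iff_dvd' (Nat.one_le_pow _ _ h.prime.pos)]
    unfold Nat.ModEq
    rw [Nat.one_mod_eq_one.2 hr.ne_one, eq_comm]
  have hp0 : p % r ≠ 0 := fun e0 => by
    have h1 := (hmod e).1 h.dvd
    rw [e0, zero_pow h.pos.ne', Nat.zero_mod] at h1
    exact zero_ne_one h1
  refine ⟨hp0, ?_, (hmod e).1 h.dvd, fun d hd hde e1 => h.minimal d hd hde ((hmod d).2 e1)⟩
  by_contra hle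
  push Not at hle
  refine h.minimal (r - 1) (by have := hr.two_le; omega) (by have := hr.two_le; omega) ((hmod _).2 ?_)
  have hz : ((p % r : ℕ) : ZMod r) ≠ 0 := fun e0 => hp0 (by
    have := (ZMod.natCast_eq_zero_iff (p % r) r).1 e0
    rwa [Nat.dvd_iff_mod_eq_zero, Nat.mod_mod] at this)
  have h2 := congrArg ZMod.val (ZMod.pow_card_sub_one_eq_one hz)
  rw [← Nat.cast_pow, ZMod.val_natCast, ZMod.val_one] at h2
  exact h2

end Cfsg.Agent.PrimeDim
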