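import Cfsg.Agent.Lib.PrimeDim.NotLe
import Cfsg.Agent.Lib.TransvMax.SubfieldRat

/-!
Over the field with four elements the normaliser of a cubic field of matrices with determinant one is contained
in a subfield group.
-/

set_option autoImplicit false

namespace Cfsg.Agent.PrimeDim

open scoped Matrix MatrixGroups
open Module

variable {F : Type*} [Field F] [Fintype F]

local notation "V3" => Fin 3 → F

local notation "Mat3" => Matrix (Fin 3) (Fin 3) F

theorem cubic_independent {K : Subalgebra F Mat3} (hK : Cfsg.Geo.IsFieldSubalgebra 3 K) {k : Mat3} (hk : k ∈ K)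
    (hks : ∀ c : F, k ≠ c • (1 : Mat3)) :
    LinearIndependent F fun i : Fin 3 => k ^ (i : ℕ) := by
  classical
  letI : CommRing K := { (inferInstance : Ring K) with mul_comm := fun a b => Subtype.ext (hK.comm _ a.2 _ b.2) }
  haveI : Nontrivial K := ⟨⟨0, 1, fun h => by
    have := congrArg (fun x : K => (x : Mat3)) h
    simp at this⟩⟩
  haveI : NoZeroDivisors K := ⟨fun {a b} hab => by
    by_cases ha : a = 0
    · exact Or.inl ha
    · obtain ⟨y, hy, hay⟩ := hK.inv _ a.2 (fun h => ha (Subtype.ext h))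
      right
      have : (⟨y, hy⟩ : K) * a = 1 := by rw [mul_comm]; exact Subtype.ext hay
      calc b = (⟨y, hy⟩ : K) * a * b := by rw [this, one_mul]
        _ = 0 := by rw [mul_assoc, hab, mul_zero]⟩
  haveI : IsDomain K := NoZeroDivisors.to_isDomain K
  letI : Fintype K := Fintype.ofFinite K
  letI : Field K := Fintype.fieldOfDomain K
  haveI : FiniteDimensional F K := Module.Finite.of_finite
  set x : K := ⟨k, hk⟩
  have hd : (minpoly F x).natDegree ∣ finrank F K := minpoly.degree_dvd (Algebra.IsIntegral.isIntegral x)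
  rw [hK.finrank_eq] at hd
  rcases (Nat.dvd_prime Nat.prime_three).1 hd with h | h
  · exfalso
    obtain ⟨c, hc⟩ := minpoly.mem_range_of_degree_eq_one F x (by
      rw [Polynomial.degree_eq_natDegree (minpoly.ne_zero (Algebra.IsIntegral.isIntegral x)), h]; rfl)
    refine hks c ?_
    have := congrArg Subtype.val hc
    rw [show ((algebraMap F K c : K) : Mat3) = algebraMap F Mat3 c from rfl, Algebra.algebraMap_eq_smul_one] at this
    exact this.symm
  · have hli := (linearIndependent_pow (K := F) x).comp (finCongr h.symm) (finCongr h.symm).injective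
    have h1 := hli.map' K.val.toLinearMap (LinearMap.ker_eq_bot.2 Subtype.val_injective)
    exact h1

theorem field_eval_injective {K : Subalgebra F Mat3} (hK : Cfsg.Geo.IsFieldSubalgebra 3 K) {v : V3} (hv : v ≠ 0)
    {k : Mat3} (hk : k ∈ K) (h : k *ᵥ v = 0) : k = 0 := by
  by_contra h0
  obtain ⟨y, hy, hky⟩ := hK.inv k hk h0
  refine hv ?_
  rw [← Matrix.one_mulVec v, ← hky, hK.comm k hk y hy, ← Matrix.mulVec_mulVec, h, Matrix.mulVec_zero]

theorem cubic_basis {K : Subalgebra F Mat3} (hK : Cfsg.Geo.IsFieldSubalgebra 3 K) {k : Mat3} (hk : k ∈ K)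
    (hks : ∀ c : F, k ≠ c • (1 : Mat3)) {v : V3} (hv : v ≠ 0) :
    ∃ b : Basis (Fin 3) F V3, ∀ i : Fin 3, b i = (k ^ (i : ℕ)) *ᵥ v := by
  have hli : LinearIndependent F fun i : Fin 3 => (k ^ (i : ℕ)) *ᵥ v := by
    rw [Fintype.linearIndependent_iff]
    intro c hc
    have h1 : (∑ i : Fin 3, c i • k ^ (i : ℕ)) = 0 := by
      refine field_eval_injective hK hv (K.sum_mem fun i _ => K.smul_mem (K.pow_mem hk _) _) ?_
      rw [Matrix.sum_mulVec]
      simpa only [Matrix.smul_mulVec] using hc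
    exact Fintype.linearIndependent_iff.1 (cubic_independent hK hk hks) c h1
  exact ⟨basisOfLinearIndependentOfCardEqFinrank hli (by simp), fun i => by simp⟩

theorem field_pow_units {K : Subalgebra F Mat3} (hK : Cfsg.Geo.IsFieldSubalgebra 3 K) (h4 : Fintype.card F = 4)
    {a : Mat3} (ha : a ∈ K) (ha0 : a ≠ 0) : a ^ 63 = 1 := by
  classical
  letI : CommRing K := { (inferInstance : Ring K) with mul_comm := fun a b => Subtype.ext (hK.comm _ a.2 _ b.2) }
  haveI : Nontrivial K := ⟨⟨0, 1, fun h => by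
    have := congrArg (fun x : K => (x : Mat3)) h
    simp at this⟩⟩
  haveI : NoZeroDivisors K := ⟨fun {a b} hab => by
    by_cases ha : a = 0
    · exact Or.inl ha
    · obtain ⟨y, hy, hay⟩ := hK.inv _ a.2 (fun h => ha (Subtype.ext h))
      right
      have : (⟨y, hy⟩ : K) * a = 1 := by rw [mul_comm]; exact Subtype.ext hay
      calc b = (⟨y, hy⟩ : K) * a * b := by rw [this, one_mul]
        _ = 0 := by rw [mul_assoc, hab, mul_zero]⟩
  haveI : IsDomain K := NoZeroDivisors.to_isDomain K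
  letI : Fintype K := Fintype.ofFinite K
  letI : Field K := Fintype.fieldOfDomain K
  haveI : FiniteDimensional F K := Module.Finite.of_finite
  have hcard : Fintype.card K = 64 := by
    rw [Module.card_eq_pow_finrank (K := F), h4, hK.finrank_eq]; norm_num
  have h1 := FiniteField.pow_card_sub_one_eq_one (⟨a, ha⟩ : K) (fun e => ha0 (congrArg Subtype.val e))
  rw [hcard] at h1
  exact congrArg Subtype.val h1

theorem exists_order_seven {K : Subalgebra F Mat3} (hK : Cfsg.Geo.IsFieldSubalgebra 3 K) (h4 : Fintype.card F = 4) :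
    ∃ x ∈ K, x ^ 7 = 1 ∧ x ≠ 1 := by
  classical
  letI : CommRing K := { (inferInstance : Ring K) with mul_comm := fun a b => Subtype.ext (hK.comm _ a.2 _ b.2) }
  haveI : Nontrivial K := ⟨⟨0, 1, fun h => by
    have := congrArg (fun x : K => (x : Mat3)) h
    simp at this⟩⟩
  haveI : NoZeroDivisors K := ⟨fun {a b} hab => by
    by_cases ha : a = 0
    · exact Or.inl ha
    · obtain ⟨y, hy, hay⟩ := hK.inv _ a.2 (fun h => ha (Subtype.ext h))
      right
      have : (⟨y, hy⟩ : K) * a = 1 := by rw [mul_comm]; exact Subtype.ext hay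
      calc b = (⟨y, hy⟩ : K) * a * b := by rw [this, one_mul]
        _ = 0 := by rw [mul_assoc, hab, mul_zero]⟩
  haveI : IsDomain K := NoZeroDivisors.to_isDomain K
  letI : Fintype K := Fintype.ofFinite K
  letI : Field K := Fintype.fieldOfDomain K
  haveI : FiniteDimensional F K := Module.Finite.of_finite
  have hcard : Fintype.card K = 64 := by
    rw [Module.card_eq_pow_finrank (K := F), h4, hK.finrank_eq]; norm_num
  haveI : Fact (Nat.Prime 7) := ⟨by norm_num⟩
  obtain ⟨u, hu⟩ := exists_prime_orderOf_dvd_card' (G := Kˣ) 7 (by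
    rw [Nat.card_units, Nat.card_eq_fintype_card, hcard]; norm_num)
  refine ⟨((u : K) : Mat3), (u : K).2, ?_, ?_⟩
  · have h1 := pow_orderOf_eq_one u
    rw [hu] at h1
    exact congrArg (fun y : Kˣ => ((y : K) : Mat3)) h1
  · intro e
    have : u = 1 := Units.ext (Subtype.ext e)
    rw [this, orderOf_one] at hu
    norm_num at hu

set_option maxHeartbeats 1000000 in
/-- The cubic normaliser over four elements lies in a subfield group. -/
theorem field_four_le_subfield (h4 : Fintype.card F = 4) {K : Subalgebra F Mat3}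
    (hK : Cfsg.Geo.IsFieldSubalgebra 3 K) :
    ∃ (F₀ : Subfield F) (l : ℕ) (P : GL (Fin 3) F), l.Prime ∧ Fintype.card F = Nat.card F₀ ^ l ∧ F₀ ≠ ⊤ ∧
      Cfsg.Geo.subalgebraNormalizer K ⊓ Cfsg.Geo.specialLinear (Fin 3) F ≤ Cfsg.Geo.subfieldSubgroup F₀ P := by
  classical
  haveI : Fact (Nat.Prime 2) := ⟨Nat.prime_two⟩
  haveI : CharP F 2 := by
    obtain ⟨p, hp⟩ := CharP.exists F
    haveI := hp
    have hc : ((4 : ℕ) : F) = 0 := by rw [← h4]; exact Nat.cast_card_eq_zero F
    have hd : p ∣ 2 ^ 2 := (CharP.cast_eq_zero_iff F p 4).1 hc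
    have hpp : p.Prime := (CharP.char_is_prime_or_zero F p).resolve_right (CharP.char_ne_zero_of_finite F p)
    rwa [← (Nat.prime_dvd_prime_iff_eq hpp Nat.prime_two).1 (hpp.dvd_of_dvd_pow hd)]
  let F₀ : Subfield F := RingHom.eqLocusField (frobenius F 2) (RingHom.id F)
  have hmem : ∀ c : F, c ∈ F₀ ↔ c ^ 2 = c := fun c => Iff.rfl
  have h01 : ∀ c : F, c ∈ F₀ ↔ c = 0 ∨ c = 1 := fun c => by
    rw [hmem]
    constructor
    · intro h
      have : c * (c - 1) = 0 := by rw [mul_sub, mul_one, ← pow_two, h, sub_self]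
      exact (mul_eq_zero.1 this).imp id sub_eq_zero.1
    · rintro (rfl | rfl) <;> simp
  have hcardF₀ : Nat.card F₀ = 2 := by
    show Nat.card ↑(F₀ : Set F) = 2
    rw [show (F₀ : Set F) = ({0, 1} : Set F) from Set.ext fun c => h01 c]
    rw [Nat.card_coe_set_eq, Set.ncard_pair zero_ne_one]
  obtain ⟨x, hx, hx7, hx1⟩ := exists_order_seven hK h4
  have hF4 : ∀ c : F, c ^ 4 = c := fun c => by rw [← h4]; exact FiniteField.pow_card c
  have hxs : ∀ c : F, x ≠ c • (1 : Mat3) := by
    intro c e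
    rw [e, smul_pow, one_pow] at hx7
    have h1 : c ^ 7 = 1 := by simpa using congrFun (congrFun hx7 0) 0
    have hc1 : c = 1 := by
      have h2 : c ^ 7 = c := by
        rw [show (7 : ℕ) = 4 + 3 from rfl, pow_add, hF4, ← pow_succ', hF4]
      rw [← h2, h1]
    exact hx1 (by rw [e, hc1, one_smul])
  set v : V3 := Pi.single 0 1
  have hv : v ≠ 0 := fun e => by simpa [v] using congrFun e 0
  obtain ⟨b, hb⟩ := cubic_basis hK hx hxs hv
  -- rationality of the elements fixed by the eighth power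
  have hrat : ∀ y ∈ K, y ^ 8 = y → ∀ i, b.repr (y *ᵥ v) i ∈ F₀ := by
    intro y hy hy8
    set c : Fin 3 → F := fun i => b.repr (y *ᵥ v) i
    have hy' : y = ∑ i, c i • x ^ (i : ℕ) := by
      refine sub_eq_zero.1 (field_eval_injective hK hv
        (K.sub_mem hy (K.sum_mem fun i _ => K.smul_mem (K.pow_mem hx _) _)) ?_)
      rw [Matrix.sub_mulVec, Matrix.sum_mulVec, sub_eq_zero]
      conv_lhs => rw [← b.sum_repr (y *ᵥ v)]
      refine Finset.sum_congr rfl fun i _ => ?_
      rw [Matrix.smul_mulVec, hb]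
    letI : CommRing K := { (inferInstance : Ring K) with mul_comm := fun a b => Subtype.ext (hK.comm _ a.2 _ b.2) }
    haveI : CharP K 2 := charP_of_injective_algebraMap (R := F) (A := K) (fun p q h => by
      have := congrArg (fun z : K => (z : Mat3) 0 0) h
      simpa [Algebra.algebraMap_eq_smul_one] using this) 2
    have e1 : (⟨y, hy⟩ : K) = ∑ i, c i • (⟨x, hx⟩ : K) ^ (i : ℕ) := Subtype.ext (by simpa using hy')
    have e2 : (⟨y, hy⟩ : K) ^ 2 ^ 3 = ∑ i, (c i) ^ 2 • (⟨x, hx⟩ : K) ^ (i : ℕ) := by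
      rw [e1, sum_pow_char_pow]
      refine Finset.sum_congr rfl fun i _ => ?_
      rw [smul_pow, ← pow_mul, mul_comm, pow_mul]
      congr 1
      · rw [show (2 : ℕ) ^ 3 = 4 * 2 from rfl, pow_mul, hF4]
      · congr 1
        exact Subtype.ext (by
          rw [SubmonoidClass.coe_pow, show (2 : ℕ) ^ 3 = 7 + 1 from rfl, pow_succ, hx7, one_mul])
    rw [show (⟨y, hy⟩ : K) ^ 2 ^ 3 = ⟨y, hy⟩ from Subtype.ext (by simpa using hy8)] at e2
    have e3 : (∑ i, ((c i) ^ 2 - c i) • x ^ (i : ℕ)) = 0 := by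
      have := congrArg Subtype.val (e2.symm.trans e1)
      simp only [AddSubmonoidClass.coe_finsetSum, SetLike.val_smul, SubmonoidClass.coe_pow] at this
      simp only [sub_smul, Finset.sum_sub_distrib, this, sub_self]
    intro i
    rw [hmem]
    exact sub_eq_zero.1 (Fintype.linearIndependent_iff.1 (cubic_independent hK hx hxs) _ e3 i)
  let P : GL (Fin 3) F := TransvMax.glOf b.equivFun.symm
  refine ⟨F₀, 2, P, Nat.prime_two, by rw [hcardF₀, h4]; norm_num, ?_, ?_⟩
  · intro e
    rw [e, Nat.card_congr (show (⊤ : Subfield F) ≃ F from Equiv.Set.univ F), Nat.card_eq_fintype_card, h4] at hcardF₀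
    norm_num at hcardF₀
  rintro g ⟨hgN, hgS⟩
  -- `g` is semilinear over `K`
  set φ : Mat3 → Mat3 := fun k => (g : Mat3) * k * ((g⁻¹ : GL (Fin 3) F) : Mat3)
  have hφ : ∀ k ∈ K, φ k ∈ K := fun k hk => (hgN k).1 hk
  have hφpow : ∀ (k : Mat3) (n : ℕ), φ k ^ n = φ (k ^ n) := fun k n => by
    induction n with
    | zero => simp [φ]
    | succ n ih =>
      rw [pow_succ, pow_succ, ih]
      simp only [φ, mul_assoc, ← Units.val_mul, Units.inv_mul_cancel_left]
  obtain ⟨ev, hev⟩ : ∃ ev : Fin 3 → F, (g : Mat3) *ᵥ v = ∑ i, ev i • b i := ⟨_, (b.sum_repr _).symm⟩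
  set a : Mat3 := ∑ i, ev i • x ^ (i : ℕ)
  have ha : a ∈ K := K.sum_mem fun i _ => K.smul_mem (K.pow_mem hx _) _
  have hgv : (g : Mat3) *ᵥ v = a *ᵥ v := by
    rw [hev, Matrix.sum_mulVec]
    exact Finset.sum_congr rfl fun i _ => by rw [Matrix.smul_mulVec, hb]
  have ha0 : a ≠ 0 := by
    intro e
    rw [e, Matrix.zero_mulVec] at hgv
    have := congrArg (((g⁻¹ : GL (Fin 3) F) : Mat3) *ᵥ ·) hgv
    exact hv (by simpa only [TransvMax.inv_mulVec_mulVec, Matrix.mulVec_zero] using this)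
  set y : Fin 3 → Mat3 := fun i => φ (x ^ (i : ℕ))
  have hy : ∀ i, y i ∈ K := fun i => hφ _ (K.pow_mem hx _)
  have hy8 : ∀ i, y i ^ 8 = y i := fun i => by
    simp only [y, hφpow]
    rw [← pow_mul, mul_comm, pow_mul, show (8 : ℕ) = 7 + 1 from rfl, pow_succ, hx7, one_mul]
  have hgb : ∀ i, (g : Mat3) *ᵥ b i = (a * y i) *ᵥ v := by
    intro i
    rw [hb, hK.comm a ha (y i) (hy i), ← Matrix.mulVec_mulVec, ← hgv]
    simp only [y, φ, Matrix.mulVec_mulVec, mul_assoc, ← Units.val_mul, inv_mul_cancel, Units.val_one, mul_one]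
  -- the determinant of `a`
  have hdet_rat : ∀ z : Fin 3 → Mat3, (∀ i, z i ∈ K ∧ z i ^ 8 = z i) → ∀ f : V3 →ₗ[F] V3,
      (∀ i, f (b i) = z i *ᵥ v) → LinearMap.det f ≠ 0 → LinearMap.det f = 1 := by
    intro z hz f hf h0
    rw [← LinearMap.det_toMatrix b] at h0 ⊢
    have hfix : (LinearMap.toMatrix b b f).map (frobenius F 2) = LinearMap.toMatrix b b f := by
      ext i j
      rw [Matrix.map_apply, LinearMap.toMatrix_apply, hf]
      exact hrat _ (hz j).1 (hz j).2 i
    have h1 : frobenius F 2 (LinearMap.toMatrix b b f).det = (LinearMap.toMatrix b b f).det := by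
      rw [RingHom.map_det, RingHom.mapMatrix_apply, hfix]
    exact ((h01 _).1 h1).resolve_left h0
  have hdeta : a.det = 1 := by
    obtain ⟨ai, hai, haai⟩ := hK.inv a ha ha0
    set M : Mat3 := ai * (g : Mat3) with hM
    have hMb : ∀ i, Matrix.toLin' M (b i) = y i *ᵥ v := by
      intro i
      rw [Matrix.toLin'_apply, hM, ← Matrix.mulVec_mulVec, hgb, Matrix.mulVec_mulVec, ← mul_assoc, hK.comm ai hai a ha,
        haai, one_mul]
    have hg1 : (g : Mat3).det = 1 := by
      have := MonoidHom.mem_ker.1 hgS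
      rw [Units.ext_iff, Matrix.GeneralLinearGroup.val_det_apply] at this
      exact this
    have hMd : M.det ≠ 0 := by
      rw [hM, Matrix.det_mul, hg1, mul_one]
      intro e
      have := congrArg Matrix.det haai
      rw [Matrix.det_mul, e, mul_zero, Matrix.det_one] at this
      exact zero_ne_one this
    have hd1 := hdet_rat y (fun i => ⟨hy i, hy8 i⟩) (Matrix.toLin' M) hMb (by rwa [LinearMap.det_toLin'])
    rw [LinearMap.det_toLin', hM, Matrix.det_mul, hg1, mul_one] at hd1
    have := congrArg Matrix.det haai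
    rwa [Matrix.det_mul, hd1, mul_one, Matrix.det_one] at this
  -- the cube of the nine-part is one
  obtain ⟨β, hβdef⟩ : ∃ β : Mat3, β = a ^ 7 := ⟨_, rfl⟩
  have hβK : β ∈ K := by rw [hβdef]; exact K.pow_mem ha _
  have hβ9 : β ^ 9 = 1 := by
    rw [hβdef, ← pow_mul, show 7 * 9 = 63 from rfl]
    exact field_pow_units hK h4 ha ha0
  have hcube : ∀ z ∈ K, z ^ 3 = 1 → ∃ c : F, c ≠ 0 ∧ z = c • (1 : Mat3) := by
    intro z hz hz3
    by_cases h : ∀ c : F, z ≠ c • (1 : Mat3)
    · exfalso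
      have h1 : ((1 : F) • z ^ (3 : ℕ)) - 1 = 0 := by rw [hz3, one_smul, sub_self]
      have hfac : (z - 1) * (z ^ 2 + z + 1) = 0 := by
        calc (z - 1) * (z ^ 2 + z + 1) = z ^ 3 - 1 := by noncomm_ring
          _ = 0 := by rw [hz3, sub_self]
      have hli := Fintype.linearIndependent_iff.1 (cubic_independent hK hz h) ![1, 1, 1] (by
        have hne : z - 1 ≠ 0 := sub_ne_zero.2 (fun e => h 1 (by rw [e, one_smul]))
        obtain ⟨w, hw, hww⟩ := hK.inv (z - 1) (K.sub_mem hz K.one_mem) hne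
        have hwz : w * (z - 1) = 1 := by rw [hK.comm w hw _ (K.sub_mem hz K.one_mem)]; exact hww
        have h2 : z ^ 2 + z + 1 = 0 := by
          have := congrArg (w * ·) hfac
          simpa only [← mul_assoc, hwz, one_mul, mul_zero] using this
        rw [← h2]
        simp [Fin.sum_univ_three]
        abel) 0
      simp at hli
    · push Not at h
      obtain ⟨c, rfl⟩ := h
      exact ⟨c, fun e => by simp [e] at hz3, rfl⟩
  obtain ⟨c, hc0, hc⟩ : ∃ c : F, c ≠ 0 ∧ β = c • (1 : Mat3) := by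
    by_cases hb3 : β ^ 3 = 1
    · exact hcube β hβK hb3
    exfalso
    obtain ⟨w, -, hw⟩ := hcube (β ^ 3) (K.pow_mem hβK _) (by rw [← pow_mul, show 3 * 3 = 9 from rfl]; exact hβ9)
    have hβs : ∀ d : F, β ≠ d • (1 : Mat3) := by
      intro d e
      have hd0 : d ≠ 0 := fun h0 => by
        rw [e, h0, zero_smul, zero_pow (by norm_num)] at hβ9
        exact zero_ne_one hβ9
      refine hb3 ?_
      rw [e, smul_pow, one_pow, show (3 : ℕ) = Fintype.card F - 1 by rw [h4],
        FiniteField.pow_card_sub_one_eq_one d hd0, one_smul]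
    obtain ⟨b', hb'⟩ := cubic_basis hK hβK hβs hv
    have hmat : LinearMap.toMatrix b' b' (Matrix.toLin' β) = !![0, 0, w; 1, 0, 0; 0, 1, 0] := by
      have e0 : Matrix.toLin' β (b' 0) = b' 1 := by
        rw [Matrix.toLin'_apply, hb', hb', Matrix.mulVec_mulVec, Fin.val_zero, Fin.val_one, pow_zero, mul_one, pow_one]
      have e1 : Matrix.toLin' β (b' 1) = b' 2 := by
        rw [Matrix.toLin'_apply, hb', hb', Matrix.mulVec_mulVec, Fin.val_one, Fin.val_two, ← pow_succ']
      have e2 : Matrix.toLin' β (b' 2) = w • b' 0 := by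
        rw [Matrix.toLin'_apply, hb', hb', Matrix.mulVec_mulVec, Fin.val_two, Fin.val_zero, ← pow_succ',
          show (2 + 1 : ℕ) = 3 from rfl, hw, Matrix.smul_mulVec, Matrix.one_mulVec, pow_zero, Matrix.one_mulVec]
      ext i j
      rw [LinearMap.toMatrix_apply]
      fin_cases j <;> simp only [Fin.isValue, Fin.reduceFinMk, Fin.zero_eta, e0, e1, e2, map_smul, Basis.repr_self] <;>
        fin_cases i <;> simp [Finsupp.single_apply]
    have hd : w = 1 := by
      have h1 := LinearMap.det_toMatrix b' (Matrix.toLin' β)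
      rw [hmat, LinearMap.det_toLin', show β.det = 1 by rw [hβdef, Matrix.det_pow, hdeta, one_pow], Matrix.det_fin_three] at h1
      simpa using h1
    exact hb3 (by rw [hw, hd, one_smul])
  -- decomposition of `a`
  set ε : Mat3 := (a ^ 3) ^ 5 with hε
  have hεK : ε ∈ K := K.pow_mem (K.pow_mem ha _) _
  have hc3 : c ^ 3 = 1 := by
    rw [show (3 : ℕ) = Fintype.card F - 1 by rw [h4]]
    exact FiniteField.pow_card_sub_one_eq_one c hc0
  have ha21 : a ^ 21 = 1 := by
    rw [show (21 : ℕ) = 7 * 3 from rfl, pow_mul, show a ^ 7 = c • (1 : Mat3) by rw [← hβdef]; exact hc, smul_pow, one_pow, hc3, one_smul]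
  have hε8 : ε ^ 8 = ε := by
    rw [hε, ← pow_mul, ← pow_mul, ← pow_mul, show 3 * (5 * 8) = 21 * 5 + 15 from rfl, pow_add, pow_mul, ha21, one_pow,
      one_mul]
  have hadec : a = c • ε := by
    calc a = a ^ 22 := by rw [show (22 : ℕ) = 21 + 1 from rfl, pow_succ, ha21, one_mul]
      _ = a ^ 7 * ε := by rw [hε, ← pow_mul, ← pow_add]
      _ = c • ε := by rw [show a ^ 7 = c • (1 : Mat3) by rw [← hβdef]; exact hc, smul_mul_assoc, one_mul]
  refine (TransvMax.mem_subfieldSubgroup_iff F₀ P g).2 ⟨c⁻¹, inv_ne_zero hc0, fun z => ?_⟩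
  have hεy : ∀ i, ∀ k, b.repr ((ε * y i) *ᵥ v) k ∈ F₀ := fun i => hrat _ (K.mul_mem hεK (hy i)) (by
    rw [Commute.mul_pow (hK.comm ε hεK (y i) (hy i)), hε8, hy8])
  choose m hm using fun i k => (⟨⟨_, hεy i k⟩, rfl⟩ : ∃ t : F₀, (t : F) = b.repr ((ε * y i) *ᵥ v) k)
  refine ⟨∑ i, z i • m i, ?_⟩
  have hP : ∀ w : Fin 3 → F, (P : Mat3) *ᵥ w = ∑ k, w k • b k := fun w => by
    rw [TransvMax.glOf_mulVec, Basis.equivFun_symm_apply]
  rw [TransvMax.ratEmb, TransvMax.ratEmb, hP, hP, Matrix.mulVec_sum, Finset.smul_sum]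
  calc ∑ i, c⁻¹ • ((g : Mat3) *ᵥ ((z i : F) • b i))
      = ∑ i, (z i : F) • ∑ k, (m i k : F) • b k := by
        refine Finset.sum_congr rfl fun i _ => ?_
        rw [Matrix.mulVec_smul, smul_comm, hgb, hadec, smul_mul_assoc, Matrix.smul_mulVec, inv_smul_smul₀ hc0]
        congr 1
        conv_lhs => rw [← b.sum_repr ((ε * y i) *ᵥ v)]
        simp only [hm]
    _ = _ := by
        simp only [Finset.smul_sum, smul_smul, Finset.sum_apply, Pi.smul_apply, smul_eq_mul,
          AddSubmonoidClass.coe_finsetSum, MulMemClass.coe_mul, Finset.sum_smul]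
        rw [Finset.sum_comm]

end Cfsg.Agent.PrimeDim
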