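import Cfsg.Agent.Lib.PrimeDim.UFiveTwoData

/-!
Finite checks for the tables.
-/

set_option autoImplicit false

namespace Cfsg.Agent.PrimeDim.UFiveTwo

/-- All elements. -/
def Q4.all : List Q4 := [.o, .u, .w, .v]

theorem Q4.mem_all (a : Q4) : a ∈ Q4.all := by cases a <;> decide

/-- All vectors. -/
def V5.all : List V5 :=
  Q4.all.flatMap fun a => Q4.all.flatMap fun b => Q4.all.flatMap fun c => Q4.all.flatMap fun d =>
    Q4.all.map fun e => ⟨a, b, c, d, e⟩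

theorem V5.mem_all (x : V5) : x ∈ V5.all := by
  obtain ⟨a, b, c, d, e⟩ := x
  simp only [V5.all, List.mem_flatMap, List.mem_map]
  exact ⟨a, a.mem_all, b, b.mem_all, c, c.mem_all, d, d.mem_all, e, e.mem_all, rfl⟩

/-- Sum of five. -/
def sum5 (a b c d e : Q4) : Q4 := ((((a.add b).add c).add d).add e)

/-- Scalar product. -/
def dot5 (x y : V5) : Q4 :=
  sum5 (x.c0.mul y.c0) (x.c1.mul y.c1) (x.c2.mul y.c2) (x.c3.mul y.c3) (x.c4.mul y.c4)

/-- A matrix applied to a vector. -/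
def mv (A : M5) (x : V5) : V5 :=
  ⟨dot5 ⟨A.d0.c0, A.d1.c0, A.d2.c0, A.d3.c0, A.d4.c0⟩ x,
    dot5 ⟨A.d0.c1, A.d1.c1, A.d2.c1, A.d3.c1, A.d4.c1⟩ x,
    dot5 ⟨A.d0.c2, A.d1.c2, A.d2.c2, A.d3.c2, A.d4.c2⟩ x,
    dot5 ⟨A.d0.c3, A.d1.c3, A.d2.c3, A.d3.c3, A.d4.c3⟩ x,
    dot5 ⟨A.d0.c4, A.d1.c4, A.d2.c4, A.d3.c4, A.d4.c4⟩ x⟩

/-- The matrix product. -/
def mm5 (A B : M5) : M5 := ⟨mv A B.d0, mv A B.d1, mv A B.d2, mv A B.d3, mv A B.d4⟩

/-- The conjugate vector. -/
def vcj (x : V5) : V5 := ⟨x.c0.cj, x.c1.cj, x.c2.cj, x.c3.cj, x.c4.cj⟩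

/-- The hermitian Toeplitz matrix with given first row. -/
def gMat (c : V5) : M5 :=
  ⟨⟨c.c0, c.c1.cj, c.c2.cj, c.c3.cj, c.c4.cj⟩,
    ⟨c.c1, c.c0, c.c1.cj, c.c2.cj, c.c3.cj⟩,
    ⟨c.c2, c.c1, c.c0, c.c1.cj, c.c2.cj⟩,
    ⟨c.c3, c.c2, c.c1, c.c0, c.c1.cj⟩,
    ⟨c.c4, c.c3, c.c2, c.c1, c.c0⟩⟩

/-- The form with given first row. -/
def form (c x y : V5) : Q4 := dot5 x (mv (gMat c) (vcj y))

/-- Powers of the companion matrix applied to a vector. -/
def cpow : Nat → V5 → V5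
  | 0, x => x
  | n + 1, x => mv cM (cpow n x)

/-- The first row in a translated basis. -/
def gramOf (c co : V5) : V5 :=
  ⟨form c co co, form c co (cpow 1 co), form c co (cpow 2 co), form c co (cpow 3 co), form c co (cpow 4 co)⟩

/-- The polynomial in the companion matrix with given first column. -/
def polyM (co : V5) : M5 := ⟨co, cpow 1 co, cpow 2 co, cpow 3 co, cpow 4 co⟩

/-- Scalar multiples. -/
def smul5 (t : Q4) (x : V5) : V5 := ⟨t.mul x.c0, t.mul x.c1, t.mul x.c2, t.mul x.c3, t.mul x.c4⟩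

/-- Membership in a point. -/
def inPts (x : V5) : Bool := pts.contains x || pts.contains (smul5 .w x) || pts.contains (smul5 .v x)

/-- The columns of the identity. -/
def e5 : M5 := ⟨⟨.u, .o, .o, .o, .o⟩, ⟨.o, .u, .o, .o, .o⟩, ⟨.o, .o, .u, .o, .o⟩, ⟨.o, .o, .o, .u, .o⟩, ⟨.o, .o, .o, .o, .u⟩⟩

/-- The recurrence on a first row. -/
def recOK (c : V5) : Bool :=
  decide (c.c0.cj = c.c0) &&
  decide (sum5 c.c1.cj (Q4.v.mul c.c0) c.c1 c.c2 (Q4.w.mul c.c3) = c.c4) &&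
  decide (sum5 c.c2.cj (Q4.v.mul c.c1.cj) c.c0 c.c1 (Q4.w.mul c.c2) = c.c3) &&
  decide (sum5 c.c3.cj (Q4.v.mul c.c2.cj) c.c1.cj c.c0 (Q4.w.mul c.c1) = c.c2) &&
  decide (sum5 c.c4.cj (Q4.v.mul c.c3.cj) c.c2.cj c.c1.cj (Q4.w.mul c.c0) = c.c1)

theorem chk_fix : (V5.all.all fun c => !(recOK c) || decide (c = ⟨.o, .o, .o, .o, .o⟩) ||
    (fixTab.map Prod.fst).contains c) = true := by decide +kernel

theorem chk_tab : (fixTab.all fun t => decide (gramOf t.1 t.2 = g0)) = true := by decide +kernel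

theorem chk_unit : (V5.all.all fun co => !(decide (gramOf g0 co = g0)) || unitList.contains co) = true := by
  decide +kernel

theorem chk_poly : (unitList.all fun co => pts.all fun s => inPts (mv (polyM co) s)) = true := by decide +kernel

theorem chk_phi : (pts.all fun s => inPts (mv phiM s)) = true := by decide +kernel

theorem chk_x : (pts.all fun s => inPts (mv xM s)) = true := by decide +kernel

theorem chk_xx : mm5 xM xM = e5 := by decide +kernel

theorem chk_phi_pow : mm5 phiM (mm5 phiM (mm5 phiM (mm5 phiM phiM))) = e5 := by decide +kernel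

theorem chk_phi_cM : mm5 phiM cM = mm5 (mm5 cM (mm5 cM (mm5 cM cM))) phiM := by decide +kernel

/-- The Gram matrix after a change of basis. -/
def pull (A : M5) : M5 :=
  let col := fun (y : V5) => (⟨form g0 A.d0 y, form g0 A.d1 y, form g0 A.d2 y, form g0 A.d3 y, form g0 A.d4 y⟩ : V5)
  ⟨col A.d0, col A.d1, col A.d2, col A.d3, col A.d4⟩

theorem chk_phi_unit : pull phiM = gMat g0 := by decide +kernel

theorem chk_x_unit : pull xM = gMat g0 := by decide +kernel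

theorem chk_move : form g0 uV uV = .o ∧
    inPts (⟨sV.c0.add ((form g0 sV uV).mul uV.c0), sV.c1.add ((form g0 sV uV).mul uV.c1),
      sV.c2.add ((form g0 sV uV).mul uV.c2), sV.c3.add ((form g0 sV uV).mul uV.c3),
      sV.c4.add ((form g0 sV uV).mul uV.c4)⟩) = false ∧ pts.contains sV = true := by decide +kernel

theorem chk_x_moves : mm5 (mm5 (mm5 xM cM) xM) cM ≠ mm5 cM (mm5 (mm5 xM cM) xM) := by decide +kernel

/-- The sum of two model vectors. -/
def add5 (x y : V5) : V5 := ⟨x.c0.add y.c0, x.c1.add y.c1, x.c2.add y.c2, x.c3.add y.c3, x.c4.add y.c4⟩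

/-- The relation of the generator at a conjugated exponent. -/
def chkExp (j : Nat) : V5 :=
  let e : V5 := ⟨.u, .o, .o, .o, .o⟩
  let s := fun (t : Q4) (i : Nat) => smul5 t (cpow (i * j) e)
  add5 (add5 (add5 (add5 (add5 (s .u 0) (s .w 1)) (s .u 2)) (s .u 3)) (s .v 4)) (s .u 5)

theorem chk_exp : ((List.range 11).all fun j => !(decide (chkExp j = ⟨.o, .o, .o, .o, .o⟩)) ||
    [1, 3, 4, 5, 9].contains j) = true := by decide +kernel

end Cfsg.Agent.PrimeDim.UFiveTwo
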