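import Cfsg.Agent.Lib.PrimeDim.UnitaryNotLe
import Cfsg.Agent.Lib.PrimeDim.UnitaryRational
import Cfsg.Agent.Lib.PrimeDim.UFiveTwoCheck

/-!
In the unitary group of dimension five over the field of four elements the normaliser of a degree-five field
lies in a subgroup of order 660, so it is not maximal.
-/

set_option autoImplicit false

namespace Cfsg.Agent.PrimeDim.UFiveTwo

open scoped Matrix MatrixGroups
open Module
open Cfsg.Agent

variable {F : Type*} [Field F] (ω : F)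

/-- The embedding of the model field. -/
def toF : Q4 → F
  | .o => 0
  | .u => 1
  | .w => ω
  | .v => ω + 1

/-- The embedding of model vectors. -/
def toV (x : V5) : Fin 5 → F := ![toF ω x.c0, toF ω x.c1, toF ω x.c2, toF ω x.c3, toF ω x.c4]

/-- The embedding of model matrices. -/
def toM (A : M5) : Matrix (Fin 5) (Fin 5) F :=
  Matrix.of fun i j => ![toV ω A.d0, toV ω A.d1, toV ω A.d2, toV ω A.d3, toV ω A.d4] j i

variable {ω} (h2 : (2 : F) = 0) (hω : ω ^ 2 + ω + 1 = 0)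

include h2 in
theorem toF_add (a b : Q4) : toF ω (a.add b) = toF ω a + toF ω b := by
  cases a <;> cases b <;> simp only [Q4.add, toF]
  all_goals
    first
      | ring1
      | linear_combination -h2
      | linear_combination -ω * h2
      | linear_combination -(ω + 1) * h2

include h2 hω in
theorem toF_mul (a b : Q4) : toF ω (a.mul b) = toF ω a * toF ω b := by
  cases a <;> cases b <;> simp only [Q4.mul, toF]
  all_goals
    first
      | ring1
      | linear_combination -hω + (ω + 1) * h2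
      | linear_combination -hω + h2
      | linear_combination -hω

include h2 hω in
theorem toF_cj {σ : F ≃+* F} (hσ : ∀ x, σ x = x ^ 2) (a : Q4) : toF ω a.cj = σ (toF ω a) := by
  rw [hσ]
  cases a <;> simp only [Q4.cj, toF]
  all_goals
    first
      | ring1
      | linear_combination -hω + (ω + 1) * h2
      | linear_combination -hω - ω * h2
      | linear_combination -hω

include h2 hω in
theorem toF_injective : Function.Injective (toF ω) := by
  have h0 : ω ≠ 0 := fun e => by rw [e] at hω; simp at hω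
  have h1 : ω ≠ 1 := fun e => by
    rw [e] at hω
    exact one_ne_zero (show (1 : F) = 0 by linear_combination hω - h2)
  have h3 : ω + 1 ≠ 0 := fun e => h1 (by linear_combination e - h2)
  intro a b h
  cases a <;> cases b <;> simp only [toF] at h <;> try rfl
  all_goals exfalso
  all_goals
    first
      | exact h0 (by linear_combination h)
      | exact h0 (by linear_combination -h)
      | exact h1 (by linear_combination h)
      | exact h1 (by linear_combination -h)
      | exact h3 (by linear_combination h)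
      | exact h3 (by linear_combination -h)
      | exact one_ne_zero (by linear_combination h)
      | exact one_ne_zero (by linear_combination -h)

include h2 hω in
theorem toF_surjective [Fintype F] (hc : Fintype.card F = 4) : Function.Surjective (toF ω) := by
  intro y
  have h4 : y ^ 4 = y := by rw [← hc]; exact FiniteField.pow_card y
  have h5 : y * (y - 1) * ((y - ω) * (y - (ω + 1))) = 0 := by
    linear_combination h4 + y * (y - 1) * hω + (-(ω + 1) * y ^ 3 + ω * y ^ 2 + y) * h2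
  rcases mul_eq_zero.1 h5 with h | h <;> rcases mul_eq_zero.1 h with h' | h'
  · exact ⟨.o, h'.symm⟩
  · exact ⟨.u, (sub_eq_zero.1 h').symm⟩
  · exact ⟨.w, (sub_eq_zero.1 h').symm⟩
  · exact ⟨.v, (sub_eq_zero.1 h').symm⟩

include h2 hω in
theorem toV_injective : Function.Injective (toV ω) := by
  intro x y h
  have hinj := toF_injective h2 hω
  obtain ⟨a, b, c, d, e⟩ := x
  obtain ⟨a', b', c', d', e'⟩ := y
  have h' := fun i => congrFun h i
  simp [toV] at h
  obtain ⟨r0, r1, r2, r3, r4⟩ := h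
  rw [hinj r0, hinj r1, hinj r2, hinj r3, hinj r4]

include h2 hω in
theorem toV_surjective [Fintype F] (hc : Fintype.card F = 4) : Function.Surjective (toV ω) := by
  intro y
  have h := toF_surjective h2 hω hc
  choose g hg using h
  exact ⟨⟨g (y 0), g (y 1), g (y 2), g (y 3), g (y 4)⟩, by funext i; fin_cases i <;> simp [toV, hg]⟩

include h2 hω in
theorem toM_mulVec (A : M5) (x : V5) : toM ω A *ᵥ toV ω x = toV ω (mv A x) := by
  funext i
  fin_cases i <;>
    simp [toM, toV, mv, dot5, sum5, Matrix.mulVec, dotProduct, Fin.sum_univ_five, toF_add h2, toF_mul h2 hω]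

include h2 hω in
theorem toM_mul (A B : M5) : toM ω A * toM ω B = toM ω (mm5 A B) := by
  have key : ∀ (M N : Matrix (Fin 5) (Fin 5) F) (j : Fin 5), (fun i => (M * N) i j) = M *ᵥ fun i => N i j :=
    fun M N j => funext fun i => rfl
  refine Matrix.ext fun i j => ?_
  rw [congrFun (key _ _ j) i]
  fin_cases j
  · exact congrFun (toM_mulVec h2 hω A B.d0) i
  · exact congrFun (toM_mulVec h2 hω A B.d1) i
  · exact congrFun (toM_mulVec h2 hω A B.d2) i
  · exact congrFun (toM_mulVec h2 hω A B.d3) i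
  · exact congrFun (toM_mulVec h2 hω A B.d4) i

theorem toM_e5 : toM ω e5 = 1 := by
  ext i j
  fin_cases i <;> fin_cases j <;> simp [toM, toV, e5, toF]

include h2 hω in
theorem toF_form {σ : F ≃+* F} (hσ : ∀ x, σ x = x ^ 2) (c x y : V5) :
    toF ω (form c x y) = matForm σ (toM ω (gMat c)) (toV ω x) (toV ω y) := by
  have hy : (fun i => σ (toV ω y i)) = toV ω (vcj y) := by
    funext i
    fin_cases i <;> simp [toV, vcj, toF_cj h2 hω hσ]
  rw [matForm, hy, toM_mulVec h2 hω]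
  simp [form, dot5, sum5, toV, dotProduct, Fin.sum_univ_five, toF_add h2, toF_mul h2 hω]

include h2 hω in
theorem cpow_spec (n : ℕ) (x : V5) : toM ω cM ^ n *ᵥ toV ω x = toV ω (cpow n x) := by
  induction n with
  | zero => simp [cpow]
  | succ n ih => rw [pow_succ', ← Matrix.mulVec_mulVec, ih, toM_mulVec h2 hω]; rfl

theorem toV_basis : toV ω e5.d0 = Pi.single 0 1 ∧ toV ω e5.d1 = Pi.single 1 1 ∧ toV ω e5.d2 = Pi.single 2 1 ∧
    toV ω e5.d3 = Pi.single 3 1 ∧ toV ω e5.d4 = Pi.single 4 1 := by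
  refine ⟨?_, ?_, ?_, ?_, ?_⟩ <;> funext i <;> fin_cases i <;> simp [toV, e5, toF]

theorem inPts_cases {x : V5} (h : inPts x = true) :
    x ∈ pts ∨ smul5 .w x ∈ pts ∨ smul5 .v x ∈ pts := by
  simp only [inPts, Bool.or_eq_true, List.contains_iff_mem] at h
  exact or_assoc.1 h

include h2 hω in
theorem toV_smul5 (t : Q4) (x : V5) : toV ω (smul5 t x) = toF ω t • toV ω x := by
  funext i
  fin_cases i <;> simp [toV, smul5, toF_mul h2 hω]

include h2 hω in
theorem pts_scaled {x : V5} (h : inPts x = true) : ∃ s ∈ pts, ∃ t : F, toV ω x = t • toV ω s := by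
  rcases inPts_cases h with h | h | h
  · exact ⟨x, h, 1, (one_smul _ _).symm⟩
  · refine ⟨_, h, toF ω .v, ?_⟩
    rw [toV_smul5 h2 hω, smul_smul, ← toF_mul h2 hω]
    exact (one_smul F _).symm
  · refine ⟨_, h, toF ω .w, ?_⟩
    rw [toV_smul5 h2 hω, smul_smul, ← toF_mul h2 hω]
    exact (one_smul F _).symm

end Cfsg.Agent.PrimeDim.UFiveTwo

namespace Cfsg.Agent.PrimeDim

open scoped Matrix MatrixGroups
open Module
open Cfsg.Agent
open UFiveTwo

variable {F : Type*} [Field F] [Fintype F]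

local notation "Mat" => Matrix (Fin 5) (Fin 5) F

set_option maxHeartbeats 1600000 in
theorem field_five_two_false {σ : F ≃+* F} (S : USetting 5 F 2 σ) {H : Subgroup (GL (Fin 5) F)}
    (hH : Cfsg.Geo.IsMaximalIn (suGL 5 F 2) H) {K : Subalgebra F Mat} (hK : Cfsg.Geo.IsFieldSubalgebra 5 K)
    (hadj : Cfsg.Geo.IsAdjointClosedFor (Cfsg.hermForm 5 F 2) K)
    (heq : H = Cfsg.Geo.subalgebraNormalizer K ⊓ suGL 5 F 2) : False := by
  classical
  have hcard : Fintype.card F = 4 := by rw [S.card]; norm_num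
  haveI : Fact (Nat.Prime 2) := ⟨Nat.prime_two⟩
  have h2 : (2 : F) = 0 := by
    have h1 := FiniteField.cast_card_eq_zero F
    rw [hcard] at h1
    have h3 : (2 : F) * 2 = 0 := by norm_num at h1 ⊢; exact h1
    exact (mul_self_eq_zero.1 h3)
  have hσ : ∀ x, σ x = x ^ 2 := S.pow
  -- the field structure on `K`
  letI : Field K := IsField.toField
    { exists_pair_ne := ⟨0, 1, zero_ne_one⟩
      mul_comm := fun x y => Subtype.ext (hK.comm _ x.2 _ y.2)
      mul_inv_cancel := fun {x} hx => by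
        obtain ⟨y, hy, hxy⟩ := hK.inv _ x.2 fun e => hx (Subtype.ext e)
        exact ⟨⟨y, hy⟩, Subtype.ext hxy⟩ }
  haveI : Finite K := inferInstance
  haveI : Fintype K := Fintype.ofFinite K
  have hKcard : Fintype.card K = 4 ^ 5 := by
    have h := Module.natCard_eq_pow_finrank (K := F) (V := K)
    rw [hK.finrank_eq, Nat.card_eq_fintype_card, Nat.card_eq_fintype_card, hcard] at h
    exact h
  haveI : Fact (Nat.Prime 11) := ⟨by norm_num⟩
  obtain ⟨au, hau⟩ := exists_prime_orderOf_dvd_card' (G := Kˣ) 11 (by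
    rw [Nat.card_units, Nat.card_eq_fintype_card, hKcard]; norm_num)
  set a : K := (au : K) with hadef
  have hord : orderOf a = 11 := by rw [hadef, orderOf_units, hau]
  have ha11 : a ^ 11 = 1 := by rw [← hord]; exact pow_orderOf_eq_one a
  have hroots : ∀ x : K, x ^ 11 = 1 → ∃ j < 11, a ^ j = x := fun x hx =>
    ((hord ▸ IsPrimitiveRoot.orderOf a : IsPrimitiveRoot a 11)).eq_pow_of_pow_eq_one hx
  have hpow_inj : ∀ i j : ℕ, a ^ i = a ^ j → i % 11 = j % 11 := fun i j h => by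
    rw [← pow_mod_orderOf a i, ← pow_mod_orderOf a j, hord] at h
    exact pow_injOn_Iio_orderOf (by rw [Set.mem_Iio, hord]; exact Nat.mod_lt _ (by norm_num))
      (by rw [Set.mem_Iio, hord]; exact Nat.mod_lt _ (by norm_num)) h
  have ha1 : a ≠ 1 := fun e => by rw [e, orderOf_one] at hord; norm_num at hord
  -- choice of the primitive cube root
  obtain ⟨ω, hω, hPa⟩ : ∃ ω : F, ω ^ 2 + ω + 1 = 0 ∧
      1 + algebraMap F K ω * a + a ^ 2 + a ^ 3 + algebraMap F K (ω + 1) * a ^ 4 + a ^ 5 = 0 := by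
    obtain ⟨t, ht0, ht1⟩ : ∃ t : F, t ≠ 0 ∧ t ≠ 1 := by
      by_contra hc
      push Not at hc
      have hsub : (Finset.univ : Finset F) ⊆ {0, 1} := fun t _ => by
        by_cases h : t = 0
        · simp [h]
        · simp [hc t h]
      have h1 := (Finset.card_le_card hsub).trans Finset.card_le_two
      rw [Finset.card_univ, hcard] at h1
      omega
    have ht : t ^ 2 + t + 1 = 0 := by
      have h4 : t ^ 4 = t := by rw [← hcard]; exact FiniteField.pow_card t
      have h5 : t * ((t - 1) * (t ^ 2 + t + 1)) = 0 := by linear_combination h4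
      exact (mul_eq_zero.1 ((mul_eq_zero.1 h5).resolve_left ht0)).resolve_left (sub_ne_zero.2 ht1)
    have ht' : (t + 1) ^ 2 + (t + 1) + 1 = 0 := by linear_combination ht + (t + 1) * h2
    have h2K : (2 : K) = 0 := by rw [← map_ofNat (algebraMap F K), h2, map_zero]
    set T := algebraMap F K t with hT
    have hTK : T ^ 2 + T + 1 = 0 := by rw [hT, ← map_pow, ← map_add, ← map_one (algebraMap F K), ← map_add, ht, map_zero]
    have hT1 : algebraMap F K (t + 1) = T + 1 := by rw [map_add, map_one]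
    have hgeo : 1 + a + a ^ 2 + a ^ 3 + a ^ 4 + a ^ 5 + a ^ 6 + a ^ 7 + a ^ 8 + a ^ 9 + a ^ 10 = 0 := by
      have h := mul_eq_zero.1 (show (a - 1) *
        (1 + a + a ^ 2 + a ^ 3 + a ^ 4 + a ^ 5 + a ^ 6 + a ^ 7 + a ^ 8 + a ^ 9 + a ^ 10) = 0 by linear_combination ha11)
      exact h.resolve_left (sub_ne_zero.2 ha1)
    have hprod : (1 + T * a + a ^ 2 + a ^ 3 + (T + 1) * a ^ 4 + a ^ 5) *
        (1 + (T + 1) * a + a ^ 2 + a ^ 3 + T * a ^ 4 + a ^ 5) = 0 := by
      linear_combination hgeo + (a ^ 2 + 2 * a ^ 5 + a ^ 8) * hTK +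
        (T * a + T * a ^ 3 + a ^ 3 + 2 * T * a ^ 4 + a ^ 4 + a ^ 5 + 2 * T * a ^ 6 + a ^ 6 + T * a ^ 7 + a ^ 7 + T * a ^ 9) * h2K
    rcases mul_eq_zero.1 hprod with h | h
    · exact ⟨t, ht, by rw [hT1, ← hT]; exact h⟩
    · refine ⟨t + 1, ht', ?_⟩
      rw [show algebraMap F K (t + 1 + 1) = T by
        rw [map_add, hT1, map_one]; linear_combination h2K, hT1]
      exact h
  have hW1 : algebraMap F K (ω + 1) = algebraMap F K ω + 1 := by rw [map_add, map_one]
  -- the powers up to four are independent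
  have hind : ∀ c : Fin 5 → F, ∑ i, algebraMap F K (c i) * a ^ (i : ℕ) = 0 → c = 0 := by
    intro c hc
    set Q : Polynomial F := ∑ i : Fin 5, Polynomial.C (c i) * Polynomial.X ^ (i : ℕ) with hQ
    have hQa : Polynomial.aeval a Q = 0 := by
      rw [hQ, map_sum, ← hc]
      exact Finset.sum_congr rfl fun i _ => by simp
    have hfrob : ∀ n : ℕ, Polynomial.aeval (a ^ 4 ^ n) Q = 0 := by
      intro n
      induction n with
      | zero => rw [pow_zero, pow_one]; exact hQa
      | succ n ih =>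
        have h1 := Polynomial.aeval_algHom_apply (FiniteField.frobeniusAlgHom F K) (a ^ 4 ^ n) Q
        rw [ih, map_zero] at h1
        rw [pow_succ, pow_mul]
        simpa [FiniteField.coe_frobeniusAlgHom, hcard] using h1
    have hz : Q.map (algebraMap F K) = 0 := by
      refine Polynomial.eq_zero_of_natDegree_lt_card_of_eval_eq_zero _ (f := fun i : Fin 5 => a ^ 4 ^ (i : ℕ))
        (fun i j h => ?_) (fun i => ?_) ?_
      · have h1 := hpow_inj _ _ h
        fin_cases i <;> fin_cases j <;> first | rfl | (norm_num at h1)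
      · rw [Polynomial.eval_map, ← Polynomial.aeval_def]
        exact hfrob _
      · rw [Fintype.card_fin]
        refine lt_of_le_of_lt Polynomial.natDegree_map_le (Nat.lt_succ_of_le ?_)
        refine Polynomial.natDegree_sum_le_of_forall_le _ _ fun i _ => ?_
        refine (Polynomial.natDegree_C_mul_le _ _).trans ?_
        rw [Polynomial.natDegree_X_pow]
        have := i.2
        omega
    have hQ0 : Q = 0 := Polynomial.map_injective _ (algebraMap F K).injective (by rw [hz, Polynomial.map_zero])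
    funext i
    have h1 := congrArg (fun P => Polynomial.coeff P (i : ℕ)) hQ0
    simpa [hQ, Polynomial.coeff_X_pow, Fin.val_inj] using h1
  -- action on vectors
  have hfree : ∀ (k : K) (u : Fin 5 → F), (k : Mat) *ᵥ u = 0 → u ≠ 0 → k = 0 := by
    intro k u hk hu
    by_contra h0
    refine hu ?_
    have h1 : ((k⁻¹ * k : K) : Mat) *ᵥ u = u := by rw [inv_mul_cancel₀ h0]; exact Matrix.one_mulVec u
    rw [← h1]
    show (((k⁻¹ : K) : Mat) * (k : Mat)) *ᵥ u = 0
    rw [← Matrix.mulVec_mulVec, hk, Matrix.mulVec_zero]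
  have hcoe : ∀ n : ℕ, ((a ^ n : K) : Mat) = (a : Mat) ^ n := fun n => SubmonoidClass.coe_pow a n
  have halg : ∀ (c : F) (k : K) (u : Fin 5 → F), ((algebraMap F K c * k : K) : Mat) *ᵥ u = c • ((k : Mat) *ᵥ u) := by
    intro c k u
    show (algebraMap F Mat c * (k : Mat)) *ᵥ u = _
    rw [Algebra.algebraMap_eq_smul_one, smul_mul_assoc, one_mul, Matrix.smul_mulVec]
  -- adjoint of `a`
  obtain ⟨a', ha'K, ha'⟩ := hadj _ a.2
  have heq_of : ∀ M N : Mat, (∀ u v, Cfsg.hermForm 5 F 2 u (M *ᵥ v) = Cfsg.hermForm 5 F 2 u (N *ᵥ v)) → M = N :=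
    fun M N h => Matrix.ext_iff_mulVec.2 fun v => TransvMax.herm_eq_of_forall S.herm fun u => h u v
  have hapow : ∀ (n : ℕ) u v, Cfsg.hermForm 5 F 2 ((a : Mat) ^ n *ᵥ u) v = Cfsg.hermForm 5 F 2 u (a' ^ n *ᵥ v) := by
    intro n
    induction n with
    | zero => intro u v; simp
    | succ n ih =>
      intro u v
      rw [pow_succ, ← Matrix.mulVec_mulVec, ih, ha', Matrix.mulVec_mulVec, ← pow_succ']
  have ha'11 : (⟨a', ha'K⟩ : K) ^ 11 = 1 := Subtype.ext (by
    show a' ^ 11 = 1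
    refine heq_of _ _ fun u v => ?_
    rw [← hapow, ← hcoe, ha11]
    simp)
  obtain ⟨j, hj, hja⟩ := hroots _ ha'11
  have hja' : (a : Mat) ^ j = a' := by rw [← hcoe, hja]
  have hsq : j * j % 11 = 1 := by
    refine hpow_inj (j * j) 1 (Subtype.ext ?_) |>.trans (by norm_num)
    rw [hcoe, pow_one, pow_mul, hja']
    refine (heq_of _ _ fun u v => ?_).symm
    calc Cfsg.hermForm 5 F 2 u ((a : Mat) *ᵥ v) = σ (Cfsg.hermForm 5 F 2 ((a : Mat) *ᵥ v) u) := S.herm.herm _ _
      _ = Cfsg.hermForm 5 F 2 (a' *ᵥ u) v := by rw [ha', ← S.herm.herm]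
      _ = Cfsg.hermForm 5 F 2 u (a' ^ j *ᵥ v) := by rw [show a' *ᵥ u = (a : Mat) ^ j *ᵥ u by rw [hja']]; exact hapow j u v
  have hj10 : j = 10 := by
    have hj' : j = 1 ∨ j = 10 := by interval_cases j <;> omega
    refine hj'.resolve_left fun hj1 => ?_
    rw [hj1, pow_one] at hja'
    -- a self-adjoint root would be a root of both quintics
    have hQa : 1 + algebraMap F K (ω + 1) * a + a ^ 2 + a ^ 3 + algebraMap F K ω * a ^ 4 + a ^ 5 = 0 := by
      have key : ∀ u v, Cfsg.hermForm 5 F 2 u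
          (((1 + algebraMap F K (ω + 1) * a + a ^ 2 + a ^ 3 + algebraMap F K ω * a ^ 4 + a ^ 5 : K) : Mat) *ᵥ v) = 0 := by
        intro u v
        have h1 : Cfsg.hermForm 5 F 2
            (((1 + algebraMap F K ω * a + a ^ 2 + a ^ 3 + algebraMap F K (ω + 1) * a ^ 4 + a ^ 5 : K) : Mat) *ᵥ u) v = 0 := by
          rw [hPa]
          simp [TransvMax.herm_zero_left S.herm]
        have hs1 : σ ω = ω + 1 := by rw [hσ]; linear_combination hω - (ω + 1) * h2
        have hs2 : σ (ω + 1) = ω := by rw [map_add, map_one, hs1]; linear_combination h2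
        simp only [AddMemClass.coe_add, Matrix.add_mulVec, S.herm.add_left, TransvMax.herm_add_right S.herm, halg,
          S.herm.smul_left, TransvMax.herm_smul_right S.herm, hcoe, OneMemClass.coe_one, Matrix.one_mulVec,
          hs1, hs2, hapow, ← hja'] at h1 ⊢
        rw [ha'] at h1
        simpa [← hja'] using h1
      have := heq_of _ 0 fun u v => by rw [key, Matrix.zero_mulVec, TransvMax.herm_zero_right S.herm]
      exact Subtype.ext this
    have h2K : (2 : K) = 0 := by rw [← map_ofNat (algebraMap F K), h2, map_zero]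
    rw [hW1] at hQa
    have hPa' := hPa
    rw [hW1] at hPa'
    have h3 : a ^ 4 = a ^ 1 := by linear_combination hPa' - hQa
    exact absurd (hpow_inj _ _ h3) (by norm_num)
  have hiso : ∀ u v, Cfsg.hermForm 5 F 2 ((a : Mat) *ᵥ u) ((a : Mat) *ᵥ v) = Cfsg.hermForm 5 F 2 u v := by
    intro u v
    rw [ha', Matrix.mulVec_mulVec, ← hja', hj10, ← pow_succ, ← hcoe, ha11]
    simp
  have hisopow : ∀ (n : ℕ) u v,
      Cfsg.hermForm 5 F 2 ((a : Mat) ^ n *ᵥ u) ((a : Mat) ^ n *ᵥ v) = Cfsg.hermForm 5 F 2 u v := by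
    intro n
    induction n with
    | zero => intro u v; simp
    | succ n ih => intro u v; rw [pow_succ', ← Matrix.mulVec_mulVec, ← Matrix.mulVec_mulVec, hiso, ih]
  -- frames
  have hfr : ∀ v : Fin 5 → F, v ≠ 0 → ∀ c : V5,
      (∀ i : Fin 5, Cfsg.hermForm 5 F 2 v ((a : Mat) ^ (i : ℕ) *ᵥ v) = toV ω c i) →
      ∃ P : GL (Fin 5) F, (∀ x, (P : Mat) *ᵥ x = ∑ i, x i • ((a : Mat) ^ (i : ℕ) *ᵥ v)) ∧
        (a : Mat) * (P : Mat) = (P : Mat) * toM ω cM ∧
        ∀ x y, Cfsg.hermForm 5 F 2 ((P : Mat) *ᵥ x) ((P : Mat) *ᵥ y) = matForm σ (toM ω (gMat c)) x y := by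
    intro v hv c hc
    let M : Mat := Matrix.of fun i j => ((a : Mat) ^ (j : ℕ) *ᵥ v) i
    have hM : ∀ x, M *ᵥ x = ∑ i, x i • ((a : Mat) ^ (i : ℕ) *ᵥ v) := by
      intro x
      funext k
      simp [M, Matrix.mulVec, dotProduct, mul_comm]
    have hMd : M.det ≠ 0 := fun h => by
      obtain ⟨x, hx, hx0⟩ := Matrix.exists_mulVec_eq_zero_iff.2 h
      refine hx (hind x (hfree _ v ?_ hv))
      rw [hM] at hx0
      rw [AddSubmonoidClass.coe_finsetSum, Matrix.sum_mulVec, ← hx0]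
      exact Finset.sum_congr rfl fun i _ => by rw [halg, hcoe]
    refine ⟨Matrix.GeneralLinearGroup.mkOfDetNeZero M hMd, hM, ?_, ?_⟩
    · refine Matrix.ext_iff_mulVec.2 fun x => ?_
      rw [← Matrix.mulVec_mulVec, ← Matrix.mulVec_mulVec]
      show (a : Mat) *ᵥ (M *ᵥ x) = M *ᵥ (toM ω cM *ᵥ x)
      rw [hM, hM, Matrix.mulVec_sum]
      simp only [Matrix.mulVec_smul, Matrix.mulVec_mulVec, ← pow_succ']
      have h5 : (a : Mat) ^ 5 *ᵥ v = v + ω • ((a : Mat) *ᵥ v) + (a : Mat) ^ 2 *ᵥ v + (a : Mat) ^ 3 *ᵥ v +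
          (ω + 1) • ((a : Mat) ^ 4 *ᵥ v) := by
        have h6 := congrArg (fun k : K => (k : Mat) *ᵥ v) hPa
        simp only [AddMemClass.coe_add, Matrix.add_mulVec, halg, hcoe, OneMemClass.coe_one,
          Matrix.one_mulVec, ZeroMemClass.coe_zero, Matrix.zero_mulVec] at h6
        funext k
        have h7 := congrFun h6 k
        simp only [Pi.add_apply, Pi.smul_apply, Pi.zero_apply, smul_eq_mul] at h7 ⊢
        linear_combination h7 - (v k + ω * ((a : Mat) *ᵥ v) k + ((a : Mat) ^ 2 *ᵥ v) k + ((a : Mat) ^ 3 *ᵥ v) k +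
          (ω + 1) * ((a : Mat) ^ 4 *ᵥ v) k) * h2
      simp only [Fin.sum_univ_five, Fin.val_zero, Fin.val_one, show ((2 : Fin 5) : ℕ) = 2 from rfl,
        show ((3 : Fin 5) : ℕ) = 3 from rfl, show ((4 : Fin 5) : ℕ) = 4 from rfl, zero_add, pow_one, pow_zero,
        Matrix.one_mulVec, h5]
      funext k
      simp [toM, toV, cM, toF, Matrix.mulVec, dotProduct, Fin.sum_univ_five]
      ring
    · intro x y
      have hs := (IsSesq.of_unitary S.herm).comp M
      show Cfsg.hermForm 5 F 2 (M *ᵥ x) (M *ᵥ y) = _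
      rw [hs.eq_gram]
      show x ⬝ᵥ _ = x ⬝ᵥ _
      congr 2
      ext i l
      show Cfsg.hermForm 5 F 2 (M *ᵥ Pi.single i 1) (M *ᵥ Pi.single l 1) = _
      have hcol : ∀ m : Fin 5, M *ᵥ Pi.single m 1 = (a : Mat) ^ (m : ℕ) *ᵥ v := fun m => by
        rw [Matrix.mulVec_single_one]; rfl
      rw [hcol, hcol]
      rcases le_total (i : ℕ) (l : ℕ) with h | h
      · obtain ⟨d, hd⟩ := Nat.le.dest h
        have hd5 : d < 5 := by have := l.2; omega
        rw [← hd, pow_add, ← Matrix.mulVec_mulVec, hisopow, hc ⟨d, hd5⟩]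
        fin_cases i <;> fin_cases l <;> simp at hd <;> interval_cases d
        all_goals first | omega | simp [toM, gMat, toV]
      · obtain ⟨d, hd⟩ := Nat.le.dest h
        have hd5 : d < 5 := by have := i.2; omega
        rw [← hd, pow_add, ← Matrix.mulVec_mulVec, hisopow, S.herm.herm, hc ⟨d, hd5⟩]
        fin_cases i <;> fin_cases l <;> simp at hd <;> interval_cases d
        all_goals first | omega | simp [toM, gMat, toV, toF_cj h2 hω hσ]
        all_goals
          have h0 := hc 0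
          simp [toV] at h0
          rw [← h0, ← S.herm.herm]
  -- first frame and its invariant row
  set e : Fin 5 → F := Pi.single 0 1
  have he : e ≠ 0 := fun h => by simpa [e] using congrFun h 0
  obtain ⟨c, hc⟩ := toV_surjective h2 hω hcard fun i : Fin 5 => Cfsg.hermForm 5 F 2 e ((a : Mat) ^ (i : ℕ) *ᵥ e)
  obtain ⟨P₁, hP₁, haP₁, hfP₁⟩ := hfr e he c fun i => (congrFun hc i).symm
  have hrec : recOK c = true := by
    have key : ∀ s : ℕ, s < 5 →
        Cfsg.hermForm 5 F 2 ((a : Mat) ^ s *ᵥ e) ((a : Mat) ^ 0 *ᵥ e) +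
        (ω + 1) * Cfsg.hermForm 5 F 2 ((a : Mat) ^ s *ᵥ e) ((a : Mat) ^ 1 *ᵥ e) +
        Cfsg.hermForm 5 F 2 ((a : Mat) ^ s *ᵥ e) ((a : Mat) ^ 2 *ᵥ e) +
        Cfsg.hermForm 5 F 2 ((a : Mat) ^ s *ᵥ e) ((a : Mat) ^ 3 *ᵥ e) +
        ω * Cfsg.hermForm 5 F 2 ((a : Mat) ^ s *ᵥ e) ((a : Mat) ^ 4 *ᵥ e) +
        Cfsg.hermForm 5 F 2 ((a : Mat) ^ s *ᵥ e) ((a : Mat) ^ 5 *ᵥ e) = 0 := by
      intro s _
      have h1 := congrArg (fun k : K => Cfsg.hermForm 5 F 2 ((a : Mat) ^ s *ᵥ e) ((k : Mat) *ᵥ e)) hPa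
      have hs1 : σ ω = ω + 1 := by rw [hσ]; linear_combination hω - (ω + 1) * h2
      have hs2 : σ (ω + 1) = ω := by rw [map_add, map_one, hs1]; linear_combination h2
      simp only [AddMemClass.coe_add, Matrix.add_mulVec, TransvMax.herm_add_right S.herm, halg,
        TransvMax.herm_smul_right S.herm, hcoe, OneMemClass.coe_one, ZeroMemClass.coe_zero, Matrix.zero_mulVec,
        TransvMax.herm_zero_right S.herm, hs1, hs2] at h1
      simp only [pow_zero, pow_one]
      exact h1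
    have hC : ∀ s d : ℕ, (hd : d < 5) →
        Cfsg.hermForm 5 F 2 ((a : Mat) ^ s *ᵥ e) ((a : Mat) ^ (s + d) *ᵥ e) = toV ω c ⟨d, hd⟩ := fun s d hd => by
      rw [pow_add, ← Matrix.mulVec_mulVec, hisopow]
      exact (congrFun hc ⟨d, hd⟩).symm
    have hC' : ∀ s d : ℕ, (hd : d < 5) →
        Cfsg.hermForm 5 F 2 ((a : Mat) ^ (s + d) *ᵥ e) ((a : Mat) ^ s *ᵥ e) = σ (toV ω c ⟨d, hd⟩) := fun s d hd => by
      rw [S.herm.herm, hC s d hd]
    have k1 := key 1 (by norm_num)
    have k2 := key 2 (by norm_num)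
    have k3 := key 3 (by norm_num)
    have k4 := key 4 (by norm_num)
    rw [hC' 0 1 (by norm_num), hC 1 0 (by norm_num), hC 1 1 (by norm_num), hC 1 2 (by norm_num), hC 1 3 (by norm_num),
      hC 1 4 (by norm_num)] at k1
    rw [hC' 0 2 (by norm_num), hC' 1 1 (by norm_num), hC 2 0 (by norm_num), hC 2 1 (by norm_num), hC 2 2 (by norm_num),
      hC 2 3 (by norm_num)] at k2
    rw [hC' 0 3 (by norm_num), hC' 1 2 (by norm_num), hC' 2 1 (by norm_num), hC 3 0 (by norm_num), hC 3 1 (by norm_num),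
      hC 3 2 (by norm_num)] at k3
    rw [hC' 0 4 (by norm_num), hC' 1 3 (by norm_num), hC' 2 2 (by norm_num), hC' 3 1 (by norm_num), hC 4 0 (by norm_num),
      hC 4 1 (by norm_num)] at k4
    have h0 : σ (toV ω c ⟨0, by norm_num⟩) = toV ω c ⟨0, by norm_num⟩ := by
      rw [← hC 0 0 (by norm_num)]; exact (S.herm.herm _ _).symm
    have hinj := toF_injective h2 hω
    simp only [recOK, Bool.and_eq_true, decide_eq_true_eq]
    simp [toV] at k1 k2 k3 k4 h0
    refine ⟨⟨⟨⟨hinj ?_, hinj ?_⟩, hinj ?_⟩, hinj ?_⟩, hinj ?_⟩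
    · rw [toF_cj h2 hω hσ]; exact h0
    all_goals
      simp only [sum5, toF_add h2, toF_mul h2 hω, toF_cj h2 hω hσ]
      rw [show toF ω .v = ω + 1 from rfl, show toF ω .w = ω from rfl]
    · linear_combination k1 - toF ω c.c4 * h2
    · linear_combination k2 - toF ω c.c3 * h2
    · linear_combination k3 - toF ω c.c2 * h2
    · linear_combination k4 - toF ω c.c1 * h2
  have hc0 : c ≠ ⟨.o, .o, .o, .o, .o⟩ := by
    intro h0
    obtain ⟨⟨x, hx⟩, -⟩ := S.herm.nondegenerate e he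
    refine hx ?_
    obtain ⟨y, rfl⟩ : ∃ y, (P₁ : Mat) *ᵥ y = x := ⟨_, TransvMax.mulVec_inv_mulVec P₁ x⟩
    have h1 : (P₁ : Mat) *ᵥ e = e := by
      rw [hP₁]
      simp [e, Fin.sum_univ_five]
      exact funext fun k => by simp [Matrix.one_apply, Pi.single_apply]
    have hz : toM ω (gMat ⟨.o, .o, .o, .o, .o⟩) = 0 := by
      ext i l; fin_cases i <;> fin_cases l <;> simp [toM, gMat, toV, toF, Q4.cj]
    conv_lhs => arg 5; rw [← h1]
    rw [hfP₁, h0, hz]
    simp [matForm]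
  -- normalise the form
  obtain ⟨co, hco⟩ : ∃ co, (c, co) ∈ fixTab := by
    have h1 := List.all_eq_true.1 chk_fix c (V5.mem_all c)
    simp [hrec, hc0] at h1
    exact h1
  have hgr : gramOf c co = g0 := by simpa using List.all_eq_true.1 chk_tab _ hco
  set v := (P₁ : Mat) *ᵥ toV ω co with hv
  have haP₁n : ∀ (n : ℕ) x, (a : Mat) ^ n *ᵥ ((P₁ : Mat) *ᵥ x) = (P₁ : Mat) *ᵥ (toM ω cM ^ n *ᵥ x) := by
    intro n
    induction n with
    | zero => intro x; simp
    | succ n ih =>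
      intro x
      rw [pow_succ', ← Matrix.mulVec_mulVec, ih, Matrix.mulVec_mulVec, haP₁, ← Matrix.mulVec_mulVec,
        pow_succ', ← Matrix.mulVec_mulVec]
  have hrow : ∀ i : Fin 5, Cfsg.hermForm 5 F 2 v ((a : Mat) ^ (i : ℕ) *ᵥ v) = toV ω g0 i := by
    intro i
    rw [hv, haP₁n, hfP₁, cpow_spec h2 hω, ← toF_form h2 hω hσ, ← hgr]
    fin_cases i <;> simp [gramOf, toV, cpow]
  have hv0 : v ≠ 0 := by
    intro h
    have h1 := hrow 2
    rw [h, Matrix.mulVec_zero, TransvMax.herm_zero_left S.herm] at h1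
    simp [toV, g0, toF] at h1
  obtain ⟨P, -, haP, hfP⟩ := hfr v hv0 g0 hrow
  -- elements built from model matrices
  have hdetsq : ∀ A : M5, (toM ω A).det ≠ 0 → ∃ g : GL (Fin 5) F, ∀ x,
      (g : Mat) *ᵥ ((P : Mat) *ᵥ x) = (P : Mat) *ᵥ (toM ω A *ᵥ x) := by
    intro A hA
    refine ⟨P * Matrix.GeneralLinearGroup.mkOfDetNeZero _ hA * P⁻¹, fun x => ?_⟩
    rw [Units.val_mul, Units.val_mul, ← Matrix.mulVec_mulVec, ← Matrix.mulVec_mulVec, TransvMax.inv_mulVec_mulVec]
    rfl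
  have hPsurj : ∀ z, ∃ x, (P : Mat) *ᵥ x = z := fun z => ⟨_, TransvMax.mulVec_inv_mulVec P z⟩
  have hGU : ∀ (A : M5) (g : GL (Fin 5) F),
      (∀ x, (g : Mat) *ᵥ ((P : Mat) *ᵥ x) = (P : Mat) *ᵥ (toM ω A *ᵥ x)) → pull A = gMat g0 → g ∈ Cfsg.GU 5 F 2 := by
    intro A g hg hA
    rw [TransvMax.mem_GU_iff]
    intro u w
    obtain ⟨x, rfl⟩ := hPsurj u
    obtain ⟨y, rfl⟩ := hPsurj w
    rw [hg, hg, hfP, hfP, ((matForm_sesq σ (toM ω (gMat g0))).comp (toM ω A)).eq_gram]
    unfold matForm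
    congr 2
    ext i l
    show matForm σ (toM ω (gMat g0)) (toM ω A *ᵥ Pi.single i 1) (toM ω A *ᵥ Pi.single l 1) = _
    rw [Matrix.mulVec_single_one, Matrix.mulVec_single_one]
    conv_rhs => rw [← hA]
    fin_cases i <;> fin_cases l <;>
      exact (toF_form h2 hω hσ g0 _ _).symm
  have hdet1 : ∀ A : M5, toM ω A * toM ω A = 1 → (toM ω A).det = 1 := by
    intro A hA
    have h1 := congrArg Matrix.det hA
    rw [Matrix.det_mul, Matrix.det_one] at h1
    have h3 : ((toM ω A).det - 1) ^ 2 = 0 := by linear_combination h1 - ((toM ω A).det - 1) * h2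
    exact sub_eq_zero.1 ((pow_eq_zero_iff two_ne_zero).1 h3)
  have hxx : toM ω xM * toM ω xM = 1 := by rw [toM_mul h2 hω, chk_xx, toM_e5]
  obtain ⟨X, hX⟩ := hdetsq xM (by rw [hdet1 _ hxx]; exact one_ne_zero)
  have hphi5 : toM ω phiM * (toM ω phiM * (toM ω phiM * (toM ω phiM * toM ω phiM))) = 1 := by
    simp only [toM_mul h2 hω, chk_phi_pow, toM_e5]
  obtain ⟨Φ, hΦ⟩ := hdetsq phiM (fun h => by
    have h1 := congrArg Matrix.det hphi5
    simp only [Matrix.det_mul, h, zero_mul, Matrix.det_one] at h1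
    exact zero_ne_one h1)
  let aG : GL (Fin 5) F := ⟨(a : Mat), (a : Mat) ^ 10,
    by rw [← pow_succ', ← hcoe, ha11]; rfl, by rw [← pow_succ, ← hcoe, ha11]; rfl⟩
  have haPn : ∀ (n : ℕ) x, ((aG ^ n : GL (Fin 5) F) : Mat) *ᵥ ((P : Mat) *ᵥ x) = (P : Mat) *ᵥ (toM ω cM ^ n *ᵥ x) := by
    intro n
    induction n with
    | zero => intro x; simp
    | succ n ih =>
      intro x
      rw [pow_succ', Units.val_mul, ← Matrix.mulVec_mulVec, ih, Matrix.mulVec_mulVec]
      show ((a : Mat) * (P : Mat)) *ᵥ _ = _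
      rw [haP, ← Matrix.mulVec_mulVec, pow_succ', ← Matrix.mulVec_mulVec]
  -- the set of points
  set T : Set (Fin 5 → F) := {z | ∃ s ∈ pts, ∃ t : F, z = t • ((P : Mat) *ᵥ toV ω s)} with hT
  have hmap : ∀ g : GL (Fin 5) F, (∀ s ∈ pts, (g : Mat) *ᵥ ((P : Mat) *ᵥ toV ω s) ∈ T) →
      g ∈ Cfsg.stabilizing (Cfsg.glToMat (Fin 5) F) T := by
    intro g hg
    have hsub : ∀ z ∈ T, (g : Mat) *ᵥ z ∈ T := by
      rintro _ ⟨s, hs, t, rfl⟩
      obtain ⟨s', hs', t', h'⟩ := hg s hs
      exact ⟨s', hs', t * t', by rw [Matrix.mulVec_smul, h', smul_smul]⟩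
    let f : T → T := fun z => ⟨(g : Mat) *ᵥ z.1, hsub _ z.2⟩
    have hf : Function.Surjective f := Finite.surjective_of_injective fun y z h => Subtype.ext (by
      have h1 := congrArg (((g⁻¹ : GL (Fin 5) F) : Mat) *ᵥ ·) (congrArg Subtype.val h)
      simpa only [f, TransvMax.inv_mulVec_mulVec] using h1)
    intro z
    refine ⟨hsub z, fun hz => ?_⟩
    obtain ⟨⟨y, hy⟩, hy'⟩ := hf ⟨(g : Mat) *ᵥ z, hz⟩
    have h1 := congrArg (((g⁻¹ : GL (Fin 5) F) : Mat) *ᵥ ·) (congrArg Subtype.val hy')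
    simp only [f, TransvMax.inv_mulVec_mulVec] at h1
    rwa [h1] at hy
  have hTin : ∀ x : V5, inPts x = true → (P : Mat) *ᵥ toV ω x ∈ T := by
    intro x hx
    obtain ⟨s, hs, t, ht⟩ := pts_scaled h2 hω hx
    exact ⟨s, hs, t, by rw [ht, Matrix.mulVec_smul]⟩
  have hchk : ∀ A : M5, (pts.all fun s => inPts (mv A s)) = true → ∀ g : GL (Fin 5) F,
      (∀ x, (g : Mat) *ᵥ ((P : Mat) *ᵥ x) = (P : Mat) *ᵥ (toM ω A *ᵥ x)) →
      g ∈ Cfsg.stabilizing (Cfsg.glToMat (Fin 5) F) T := by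
    intro A hA g hg
    refine hmap g fun s hs => ?_
    rw [hg, toM_mulVec h2 hω]
    exact hTin _ (List.all_eq_true.1 hA s hs)
  set M0 := Cfsg.stabilizing (Cfsg.glToMat (Fin 5) F) T ⊓ suGL 5 F 2 with hM0
  have hΦT := hchk phiM chk_phi Φ hΦ
  have hΦU := hGU phiM Φ hΦ chk_phi_unit
  have hΦa : Φ * aG = aG ^ 4 * Φ := TransvMax.gl_ext fun z => by
    obtain ⟨x, rfl⟩ := hPsurj z
    rw [Units.val_mul, Units.val_mul, ← Matrix.mulVec_mulVec, ← Matrix.mulVec_mulVec, hΦ, haPn]
    have h1 := haPn 1 x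
    rw [pow_one, pow_one] at h1
    rw [h1, hΦ]
    congr 1
    rw [Matrix.mulVec_mulVec, Matrix.mulVec_mulVec]
    congr 1
    rw [pow_succ', pow_succ', pow_succ', pow_one]
    simp only [toM_mul h2 hω, chk_phi_cM]
  have hHM : H ≤ M0 := by
    intro g hg
    have hg' := hg
    rw [heq] at hg'
    refine ⟨?_, hg'.2⟩
    -- conjugate of the generator
    obtain ⟨j, hj, hjg⟩ := hroots ⟨_, (hg'.1 (a : Mat)).1 a.2⟩ (Subtype.ext (by
      show ((g : Mat) * (a : Mat) * ((g⁻¹ : GL (Fin 5) F) : Mat)) ^ 11 = 1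
      have h1 : ((g * aG * g⁻¹) ^ 11 : GL (Fin 5) F) = 1 := by
        rw [conj_pow, show aG ^ 11 = 1 from Units.ext (by
          rw [Units.val_pow_eq_pow_val]; show (a : Mat) ^ 11 = 1; rw [← hcoe, ha11]; rfl)]
        group
      have h2' := congrArg Units.val h1
      rw [Units.val_pow_eq_pow_val, Units.val_mul, Units.val_mul] at h2'
      exact h2'))
    have hga : g * aG = aG ^ j * g := by
      have h1 : g * aG * g⁻¹ = aG ^ j := Units.ext (by
        rw [Units.val_mul, Units.val_mul, Units.val_pow_eq_pow_val]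
        show (g : Mat) * (a : Mat) * _ = (a : Mat) ^ j
        rw [← hcoe, hjg])
      rw [← h1]; group
    have hgan : ∀ i : ℕ, g * aG ^ i = aG ^ (i * j) * g := by
      intro i
      induction i with
      | zero => simp
      | succ i ih => rw [pow_succ, ← mul_assoc, ih, mul_assoc, hga, ← mul_assoc, ← pow_add, Nat.succ_mul]
    -- the exponent is a power of four
    have hPg : ∀ x : Fin 5 → F, (aG : Mat) ^ (0 * j) *ᵥ x + ω • ((aG : Mat) ^ (1 * j) *ᵥ x) +
        (aG : Mat) ^ (2 * j) *ᵥ x + (aG : Mat) ^ (3 * j) *ᵥ x + (ω + 1) • ((aG : Mat) ^ (4 * j) *ᵥ x) +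
        (aG : Mat) ^ (5 * j) *ᵥ x = 0 := by
      intro x
      obtain ⟨y, rfl⟩ : ∃ y, (g : Mat) *ᵥ y = x := ⟨_, TransvMax.mulVec_inv_mulVec g x⟩
      have hconv : ∀ i, (aG : Mat) ^ (i * j) *ᵥ ((g : Mat) *ᵥ y) = (g : Mat) *ᵥ ((a : Mat) ^ i *ᵥ y) := fun i => by
        rw [← Units.val_pow_eq_pow_val, Matrix.mulVec_mulVec, ← Units.val_mul, ← hgan, Units.val_mul,
          ← Matrix.mulVec_mulVec, Units.val_pow_eq_pow_val]
      rw [hconv, hconv, hconv, hconv, hconv, hconv]
      have h6 := congrArg (fun k : K => (g : Mat) *ᵥ ((k : Mat) *ᵥ y)) hPa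
      simp only [AddMemClass.coe_add, Matrix.add_mulVec, halg, hcoe, OneMemClass.coe_one,
        Matrix.one_mulVec, ZeroMemClass.coe_zero, Matrix.zero_mulVec, Matrix.mulVec_add, Matrix.mulVec_smul,
        Matrix.mulVec_zero] at h6
      simp only [pow_zero, Matrix.one_mulVec, pow_one]
      exact h6
    have hexp : chkExp j = ⟨.o, .o, .o, .o, .o⟩ := by
      refine toV_injective h2 hω ?_
      have h1 := hPg ((P : Mat) *ᵥ toV ω ⟨.u, .o, .o, .o, .o⟩)
      simp only [← Units.val_pow_eq_pow_val, haPn, cpow_spec h2 hω, ← Matrix.mulVec_smul, ← Matrix.mulVec_add] at h1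
      have h3 := congrArg (((P⁻¹ : GL (Fin 5) F) : Mat) *ᵥ ·) h1
      simp only [TransvMax.inv_mulVec_mulVec, Matrix.mulVec_zero] at h3
      have hadd : ∀ x y : V5, toV ω (add5 x y) = toV ω x + toV ω y :=
        fun x y => by funext i; fin_cases i <;> simp [add5, toV, toF_add h2]
      simp only [chkExp, hadd, toV_smul5 h2 hω]
      rw [show toV ω ⟨.o, .o, .o, .o, .o⟩ = 0 by funext i; fin_cases i <;> simp [toV, toF], ← h3]
      simp [toF]
    have hjl : j ∈ [1, 3, 4, 5, 9] := by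
      have h1 := List.all_eq_true.1 chk_exp j (List.mem_range.2 hj)
      simp [hexp] at h1
      simpa using h1
    have hΦn : ∀ i : ℕ, Φ ^ i * aG = aG ^ 4 ^ i * Φ ^ i := by
      have hΦm : ∀ m : ℕ, Φ * aG ^ m = aG ^ (4 * m) * Φ := by
        intro m
        induction m with
        | zero => simp
        | succ m ih => rw [pow_succ, ← mul_assoc, ih, mul_assoc, hΦa, ← mul_assoc, ← pow_add]; rfl
      intro i
      induction i with
      | zero => simp
      | succ i ih => rw [pow_succ', mul_assoc, ih, ← mul_assoc, hΦm, mul_assoc, pow_succ' 4]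
    obtain ⟨i, hi⟩ : ∃ i, aG ^ 4 ^ i = aG ^ j := by
      have h11 : ∀ m : ℕ, aG ^ m = aG ^ (m % 11) := fun m => pow_eq_pow_mod m (Units.ext (by
        rw [Units.val_pow_eq_pow_val]; show (a : Mat) ^ 11 = 1; rw [← hcoe, ha11]; rfl))
      simp at hjl
      rcases hjl with rfl | rfl | rfl | rfl | rfl
      · exact ⟨0, rfl⟩
      · exact ⟨4, by rw [h11]; rfl⟩
      · exact ⟨1, rfl⟩
      · exact ⟨2, by rw [h11]; rfl⟩
      · exact ⟨3, by rw [h11]; rfl⟩
    set k := (Φ ^ i)⁻¹ * g with hk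
    have hka : k * aG = aG * k := by
      rw [hk, mul_assoc, hga, ← hi]
      calc (Φ ^ i)⁻¹ * (aG ^ 4 ^ i * g) = (Φ ^ i)⁻¹ * (aG ^ 4 ^ i * Φ ^ i) * ((Φ ^ i)⁻¹ * g) := by group
        _ = aG * ((Φ ^ i)⁻¹ * g) := by rw [← hΦn]; group
    have hkU : k ∈ Cfsg.GU 5 F 2 := mul_mem (inv_mem (pow_mem hΦU i)) hg'.2.1
    rw [show g = Φ ^ i * k by rw [hk]; group]
    refine mul_mem (pow_mem hΦT i) ?_
    -- an isometry commuting with the generator
    obtain ⟨y, hy⟩ := hPsurj ((k : Mat) *ᵥ ((P : Mat) *ᵥ toV ω e5.d0))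
    obtain ⟨co', rfl⟩ := toV_surjective h2 hω hcard y
    have hkn : ∀ n : ℕ, (k : Mat) *ᵥ ((P : Mat) *ᵥ toV ω (cpow n e5.d0)) = (P : Mat) *ᵥ toV ω (cpow n co') := by
      intro n
      rw [← cpow_spec h2 hω, ← cpow_spec h2 hω, ← haPn, ← haPn, hy, Matrix.mulVec_mulVec, Matrix.mulVec_mulVec,
        ← Units.val_mul, ← Units.val_mul, (Commute.pow_right (show Commute k aG from hka) n).eq]
      rw [Units.val_mul, Units.val_mul, ← Matrix.mulVec_mulVec, ← Matrix.mulVec_mulVec]
    obtain ⟨b0, b1, b2, b3, b4⟩ := toV_basis (ω := ω)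
    have hkA : ∀ x, (k : Mat) *ᵥ ((P : Mat) *ᵥ x) = (P : Mat) *ᵥ (toM ω (polyM co') *ᵥ x) := by
      intro x
      rw [Matrix.mulVec_mulVec, Matrix.mulVec_mulVec]
      congr 1
      refine Matrix.ext fun r l => ?_
      have hcol : (k : Mat) *ᵥ ((P : Mat) *ᵥ Pi.single l 1) = (P : Mat) *ᵥ (toM ω (polyM co') *ᵥ Pi.single l 1) := by
        rw [Matrix.mulVec_single_one (toM ω (polyM co'))]
        fin_cases l
        · rw [show (Pi.single (⟨0, by norm_num⟩ : Fin 5) (1 : F)) = toV ω (cpow 0 e5.d0) from b0.symm]; exact hkn 0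
        · rw [show (Pi.single (⟨1, by norm_num⟩ : Fin 5) (1 : F)) = toV ω (cpow 1 e5.d0) from b1.symm]; exact hkn 1
        · rw [show (Pi.single (⟨2, by norm_num⟩ : Fin 5) (1 : F)) = toV ω (cpow 2 e5.d0) from b2.symm]; exact hkn 2
        · rw [show (Pi.single (⟨3, by norm_num⟩ : Fin 5) (1 : F)) = toV ω (cpow 3 e5.d0) from b3.symm]; exact hkn 3
        · rw [show (Pi.single (⟨4, by norm_num⟩ : Fin 5) (1 : F)) = toV ω (cpow 4 e5.d0) from b4.symm]; exact hkn 4
      rw [Matrix.mulVec_mulVec, Matrix.mulVec_mulVec, Matrix.mulVec_single_one, Matrix.mulVec_single_one] at hcol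
      exact congrFun hcol r
    have hg0 : gramOf g0 co' = g0 := by
      have hform : ∀ n : ℕ, toF ω (form g0 co' (cpow n co')) = toF ω (form g0 e5.d0 (cpow n e5.d0)) := by
        intro n
        rw [toF_form h2 hω hσ, toF_form h2 hω hσ, ← hfP, ← hfP, hy, ← hkn,
          TransvMax.mem_GU_iff.1 hkU]
      have hinj := toF_injective h2 hω
      have h0 : gramOf g0 e5.d0 = g0 := by decide +kernel
      conv_rhs => rw [← h0]
      simp only [gramOf, V5.mk.injEq]
      exact ⟨hinj (hform 0), hinj (hform 1), hinj (hform 2), hinj (hform 3), hinj (hform 4)⟩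
    have hmem : co' ∈ unitList := by
      have h1 := List.all_eq_true.1 chk_unit co' (V5.mem_all co')
      simp [hg0] at h1
      simpa using h1
    exact hchk (polyM co') (List.all_eq_true.1 chk_poly co' hmem) k hkA
  have hXT := hchk xM chk_x X hX
  have hXS : X ∈ suGL 5 F 2 := by
    refine ⟨hGU xM X hX chk_x_unit, MonoidHom.mem_ker.2 (Units.ext ?_)⟩
    rw [Matrix.GeneralLinearGroup.val_det_apply, Units.val_one]
    have h1 : (X : Mat) = (P : Mat) * toM ω xM * ((P⁻¹ : GL (Fin 5) F) : Mat) := Matrix.ext_iff_mulVec.2 fun z => by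
      rw [← Matrix.mulVec_mulVec, ← Matrix.mulVec_mulVec, ← hX, TransvMax.mulVec_inv_mulVec]
    rw [h1, Matrix.det_units_conj, hdet1 _ hxx]
  rcases hH.2 M0 hHM inf_le_right with h | h
  · have hXH : X ∈ H := h ▸ ⟨hXT, hXS⟩
    rw [heq] at hXH
    have hcomm := hK.comm _ ((hXH.1 (a : Mat)).1 a.2) _ a.2
    refine chk_x_moves ?_
    have h1 : ∀ x, toM ω xM *ᵥ (toM ω cM *ᵥ (toM ω xM *ᵥ (toM ω cM *ᵥ x))) =
        toM ω cM *ᵥ (toM ω xM *ᵥ (toM ω cM *ᵥ (toM ω xM *ᵥ x))) := by
      intro x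
      have hXi : ((X⁻¹ : GL (Fin 5) F) : Mat) = (X : Mat) := by
        have : X * X = 1 := TransvMax.gl_ext fun z => by
          obtain ⟨y, rfl⟩ := hPsurj z
          rw [Units.val_mul, ← Matrix.mulVec_mulVec, hX, hX, Matrix.mulVec_mulVec _ (toM ω xM), hxx]
          simp
        rw [inv_eq_of_mul_eq_one_right this]
      have hap : ∀ y, (a : Mat) *ᵥ ((P : Mat) *ᵥ y) = (P : Mat) *ᵥ (toM ω cM *ᵥ y) := fun y => by
        rw [Matrix.mulVec_mulVec, haP, ← Matrix.mulVec_mulVec]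
      have h3 := congrArg (fun M : Mat => M *ᵥ ((P : Mat) *ᵥ x)) hcomm
      simp only [hXi, ← Matrix.mulVec_mulVec, hap, hX] at h3
      have h4 := congrArg (((P⁻¹ : GL (Fin 5) F) : Mat) *ᵥ ·) h3
      simpa only [TransvMax.inv_mulVec_mulVec] using h4
    have hinjM : ∀ A B : M5, toM ω A = toM ω B → A = B := by
      intro A B hAB
      have hcol : ∀ (A : M5), (fun i => toM ω A i 0) = toV ω A.d0 ∧ (fun i => toM ω A i 1) = toV ω A.d1 ∧
          (fun i => toM ω A i 2) = toV ω A.d2 ∧ (fun i => toM ω A i 3) = toV ω A.d3 ∧ (fun i => toM ω A i 4) = toV ω A.d4 :=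
        fun A => ⟨rfl, rfl, rfl, rfl, rfl⟩
      obtain ⟨r0, r1, r2, r3, r4⟩ := hcol A
      obtain ⟨s0, s1, s2, s3, s4⟩ := hcol B
      rw [hAB] at r0 r1 r2 r3 r4
      have hinj := toV_injective h2 hω
      cases A; cases B
      simp only [M5.mk.injEq]
      exact ⟨hinj (r0.symm.trans s0), hinj (r1.symm.trans s1), hinj (r2.symm.trans s2), hinj (r3.symm.trans s3),
        hinj (r4.symm.trans s4)⟩
    refine hinjM _ _ (Matrix.ext_iff_mulVec.2 fun x => ?_)
    simp only [← toM_mul h2 hω, ← Matrix.mulVec_mulVec]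
    exact h1 x
  · -- a transvection moves the set
    obtain ⟨hu, hmv, hs⟩ := chk_move
    set u := (P : Mat) *ᵥ toV ω uV with hudef
    have hu' : Cfsg.hermForm 5 F 2 u u = 0 := by rw [hudef, hfP, ← toF_form h2 hω hσ, hu]; rfl
    have ht : TransvMax.utrv S.herm hu' 1 ∈ M0 := h.ge (TransvMax.utrv_mem_guSL S.herm hu' (by
      rw [map_one]; linear_combination h2))
    have hin : (P : Mat) *ᵥ toV ω sV ∈ T := ⟨sV, by simpa using hs, 1, (one_smul _ _).symm⟩
    have h1 := (ht.1 _).1 hin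
    rw [show Cfsg.glToMat (Fin 5) F (TransvMax.utrv S.herm hu' 1) *ᵥ ((P : Mat) *ᵥ toV ω sV) =
      (P : Mat) *ᵥ toV ω sV + (1 * Cfsg.hermForm 5 F 2 ((P : Mat) *ᵥ toV ω sV) u) • u from
      TransvMax.utrv_mulVec S.herm hu' 1 _, one_mul, hudef, hfP, ← toF_form h2 hω hσ, ← Matrix.mulVec_smul,
      ← Matrix.mulVec_add] at h1
    set z : V5 := ⟨sV.c0.add ((form g0 sV uV).mul uV.c0), sV.c1.add ((form g0 sV uV).mul uV.c1),
      sV.c2.add ((form g0 sV uV).mul uV.c2), sV.c3.add ((form g0 sV uV).mul uV.c3),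
      sV.c4.add ((form g0 sV uV).mul uV.c4)⟩ with hz
    have hzv : toV ω sV + toF ω (form g0 sV uV) • toV ω uV = toV ω z := by
      funext i
      fin_cases i <;> simp [toV, hz, toF_add h2, toF_mul h2 hω]
    rw [hzv] at h1
    obtain ⟨s, hs', t, ht'⟩ := h1
    have h3 := congrArg (((P⁻¹ : GL (Fin 5) F) : Mat) *ᵥ ·) ht'
    simp only [Matrix.mulVec_smul, TransvMax.inv_mulVec_mulVec] at h3
    obtain ⟨q, rfl⟩ := toF_surjective h2 hω hcard t
    rw [← toV_smul5 h2 hω] at h3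
    have hzs : z = smul5 q s := toV_injective h2 hω h3
    have hall : (pts.all fun s => Q4.all.all fun q => decide (smul5 q s = ⟨.o, .o, .o, .o, .o⟩) || inPts (smul5 q s)) = true := by
      decide +kernel
    have h5 := List.all_eq_true.1 (List.all_eq_true.1 hall s hs') q q.mem_all
    rw [← hzs, Bool.or_eq_true, decide_eq_true_eq] at h5
    rcases h5 with h5 | h5
    · exact absurd h5 (by decide +kernel)
    · rw [h5] at hmv; exact Bool.noConfusion hmv

end Cfsg.Agent.PrimeDim
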