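/-!
Tables for a subgroup of order 660 of the unitary group of dimension five over the field of four elements.
-/

set_option autoImplicit false

namespace Cfsg.Agent.PrimeDim.UFiveTwo

/-- The field with four elements. -/
inductive Q4 where
  | o | u | w | v
  deriving DecidableEq

/-- Addition. -/
def Q4.add : Q4 → Q4 → Q4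
  | .o, b => b
  | a, .o => a
  | .u, .u => .o
  | .u, .w => .v
  | .u, .v => .w
  | .w, .u => .v
  | .w, .w => .o
  | .w, .v => .u
  | .v, .u => .w
  | .v, .w => .u
  | .v, .v => .o

/-- Multiplication. -/
def Q4.mul : Q4 → Q4 → Q4
  | .o, _ => .o
  | _, .o => .o
  | .u, b => b
  | a, .u => a
  | .w, .w => .v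
  | .w, .v => .u
  | .v, .w => .u
  | .v, .v => .w

/-- Conjugation. -/
def Q4.cj : Q4 → Q4
  | .w => .v
  | .v => .w
  | a => a

/-- Vectors of length five. -/
structure V5 where
  c0 : Q4
  c1 : Q4
  c2 : Q4
  c3 : Q4
  c4 : Q4
  deriving DecidableEq

/-- Matrices, by columns. -/
structure M5 where
  d0 : V5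
  d1 : V5
  d2 : V5
  d3 : V5
  d4 : V5
  deriving DecidableEq

/-- The companion matrix. -/
def cM : M5 := ⟨⟨.o,.u,.o,.o,.o⟩, ⟨.o,.o,.u,.o,.o⟩, ⟨.o,.o,.o,.u,.o⟩, ⟨.o,.o,.o,.o,.u⟩, ⟨.u,.w,.u,.u,.v⟩⟩

/-- The field automorphism. -/
def phiM : M5 := ⟨⟨.o,.v,.o,.o,.w⟩, ⟨.v,.o,.o,.w,.u⟩, ⟨.u,.o,.v,.o,.u⟩, ⟨.w,.v,.u,.w,.u⟩, ⟨.u,.u,.u,.u,.u⟩⟩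

/-- An additional involution. -/
def xM : M5 := ⟨⟨.o,.u,.u,.o,.o⟩, ⟨.o,.u,.o,.o,.o⟩, ⟨.u,.u,.o,.o,.o⟩, ⟨.v,.w,.v,.u,.o⟩, ⟨.v,.u,.v,.o,.u⟩⟩

/-- The first row of the standard form. -/
def g0 : V5 := ⟨.o,.o,.u,.v,.o⟩

/-- An isotropic vector. -/
def uV : V5 := ⟨.o,.o,.o,.o,.u⟩

/-- A point moved by the transvection. -/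
def sV : V5 := ⟨.o,.o,.u,.o,.u⟩

/-- Normalising multipliers. -/
def fixTab : List (V5 × V5) :=
  [(⟨.o,.o,.u,.v,.o⟩, ⟨.o,.o,.o,.o,.u⟩),
   (⟨.o,.o,.w,.o,.w⟩, ⟨.o,.o,.u,.o,.w⟩),
   (⟨.o,.o,.v,.v,.w⟩, ⟨.o,.u,.o,.u,.u⟩),
   (⟨.o,.u,.o,.w,.v⟩, ⟨.o,.o,.u,.o,.v⟩),
   (⟨.o,.u,.u,.u,.v⟩, ⟨.o,.u,.o,.w,.u⟩),
   (⟨.o,.u,.w,.w,.u⟩, ⟨.o,.u,.o,.v,.w⟩),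
   (⟨.o,.u,.v,.u,.u⟩, ⟨.o,.o,.u,.w,.v⟩),
   (⟨.o,.w,.o,.o,.u⟩, ⟨.o,.o,.u,.u,.v⟩),
   (⟨.o,.w,.u,.v,.u⟩, ⟨.o,.o,.u,.o,.u⟩),
   (⟨.o,.w,.w,.o,.v⟩, ⟨.o,.u,.o,.o,.u⟩),
   (⟨.o,.w,.v,.v,.v⟩, ⟨.o,.o,.u,.u,.w⟩),
   (⟨.o,.v,.o,.w,.w⟩, ⟨.o,.o,.o,.u,.v⟩),
   (⟨.o,.v,.u,.u,.w⟩, ⟨.o,.u,.o,.u,.w⟩),
   (⟨.o,.v,.w,.w,.o⟩, ⟨.u,.o,.o,.w,.u⟩),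
   (⟨.o,.v,.v,.u,.o⟩, ⟨.o,.u,.u,.u,.v⟩),
   (⟨.u,.o,.o,.u,.u⟩, ⟨.o,.u,.o,.u,.v⟩),
   (⟨.u,.o,.u,.w,.u⟩, ⟨.o,.u,.u,.w,.w⟩),
   (⟨.u,.o,.w,.u,.v⟩, ⟨.o,.u,.v,.w,.u⟩),
   (⟨.u,.o,.v,.w,.v⟩, ⟨.o,.o,.o,.u,.w⟩),
   (⟨.u,.u,.o,.v,.w⟩, ⟨.o,.u,.u,.w,.v⟩),
   (⟨.u,.u,.u,.o,.w⟩, ⟨.o,.o,.o,.u,.u⟩),
   (⟨.u,.u,.w,.v,.o⟩, ⟨.o,.o,.u,.w,.u⟩),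
   (⟨.u,.u,.v,.o,.o⟩, ⟨.o,.u,.u,.u,.u⟩),
   (⟨.u,.w,.o,.u,.o⟩, ⟨.o,.u,.u,.w,.u⟩),
   (⟨.u,.w,.u,.w,.o⟩, ⟨.o,.u,.o,.v,.v⟩),
   (⟨.u,.w,.w,.u,.w⟩, ⟨.o,.o,.u,.u,.u⟩),
   (⟨.u,.w,.v,.w,.w⟩, ⟨.o,.u,.w,.w,.v⟩),
   (⟨.u,.v,.o,.v,.v⟩, ⟨.o,.u,.u,.u,.w⟩),
   (⟨.u,.v,.u,.o,.v⟩, ⟨.o,.o,.u,.v,.w⟩),
   (⟨.u,.v,.w,.v,.u⟩, ⟨.o,.u,.o,.o,.v⟩),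
   (⟨.u,.v,.v,.o,.u⟩, ⟨.o,.u,.u,.v,.w⟩)]

/-- The unitary elements of the field. -/
def unitList : List V5 :=
  [⟨.o,.o,.o,.o,.u⟩,
   ⟨.o,.o,.o,.o,.w⟩,
   ⟨.o,.o,.o,.o,.v⟩,
   ⟨.o,.o,.o,.u,.o⟩,
   ⟨.o,.o,.o,.w,.o⟩,
   ⟨.o,.o,.o,.v,.o⟩,
   ⟨.o,.o,.u,.o,.o⟩,
   ⟨.o,.o,.w,.o,.o⟩,
   ⟨.o,.o,.v,.o,.o⟩,
   ⟨.o,.u,.o,.o,.o⟩,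
   ⟨.o,.u,.v,.u,.v⟩,
   ⟨.o,.w,.o,.o,.o⟩,
   ⟨.o,.w,.u,.w,.u⟩,
   ⟨.o,.v,.o,.o,.o⟩,
   ⟨.o,.v,.w,.v,.w⟩,
   ⟨.u,.o,.o,.o,.o⟩,
   ⟨.u,.o,.w,.v,.u⟩,
   ⟨.u,.w,.u,.u,.v⟩,
   ⟨.u,.w,.v,.o,.u⟩,
   ⟨.u,.v,.u,.v,.o⟩,
   ⟨.u,.v,.v,.w,.v⟩,
   ⟨.w,.o,.o,.o,.o⟩,
   ⟨.w,.o,.v,.u,.w⟩,
   ⟨.w,.u,.u,.v,.u⟩,
   ⟨.w,.u,.w,.u,.o⟩,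
   ⟨.w,.v,.u,.o,.w⟩,
   ⟨.w,.v,.w,.w,.u⟩,
   ⟨.v,.o,.o,.o,.o⟩,
   ⟨.v,.o,.u,.w,.v⟩,
   ⟨.v,.u,.w,.o,.v⟩,
   ⟨.v,.u,.v,.v,.w⟩,
   ⟨.v,.w,.w,.u,.w⟩,
   ⟨.v,.w,.v,.w,.o⟩]

/-- The points. -/
def pts : List V5 :=
  [⟨.o,.o,.o,.u,.w⟩,
   ⟨.o,.o,.u,.o,.u⟩,
   ⟨.o,.o,.u,.w,.o⟩,
   ⟨.o,.o,.u,.w,.u⟩,
   ⟨.o,.o,.u,.v,.u⟩,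
   ⟨.o,.u,.o,.u,.o⟩,
   ⟨.o,.u,.o,.u,.v⟩,
   ⟨.o,.u,.u,.u,.w⟩,
   ⟨.o,.u,.u,.v,.u⟩,
   ⟨.o,.u,.w,.o,.o⟩,
   ⟨.o,.u,.w,.u,.o⟩,
   ⟨.o,.u,.w,.u,.u⟩,
   ⟨.o,.u,.w,.w,.w⟩,
   ⟨.o,.u,.v,.o,.v⟩,
   ⟨.o,.u,.v,.u,.o⟩,
   ⟨.u,.o,.o,.o,.v⟩,
   ⟨.u,.o,.o,.v,.v⟩,
   ⟨.u,.o,.u,.o,.o⟩,
   ⟨.u,.o,.u,.o,.u⟩,
   ⟨.u,.o,.u,.u,.w⟩,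
   ⟨.u,.o,.u,.u,.v⟩,
   ⟨.u,.o,.u,.w,.w⟩,
   ⟨.u,.o,.u,.w,.v⟩,
   ⟨.u,.o,.u,.v,.o⟩,
   ⟨.u,.o,.u,.v,.u⟩,
   ⟨.u,.o,.w,.o,.v⟩,
   ⟨.u,.o,.w,.v,.v⟩,
   ⟨.u,.o,.v,.u,.v⟩,
   ⟨.u,.o,.v,.w,.v⟩,
   ⟨.u,.u,.o,.o,.v⟩,
   ⟨.u,.u,.o,.u,.u⟩,
   ⟨.u,.u,.u,.w,.o⟩,
   ⟨.u,.u,.u,.w,.w⟩,
   ⟨.u,.u,.w,.o,.w⟩,
   ⟨.u,.u,.w,.o,.v⟩,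
   ⟨.u,.u,.w,.w,.w⟩,
   ⟨.u,.u,.w,.v,.u⟩,
   ⟨.u,.u,.v,.u,.o⟩,
   ⟨.u,.u,.v,.v,.w⟩,
   ⟨.u,.w,.o,.o,.o⟩,
   ⟨.u,.w,.o,.v,.w⟩,
   ⟨.u,.w,.u,.o,.o⟩,
   ⟨.u,.w,.u,.o,.u⟩,
   ⟨.u,.w,.u,.o,.v⟩,
   ⟨.u,.w,.u,.u,.o⟩,
   ⟨.u,.w,.w,.o,.w⟩,
   ⟨.u,.w,.w,.w,.o⟩,
   ⟨.u,.w,.v,.o,.v⟩,
   ⟨.u,.w,.v,.u,.u⟩,
   ⟨.u,.v,.o,.u,.w⟩,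
   ⟨.u,.v,.o,.v,.o⟩,
   ⟨.u,.v,.u,.o,.o⟩,
   ⟨.u,.v,.u,.o,.v⟩,
   ⟨.u,.v,.v,.o,.v⟩,
   ⟨.u,.v,.v,.w,.w⟩]

end Cfsg.Agent.PrimeDim.UFiveTwo
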