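import Cfsg.Agent.Lib.PrimeDim.Abelian
import Cfsg.Agent.Lib.PrimeDim.Core
import Cfsg.Agent.Lib.PrimeDim.Main
import Cfsg.Agent.Lib.PrimeDim.UnitaryRational
import Cfsg.Agent.Lib.TransvMax.UnitaryTools

/-!
Maximal subgroups of the special unitary group of prime dimension at least five: geometric or residual.
-/

set_option autoImplicit false

namespace Cfsg.Agent.PrimeDim

open scoped Matrix MatrixGroups commutatorElement
open Module
open Cfsg.Agent

variable {r q : ℕ} {F : Type*} [Field F] [Fintype F]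

local notation "V" => Fin r → F

local notation "Mat" => Matrix (Fin r) (Fin r) F

theorem eq_inf_of_le_su {H M : Subgroup (GL (Fin r) F)} (hH : Cfsg.Geo.IsMaximalIn (suGL r F q) H) (hle : H ≤ M)
    (hne : ¬ suGL r F q ≤ M) : H = M ⊓ suGL r F q := by
  rcases hH.2 (M ⊓ suGL r F q) (le_inf hle hH.1.le) inf_le_right with h | h
  · exact h.symm
  · exact absurd (inf_eq_right.1 h) hne

/-- The symplectic-type alternative. -/
structure USympOption (H : Subgroup (GL (Fin r) F)) (q p k : ℕ) : Prop where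
  prime : p.Prime
  char : CharP F p
  hq : q = p ^ k
  pos : 0 < k
  dvd : r ∣ p ^ (2 * k) - 1
  minimal : ∀ d : ℕ, 0 < d → d < 2 * k → ¬ r ∣ p ^ d - 1
  data : ∃ R : Subgroup (GL (Fin r) F), Cfsg.Geo.IsSymplecticTypeGroup r R ∧
    Cfsg.Geo.ActsAbsolutelyIrreducibly (Cfsg.Geo.matrixSet R) ∧ R ≤ Cfsg.GU r F q ∧ Nat.card R = r ^ 3 ∧
    Nat.card (Subgroup.center R) = r ∧ H = Cfsg.Geo.subgroupNormalizer R ⊓ suGL r F q

/-- The list for the special unitary group in prime dimension. -/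
def UPrimeCases (H : Subgroup (GL (Fin r) F)) (q : ℕ) : Prop :=
  (∃ W : Submodule F V, W ≠ ⊥ ∧ Cfsg.Geo.IsTotallySingularFor (Cfsg.hermForm r F q) W ∧
    H = Cfsg.Geo.subspaceStabilizer W ⊓ suGL r F q) ∨
  (∃ W : Submodule F V, W ≠ ⊥ ∧ Cfsg.Geo.IsNondegenerateOn (Cfsg.hermForm r F q) W ∧ 2 * finrank F W < r ∧
    H = Cfsg.Geo.subspaceStabilizer W ⊓ suGL r F q) ∨
  (∃ D : Fin r → Submodule F V, Cfsg.Geo.IsNondegenerateMDecomposition (Cfsg.hermForm r F q) 1 D ∧
    H = Cfsg.Geo.decompositionStabilizer D ⊓ suGL r F q) ∨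
  (∃ K : Subalgebra F Mat, Cfsg.Geo.IsFieldSubalgebra r K ∧ Cfsg.Geo.IsAdjointClosedFor (Cfsg.hermForm r F q) K ∧
    H = Cfsg.Geo.subalgebraNormalizer K ⊓ suGL r F q) ∨
  (∃ (F₀ : Subfield F) (l : ℕ) (P : GL (Fin r) F), l.Prime ∧ Odd l ∧ Fintype.card F = Nat.card F₀ ^ l ∧
    Cfsg.Geo.IsFormRationalStructure (Cfsg.hermForm r F q) F₀ 1 P ∧
    H = Cfsg.Geo.subfieldSubgroup F₀ P ⊓ suGL r F q) ∨
  (Odd q ∧ ∃ (F₀ : Subfield F) (P : GL (Fin r) F), Fintype.card F = Nat.card F₀ ^ 2 ∧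
    Cfsg.Geo.IsFormRationalStructure (Cfsg.hermForm r F q) F₀ 1 P ∧
    H = Cfsg.Geo.subfieldSubgroup F₀ P ⊓ suGL r F q) ∨
  (∃ p k : ℕ, USympOption H q p k) ∨
  Cfsg.Geo.InUnitaryResidualClass H

variable {σ : F ≃+* F} {H : Subgroup (GL (Fin r) F)}

theorem mem_stabilizer_of_invariant {W : Submodule F V} (hinv : ∀ g ∈ H, ∀ w ∈ W, (g : Mat) *ᵥ w ∈ W) :
    H ≤ Cfsg.Geo.subspaceStabilizer W := by
  intro g hg v
  refine ⟨hinv g hg v, fun h => ?_⟩
  have := hinv g⁻¹ (H.inv_mem hg) _ h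
  rwa [show Cfsg.glToMat (Fin r) F g *ᵥ v = (g : Mat) *ᵥ v from rfl, TransvMax.inv_mulVec_mulVec] at this

theorem isometry (hH : Cfsg.Geo.IsMaximalIn (suGL r F q) H) {g : GL (Fin r) F} (hg : g ∈ H) (u v : V) :
    Cfsg.hermForm r F q ((g : Mat) *ᵥ u) ((g : Mat) *ᵥ v) = Cfsg.hermForm r F q u v :=
  TransvMax.mem_GU_iff.1 (hH.1.le hg).1 u v

theorem hPerp_invariant (S : USetting r F q σ) (hH : Cfsg.Geo.IsMaximalIn (suGL r F q) H) {W : Submodule F V}
    (hinv : ∀ g ∈ H, ∀ w ∈ W, (g : Mat) *ᵥ w ∈ W) :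
    ∀ g ∈ H, ∀ y ∈ TransvMax.hPerp S.herm W, (g : Mat) *ᵥ y ∈ TransvMax.hPerp S.herm W := by
  intro g hg y hy w hw
  rw [← TransvMax.mulVec_inv_mulVec g w, isometry hH hg]
  exact hy _ (hinv g⁻¹ (H.inv_mem hg) w hw)

theorem reducible_case (S : USetting r F q σ) (hodd : Odd r) (hH : Cfsg.Geo.IsMaximalIn (suGL r F q) H)
    (hirr : ¬ Irr H) : UPrimeCases H q := by
  classical
  obtain ⟨W, hW0, hW1, hinv, hmin⟩ := exists_minimal_invariant hirr
  set P := TransvMax.hPerp S.herm W with hP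
  have hPinv := hPerp_invariant S hH hinv
  rcases hmin (W ⊓ P) (fun g hg w hw => ⟨hinv g hg w hw.1, hPinv g hg w hw.2⟩) inf_le_left with h | h
  · have hnd : Cfsg.Geo.IsNondegenerateOn (Cfsg.hermForm r F q) W := by
      intro w hw hw0
      by_cases hwP : w ∈ P
      · exact absurd (show w ∈ (⊥ : Submodule F V) from h ▸ ⟨hw, hwP⟩) (by simpa using hw0)
      · obtain ⟨x, hx, hx'⟩ : ∃ x ∈ W, Cfsg.hermForm r F q w x ≠ 0 := by
          by_contra hc
          push Not at hc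
          exact hwP hc
        exact ⟨⟨x, hx, fun e => hx' (TransvMax.herm_eq_zero_comm S.herm e)⟩, ⟨x, hx, hx'⟩⟩
    rcases Nat.lt_or_ge (2 * finrank F W) r with h2 | h2
    · exact Or.inr (Or.inl ⟨W, hW0, hnd, h2,
        eq_inf_of_le_su hH (mem_stabilizer_of_invariant hinv) (su_not_le_subspace S hW0 hW1)⟩)
    · have hc := TransvMax.hPerp_nondeg S.herm hnd
      have hP0 : P ≠ ⊥ := fun e => hW1 (by
        have := hc.sup_eq_top
        rwa [← hP, e, sup_bot_eq] at this)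
      have hP1 : P ≠ ⊤ := fun e => hW0 (by
        have := hc.inf_eq_bot
        rwa [← hP, e, inf_top_eq] at this)
      have hdim : finrank F W + finrank F P = r := by
        rw [Submodule.finrank_add_eq_of_isCompl hc, finrank_fintype_fun_eq_card, Fintype.card_fin]
      refine Or.inr (Or.inl ⟨P, hP0, TransvMax.hPerp_isNondeg S.herm hnd, ?_,
        eq_inf_of_le_su hH (mem_stabilizer_of_invariant hPinv) (su_not_le_subspace S hP0 hP1)⟩)
      obtain ⟨m, hm⟩ := hodd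
      omega
  · refine Or.inl ⟨W, hW0, fun u hu v hv => ?_,
      eq_inf_of_le_su hH (mem_stabilizer_of_invariant hinv) (su_not_le_subspace S hW0 hW1)⟩
    exact ((h.ge hu).2 : u ∈ P) v hv

theorem orthogonal_lines (S : USetting r F q σ) (hr : r.Prime) (hH : Cfsg.Geo.IsMaximalIn (suGL r F q) H) (hirr : Irr H)
    {A : Subgroup (GL (Fin r) F)} (hAH : A ≤ H) {b : Basis (Fin r) F V}
    (hdiag : ∀ x ∈ A, ∀ i, ∃ c : F, (x : Mat) *ᵥ b i = c • b i)
    (hinj : ∀ i j, (∀ x ∈ A, ∀ c : F, (x : Mat) *ᵥ b i = c • b i → (x : Mat) *ᵥ b j = c • b j) → i = j)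
    (hperm : ∀ g ∈ H, ∃ (π : Equiv.Perm (Fin r)) (c : Fin r → F), ∀ i, (g : Mat) *ᵥ b i = c i • b (π i)) :
    UPrimeCases H q := by
  classical
  have hdim := S.dim
  have hsm := fun (a c : F) (u v : V) => TransvMax.herm_smul_smul S.herm a c u v
  have huniq : ∀ i j k, Cfsg.hermForm r F q (b i) (b j) ≠ 0 → Cfsg.hermForm r F q (b i) (b k) ≠ 0 → j = k := by
    intro i j k hij hik
    refine hinj j k fun x hx c hc => ?_
    obtain ⟨ci, hi⟩ := hdiag x hx i
    obtain ⟨ck, hk⟩ := hdiag x hx k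
    have h1 := isometry hH (hAH hx) (b i) (b j)
    have h2 := isometry hH (hAH hx) (b i) (b k)
    rw [hi, hc, hsm, ← mul_assoc] at h1
    rw [hi, hk, hsm, ← mul_assoc] at h2
    have e1 := (mul_eq_right₀ hij).1 h1
    have e2 := (mul_eq_right₀ hik).1 h2
    have hci : ci ≠ 0 := fun e => by rw [e, zero_mul] at e1; exact zero_ne_one e1
    rw [hk, show ck = c from σ.injective (mul_left_cancel₀ hci (e2.trans e1.symm))]
  have hex : ∀ i, ∃ j, Cfsg.hermForm r F q (b i) (b j) ≠ 0 := by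
    intro i
    by_contra hc
    push Not at hc
    obtain ⟨-, x, hx⟩ := S.herm.nondegenerate (b i) (b.ne_zero i)
    refine hx ?_
    rw [← b.sum_repr x, (IsSesq.of_unitary S.herm).sum_right]
    exact Finset.sum_eq_zero fun j _ => by rw [(IsSesq.of_unitary S.herm).smul_right, hc j, mul_zero]
  choose τ hτ using hex
  have hττ : ∀ i, τ (τ i) = i := fun i =>
    huniq (τ i) _ _ (hτ (τ i)) (fun e => hτ i (TransvMax.herm_eq_zero_comm S.herm e))
  haveI : Fact (Nat.Prime 2) := ⟨Nat.prime_two⟩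
  let τe : Equiv.Perm (Fin r) := ⟨τ, τ, hττ, hττ⟩
  obtain ⟨i0, hi0⟩ := Equiv.Perm.exists_fixed_point_of_prime (p := 2) (n := 1) (σ := τe)
    (by rw [Fintype.card_fin]; intro h; rcases (Nat.dvd_prime hr).1 h with h | h <;> omega)
    (Equiv.ext fun i => by
      rw [pow_one, pow_two]
      exact hττ i)
  let T : Submodule F V := Submodule.span F (b '' {i | Cfsg.hermForm r F q (b i) (b i) ≠ 0})
  have hT : T = ⊤ := by
    refine (hirr T fun g hg w hw => ?_).resolve_left fun e => b.ne_zero i0 ?_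
    · have h1 := Submodule.mem_map_of_mem (f := Matrix.toLin' (g : Mat)) hw
      rw [Submodule.map_span, Matrix.toLin'_apply] at h1
      refine (Submodule.span_le.2 ?_) h1
      rintro _ ⟨_, ⟨i, hi, rfl⟩, rfl⟩
      obtain ⟨π, c, hc⟩ := hperm g hg
      rw [Matrix.toLin'_apply, hc]
      refine Submodule.smul_mem _ _ (Submodule.subset_span ⟨π i, fun e => hi ?_, rfl⟩)
      rw [← isometry hH hg (b i) (b i), hc, hsm, e, mul_zero, mul_zero]
    · have : b i0 ∈ T := Submodule.subset_span ⟨i0, by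
        have := hτ i0
        rw [show τ i0 = i0 from hi0] at this
        exact this, rfl⟩
      rwa [e, Submodule.mem_bot] at this
  have hself : ∀ i, Cfsg.hermForm r F q (b i) (b i) ≠ 0 := by
    intro i
    have h1 : b i ∈ T := by rw [hT]; trivial
    have h2 := (b.mem_span_image.1 h1) (show i ∈ ((b.repr (b i)).support : Set (Fin r)) by simp)
    exact h2
  have horth : ∀ i j, i ≠ j → Cfsg.hermForm r F q (b i) (b j) = 0 := fun i j hij => by
    by_contra h
    exact hij (huniq i i j (hself i) h)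
  refine Or.inr (Or.inr (Or.inl ⟨fun i => Submodule.span F {b i}, ⟨⟨hr.two_le, one_pos,
    fun i => finrank_span_singleton (b.ne_zero i), b.linearIndependent.iSupIndep_span_singleton, ?_⟩,
    fun i w hw hw0 => ?_, fun i j hij u hu v hv => ?_⟩,
    eq_inf_of_le_su hH (fun g hg => ?_) (su_not_le_lines S b)⟩))
  · rw [← Submodule.span_range_eq_iSup, b.span_eq]
  · obtain ⟨a, rfl⟩ := Submodule.mem_span_singleton.1 hw
    have ha : a ≠ 0 := fun e => hw0 (by rw [e, zero_smul])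
    refine ⟨⟨b i, Submodule.mem_span_singleton_self _, ?_⟩, ⟨b i, Submodule.mem_span_singleton_self _, ?_⟩⟩
    · rw [TransvMax.herm_smul_right S.herm]
      exact mul_ne_zero ((map_ne_zero σ).2 ha) (hself i)
    · rw [S.herm.smul_left]
      exact mul_ne_zero ha (hself i)
  · obtain ⟨a, rfl⟩ := Submodule.mem_span_singleton.1 hu
    obtain ⟨c, rfl⟩ := Submodule.mem_span_singleton.1 hv
    rw [hsm, horth i j hij, mul_zero, mul_zero]
  · obtain ⟨π, c, hc⟩ := hperm g hg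
    refine ⟨π, fun i => ?_⟩
    rw [Submodule.map_span, Set.image_singleton, Matrix.toLin'_apply, hc,
      Submodule.span_singleton_smul_eq (isUnit_iff_ne_zero.2 (monomial_coeff_ne_zero hc i))]

theorem adjoint_closed (S : USetting r F q σ) {A : Subgroup (GL (Fin r) F)} (hA : A ≤ Cfsg.GU r F q) :
    Cfsg.Geo.IsAdjointClosedFor (Cfsg.hermForm r F q) (Algebra.adjoin F (Cfsg.Geo.matrixSet A)) := by
  intro k hk
  induction hk using Algebra.adjoin_induction with
  | mem k hk =>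
    obtain ⟨x, hx, rfl⟩ := hk
    refine ⟨((x⁻¹ : GL (Fin r) F) : Mat), Algebra.subset_adjoin ⟨_, A.inv_mem hx, rfl⟩, fun u v => ?_⟩
    conv_lhs => rw [← TransvMax.mulVec_inv_mulVec x v]
    exact TransvMax.mem_GU_iff.1 (hA hx) _ _
  | algebraMap c =>
    refine ⟨algebraMap F Mat (σ c), Subalgebra.algebraMap_mem _ _, fun u v => ?_⟩
    rw [Algebra.algebraMap_eq_smul_one, Algebra.algebraMap_eq_smul_one, Matrix.smul_mulVec, Matrix.smul_mulVec,
      Matrix.one_mulVec, Matrix.one_mulVec, S.herm.smul_left, TransvMax.herm_smul_right S.herm, S.herm.involutive]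
  | add a b _ _ ha hb =>
    obtain ⟨a', ha', ha''⟩ := ha
    obtain ⟨b', hb', hb''⟩ := hb
    refine ⟨a' + b', add_mem ha' hb', fun u v => ?_⟩
    rw [Matrix.add_mulVec, Matrix.add_mulVec, S.herm.add_left, TransvMax.herm_add_right S.herm, ha'', hb'']
  | mul a b _ _ ha hb =>
    obtain ⟨a', ha', ha''⟩ := ha
    obtain ⟨b', hb', hb''⟩ := hb
    refine ⟨b' * a', mul_mem hb' ha', fun u v => ?_⟩
    rw [← Matrix.mulVec_mulVec, ← Matrix.mulVec_mulVec, ha'', hb'']

theorem rational_case (S : USetting r F q σ) (hr : r.Prime) (hodd : Odd r) (hH : Cfsg.Geo.IsMaximalIn (suGL r F q) H)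
    {N : Subgroup (GL (Fin r) F)} (hNH : N ≤ H) (hNi : Irr N) (hN : ScalarCommutant N)
    (hnorm : ∀ h ∈ H, ∀ x ∈ N, h * x * h⁻¹ ∈ N) {F₀ : Subfield F} (hF₀ : F₀ ≠ ⊤)
    (hreal : Cfsg.Geo.RealisableOver F₀ (Cfsg.Geo.matrixSet N)) : UPrimeCases H q := by
  haveI : NeZero r := ⟨hr.ne_zero⟩
  obtain ⟨F₁, l, P, hl, hcard, hne, hstr, hq, hle⟩ := rational_structure S hodd hNi hN
    (by rintro _ ⟨x, hx, rfl⟩ u v; exact isometry hH (hNH hx) u v) hnorm hF₀ hreal
  have heq := eq_inf_of_le_su hH hle (su_not_le_subfield S hne P)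
  by_cases h2 : l = 2
  · subst h2
    exact Or.inr (Or.inr (Or.inr (Or.inr (Or.inr (Or.inl ⟨hq rfl, F₁, P, hcard, hstr, heq⟩)))))
  · exact Or.inr (Or.inr (Or.inr (Or.inr (Or.inl ⟨F₁, l, P, hl, hl.odd_of_ne_two h2, hcard, hstr, heq⟩))))

theorem symp_case_unitary (S : USetting r F q σ) (hr : r.Prime) (hodd : Odd r)
    (hH : Cfsg.Geo.IsMaximalIn (suGL r F q) H) {N : Subgroup (GL (Fin r) F)} (hN : Heis N) (hNH : N ≤ H)
    (hnorm : ∀ h ∈ H, ∀ x ∈ N, h * x * h⁻¹ ∈ N) : UPrimeCases H q := by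
  classical
  haveI : NeZero r := ⟨hr.ne_zero⟩
  obtain ⟨ω, b, hωr, hω1, hmon⟩ := hN.realise
  have hω0 : ω ≠ 0 := fun e => by rw [e, zero_pow hr.ne_zero] at hωr; exact zero_ne_one hωr
  obtain ⟨p, e, hp, hchar, he, hcard⟩ := exists_char_pow F
  haveI := hchar
  haveI : Fact p.Prime := ⟨hp⟩
  haveI : Fact r.Prime := ⟨hr⟩
  have hord : orderOf ω = r := orderOf_eq_prime hωr hω1
  obtain ⟨k, hk, hq⟩ : ∃ k, e = 2 * k ∧ q = p ^ k := by
    have h1 : q ^ 2 = p ^ e := by rw [← S.card, hcard]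
    obtain ⟨k, -, hk⟩ := (Nat.dvd_prime_pow hp).1 (Dvd.intro_left _ ((pow_two q).symm.trans h1))
    refine ⟨k, ?_, hk⟩
    rw [hk, ← pow_mul] at h1
    rw [mul_comm]
    exact (Nat.pow_right_injective hp.two_le h1).symm
  have hdvd : r ∣ p ^ e - 1 := by
    rw [← hcard, ← hord]
    exact orderOf_dvd_of_pow_eq_one (FiniteField.pow_card_sub_one_eq_one ω hω0)
  by_cases hmin : ∀ d : ℕ, 0 < d → d < e → ¬ r ∣ p ^ d - 1
  · subst hk
    refine Or.inr (Or.inr (Or.inr (Or.inr (Or.inr (Or.inr (Or.inl ⟨p, k, hp, hchar, hq, by omega, hdvd, hmin, N,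
      hN.symp, absIrred_matrixSet hN.irr hN.comm, fun x hx => (hH.1.le (hNH hx)).1, hN.card, hN.card_center, ?_⟩))))))
    refine eq_inf_of_le_su hH (fun h hh => Subgroup.mem_normalizer_iff.2 fun x => ⟨hnorm h hh x, fun hx => ?_⟩)
      (su_not_le_normalizer S hr hN)
    simpa [mul_assoc] using hnorm h⁻¹ (H.inv_mem hh) _ hx
  · push Not at hmin
    obtain ⟨d, hd0, hde, hd⟩ := hmin
    let F₀ : Subfield F := RingHom.eqLocusField (iterateFrobenius F p d) (RingHom.id F)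
    have hmem : ∀ a : F, a ∈ F₀ ↔ a ^ p ^ d = a := fun a => by
      show iterateFrobenius F p d a = a ↔ _
      rw [iterateFrobenius_def]
    have hωF : ω ∈ F₀ := by
      rw [hmem, show p ^ d = (p ^ d - 1) + 1 from (Nat.sub_add_cancel (Nat.one_le_pow _ _ hp.pos)).symm, pow_succ,
        orderOf_dvd_iff_pow_eq_one.1 (by rwa [hord]), one_mul]
    have hF₀ : F₀ ≠ ⊤ := by
      intro e'
      have h1 : 1 < p ^ d := Nat.one_lt_pow hd0.ne' hp.one_lt
      have hne0 : (Polynomial.X ^ p ^ d - Polynomial.X : Polynomial F) ≠ 0 := FiniteField.X_pow_card_sub_X_ne_zero F h1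
      have hsub : (Finset.univ : Finset F) ⊆ (Polynomial.X ^ p ^ d - Polynomial.X : Polynomial F).roots.toFinset :=
        fun a _ => Multiset.mem_toFinset.2 ((Polynomial.mem_roots hne0).2 (by
          simp [(hmem a).1 (e' ▸ Subfield.mem_top a)]))
      have h2 := (Finset.card_le_card hsub).trans ((Multiset.toFinset_card_le _).trans (Polynomial.card_roots' _))
      rw [Finset.card_univ, hcard, FiniteField.X_pow_card_sub_X_natDegree_eq F h1] at h2
      exact absurd ((Nat.pow_le_pow_iff_right hp.one_lt).1 h2) (by omega)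
    refine rational_case S hr hodd hH hNH hN.irr hN.comm hnorm hF₀ ?_
    let P : GL (Fin r) F := TransvMax.glOf b.equivFun.symm
    have hP : ∀ i, (P : Mat) *ᵥ (Pi.single i 1 : V) = b i := fun i => by
      show _ = b i
      rw [TransvMax.glOf_mulVec, Basis.equivFun_symm_apply]
      simp [Pi.single_apply]
    refine ⟨P⁻¹, ?_⟩
    rintro _ ⟨g, hg, rfl⟩ i j
    obtain ⟨π, a, hg'⟩ := hmon g hg
    rw [inv_inv]
    have h1 : (((P⁻¹ : GL (Fin r) F) : Mat) * (g : Mat) * (P : Mat)) *ᵥ (Pi.single j 1 : V) =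
        ω ^ a j • (Pi.single (π j) 1 : V) := by
      rw [← Matrix.mulVec_mulVec, ← Matrix.mulVec_mulVec, hP, hg', Matrix.mulVec_smul, ← hP (π j),
        TransvMax.inv_mulVec_mulVec]
    have h2 := congrFun h1 i
    rw [Matrix.mulVec_single_one, Matrix.col_apply] at h2
    rw [h2, Pi.smul_apply, smul_eq_mul]
    refine F₀.mul_mem (pow_mem hωF _) ?_
    by_cases h : i = π j
    · subst h; rw [Pi.single_eq_same]; exact F₀.one_mem
    · rw [Pi.single_eq_of_ne h]; exact F₀.zero_mem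

/-- Every maximal subgroup is geometric or residual. -/
theorem unitary_prime_dim_cases (hr : r.Prime) (hr5 : 5 ≤ r) (hF : Fintype.card F = q ^ 2)
    (H : Subgroup (GL (Fin r) F)) (hH : Cfsg.Geo.IsMaximalIn (suGL r F q) H) : UPrimeCases H q := by
  classical
  obtain ⟨σ, hσ, hherm⟩ := TransvMax.exists_herm_setting hF r
  have S : USetting r F q σ := ⟨hF, hr5, hσ, hherm⟩
  have hodd : Odd r := hr.odd_of_ne_two (by omega)
  haveI : NeZero r := ⟨hr.ne_zero⟩
  by_cases hirr : Irr H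
  swap
  · exact reducible_case S hodd hH hirr
  have hHs : ¬ H ≤ Cfsg.Geo.scalars (Fin r) F := by
    intro hle
    set u : V := Pi.single 0 1
    have hu : u ≠ 0 := fun e => by simpa [u] using congrFun e 0
    rcases hirr (Submodule.span F {u}) (fun g hg w hw => by
      obtain ⟨c, hc⟩ := (Cfsg.Geo.mem_scalars_iff g).1 (hle hg)
      rw [hc, Matrix.smul_mulVec, Matrix.one_mulVec]
      exact Submodule.smul_mem _ _ hw) with h | h
    · exact hu (by simpa using h)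
    · have h1 := finrank_span_singleton (K := F) hu
      rw [h, finrank_top, finrank_fintype_fun_eq_card, Fintype.card_fin] at h1
      omega
  by_cases hAb : ∀ A : Subgroup (GL (Fin r) F), A ≤ H → (∀ g ∈ H, ∀ x ∈ A, g * x * g⁻¹ ∈ A) →
      (∀ x ∈ A, ∀ y ∈ A, x * y = y * x) → A ≤ Cfsg.Geo.scalars (Fin r) F
  swap
  · push Not at hAb
    obtain ⟨A, hAH, hAn, hAc, hAs⟩ := hAb
    rcases abelian_normal hr hirr hAn hAc hAs with ⟨b, hdiag, hinj, hperm⟩ | ⟨K, hK, rfl, hle⟩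
    · exact orthogonal_lines S hr hH hirr hAH hdiag hinj hperm
    · exact Or.inr (Or.inr (Or.inr (Or.inl ⟨_, hK, adjoint_closed S (fun x hx => (hH.1.le (hAH hx)).1),
        eq_inf_of_le_su hH hle (su_not_le_field S hK)⟩)))
  let Good : ℕ → Prop := fun n => ∃ N : Subgroup (GL (Fin r) F), Nat.card N = n ∧ N ≤ H ∧
    (∀ g ∈ H, ∀ x ∈ N, g * x * g⁻¹ ∈ N) ∧ ¬ N ≤ Cfsg.Geo.scalars (Fin r) F
  have hex : ∃ n, Good n :=
    ⟨_, H, rfl, le_rfl, fun g hg x hx => H.mul_mem (H.mul_mem hg hx) (H.inv_mem hg), hHs⟩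
  obtain ⟨N, hNcard, hNH, hNn, hNs⟩ := Nat.find_spec hex
  have hmin : ∀ R : Subgroup (GL (Fin r) F), R ≤ N → (∀ g ∈ H, ∀ x ∈ R, g * x * g⁻¹ ∈ R) →
      ¬ R ≤ Cfsg.Geo.scalars (Fin r) F → R = N := fun R hR hRn hRs =>
    Subgroup.eq_of_le_of_card_ge hR (by rw [hNcard]; exact Nat.find_min' hex ⟨R, rfl, hR.trans hNH, hRn, hRs⟩)
  by_cases hD : ⁅N, N⁆ ≤ Cfsg.Geo.scalars (Fin r) F
  · refine symp_case_unitary S hr hodd hH
      (heis hr (by omega) hirr hNH hNn hAb hmin hNs fun x hx y hy => ?_) hNH hNn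
    have := hD (Subgroup.commutator_mem_commutator hx hy)
    rwa [commutatorElement_def] at this
  have hperf : ⁅N, N⁆ = N := by
    refine hmin _ (Subgroup.commutator_le.2 fun a ha c hc => ?_) (fun g hg x hx => ?_) hD
    · exact N.mul_mem (N.mul_mem (N.mul_mem ha hc) (N.inv_mem ha)) (N.inv_mem hc)
    · have h1 : g * x * g⁻¹ ∈ ⁅N, N⁆.map (MulAut.conj g).toMonoidHom := ⟨x, hx, rfl⟩
      rw [Subgroup.map_commutator] at h1
      have hle : N.map (MulAut.conj g).toMonoidHom ≤ N := by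
        rintro _ ⟨t, ht, rfl⟩
        exact hNn g hg t ht
      exact Subgroup.commutator_mono hle hle h1
  obtain ⟨hNirr, hNsc, hsimp, hnab, hcen⟩ := residual_core hr hirr hNH hperf hNn hNs hmin
  by_cases hreal : ∃ F₀ : Subfield F, F₀ ≠ ⊤ ∧ Cfsg.Geo.RealisableOver F₀ (Cfsg.Geo.matrixSet N)
  · obtain ⟨F₀, hF₀, h⟩ := hreal
    exact rational_case S hr hodd hH hNH hNirr hNsc hNn hF₀ h
  refine Or.inr (Or.inr (Or.inr (Or.inr (Or.inr (Or.inr (Or.inr ⟨N,
    ⟨hNH, hNn, hperf, hsimp, hnab, hcen, absIrred_matrixSet hNirr hNsc,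
      fun F₀ hF₀ h => hreal ⟨F₀, hF₀, h⟩⟩, ?_, ?_⟩))))))
  · rintro ⟨Q, hQ, hfix⟩
    exact hreal (realisable_of_two_forms S.herm hQ.polar_bilinear hQ.nondegenerate hNsc
      (by rintro _ ⟨x, hx, rfl⟩ u v; exact isometry hH (hNH hx) u v)
      (fun s hs u v => by simp only [QuadraticMap.polar, ← Matrix.mulVec_add, hfix s hs]))
  · rintro ⟨f, hf, -⟩
    exact no_symplectic hodd hf

theorem USympOption.residue (hr : r.Prime) {p k : ℕ} (h : USympOption H q p k) :
    2 * k < r ∧ (p % r) ^ (2 * k) % r = 1 ∧ ∀ d : ℕ, 0 < d → d < 2 * k → (p % r) ^ d % r ≠ 1 := by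
  haveI : Fact r.Prime := ⟨hr⟩
  have hmod : ∀ d : ℕ, r ∣ p ^ d - 1 ↔ (p % r) ^ d % r = 1 := fun d => by
    rw [← Nat.pow_mod, ← Nat.modEq_iff_dvd' (Nat.one_le_pow _ _ h.prime.pos)]
    unfold Nat.ModEq
    rw [Nat.one_mod_eq_one.2 hr.ne_one, eq_comm]
  have hp0 : p % r ≠ 0 := fun e0 => by
    have h1 := (hmod _).1 h.dvd
    rw [e0, zero_pow (by have := h.pos; omega), Nat.zero_mod] at h1
    exact zero_ne_one h1
  refine ⟨?_, (hmod _).1 h.dvd, fun d hd hde e1 => h.minimal d hd hde ((hmod d).2 e1)⟩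
  by_contra hle
  push Not at hle
  refine h.minimal (r - 1) (by have := hr.two_le; omega) (by have := hr.two_le; omega) ((hmod _).2 ?_)
  have hz : ((p % r : ℕ) : ZMod r) ≠ 0 := fun e0 => hp0 (by
    have := (ZMod.natCast_eq_zero_iff (p % r) r).1 e0
    rwa [Nat.dvd_iff_mod_eq_zero, Nat.mod_mod] at this)
  have h2 := congrArg ZMod.val (ZMod.pow_card_sub_one_eq_one hz)
  rw [← Nat.cast_pow, ZMod.val_natCast, ZMod.val_one] at h2
  exact h2

end Cfsg.Agent.PrimeDim
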