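import Cfsg.Agent.Lib.PrimeDim.Symp
import Cfsg.Agent.Lib.PrimeDim.NotLe
import Cfsg.Agent.Lib.TransvMax.UnitaryGen

/-!
The geometric subgroups do not contain the special unitary group of odd prime dimension at least five, and a
maximal subgroup contains the scalars.
-/

set_option autoImplicit false

namespace Cfsg.Agent.PrimeDim

open scoped Matrix MatrixGroups
open Module
open Cfsg.Agent

variable {r q : ℕ} {F : Type*} [Field F] [Fintype F]

local notation "V" => Fin r → F

local notation "Mat" => Matrix (Fin r) (Fin r) F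

/-- The special unitary group inside the general linear group. -/
abbrev suGL (r : ℕ) (F : Type*) [Field F] (q : ℕ) : Subgroup (GL (Fin r) F) :=
  Cfsg.GU r F q ⊓ Cfsg.Geo.specialLinear (Fin r) F

/-- A unitary setting in dimension at least five. -/
structure USetting (r : ℕ) (F : Type*) [Field F] [Fintype F] (q : ℕ) (σ : F ≃+* F) : Prop where
  card : Fintype.card F = q ^ 2
  dim : 5 ≤ r
  pow : ∀ x, σ x = x ^ q
  herm : Cfsg.Geo.IsUnitaryForm σ (Cfsg.hermForm r F q)

variable {σ : F ≃+* F} (S : USetting r F q σ)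

local notation "f₀" => Cfsg.hermForm r F q

include S

/-- An isotropic vector with a given product. -/
theorem exists_iso_one {z : Fin r → F} (hz : z ≠ 0) :
    ∃ x : Fin r → F, Cfsg.hermForm r F q x x = 0 ∧ Cfsg.hermForm r F q x z = 1 := by
  have hv : LinearIndependent F ![z] := by simp [linearIndependent_unique_iff, hz]
  obtain ⟨x, hx, hxv⟩ := TransvMax.exists_iso_values S.herm hv (by rw [Fintype.card_fin]; have := S.dim; omega) ![1]
  exact ⟨x, hx, hxv 0⟩

theorem skew_exists : ∃ e : F, e ≠ 0 ∧ e + σ e = 0 := by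
  obtain ⟨w, hw⟩ : ∃ w, σ w ≠ w := by
    by_contra h
    push Not at h
    exact S.herm.ne_refl (RingEquiv.ext h)
  exact ⟨w - σ w, sub_ne_zero.2 (Ne.symm hw), by rw [map_sub, S.herm.involutive]; ring⟩

/-- A subspace invariant under all transvections is trivial. -/
theorem trv_invariant {W : Submodule F (Fin r → F)}
    (hW : ∀ (u : Fin r → F) (hu : Cfsg.hermForm r F q u u = 0) (e : F), e + σ e = 0 →
      ∀ w ∈ W, ((TransvMax.utrv S.herm hu e : GL (Fin r) F) : Mat) *ᵥ w ∈ W) : W = ⊥ ∨ W = ⊤ := by
  classical
  obtain ⟨e, he0, he⟩ := skew_exists S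
  have hor : ∀ u, Cfsg.hermForm r F q u u = 0 → u ∈ W ∨ ∀ w ∈ W, Cfsg.hermForm r F q w u = 0 := by
    intro u hu
    refine or_iff_not_imp_right.2 fun h => ?_
    push Not at h
    obtain ⟨w, hw, hwu⟩ := h
    have h1 := hW u hu e he w hw
    rw [TransvMax.utrv_mulVec] at h1
    have h2 := W.smul_mem (e * Cfsg.hermForm r F q w u)⁻¹ (W.sub_mem h1 hw)
    rwa [add_sub_cancel_left, smul_smul, inv_mul_cancel₀ (mul_ne_zero he0 hwu), one_smul] at h2
  by_cases hA : ∀ u, Cfsg.hermForm r F q u u = 0 → u ∈ W
  · right
    by_contra hne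
    obtain ⟨z, hz0, hz⟩ : ∃ z, z ≠ 0 ∧ ∀ w ∈ W, Cfsg.hermForm r F q w z = 0 := by
      obtain ⟨x, hx⟩ : ∃ x, x ∉ W := by
        by_contra h
        push Not at h
        exact hne (Submodule.eq_top_iff'.2 h)
      obtain ⟨ψ, hψ⟩ := Submodule.exists_dual_map_eq_bot_of_notMem (p := W) hx inferInstance
      obtain ⟨b, hb⟩ := TransvMax.exists_hermFun S.herm ψ
      refine ⟨b, fun e => hψ.1 ?_, fun w hw => ?_⟩
      · rw [hb, e, TransvMax.herm_zero_right S.herm]
      · rw [← hb]
        have := Submodule.mem_map_of_mem (f := ψ) hw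
        rwa [hψ.2, Submodule.mem_bot] at this
    obtain ⟨x, hx, hxz⟩ := exists_iso_one S hz0
    exact one_ne_zero (hxz.symm.trans (hz x (hA x hx)))
  · left
    push Not at hA
    obtain ⟨u, hu, huW⟩ := hA
    refine eq_bot_iff.2 fun w hw => ?_
    rw [Submodule.mem_bot]
    by_contra hw0
    obtain ⟨x, hx, hxw⟩ := exists_iso_one S hw0
    have hwx : Cfsg.hermForm r F q w x ≠ 0 := by rw [S.herm.herm, hxw, map_one]; exact one_ne_zero
    have hxW : x ∈ W := (hor x hx).resolve_right fun h => hwx (h w hw)
    have huP := (hor u hu).resolve_left huW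
    have hxu : Cfsg.hermForm r F q x u = 0 := huP x hxW
    have hs : Cfsg.hermForm r F q (x + u) (x + u) = 0 := by
      rw [S.herm.add_left, TransvMax.herm_add_right S.herm, TransvMax.herm_add_right S.herm, hx, hu, hxu,
        TransvMax.herm_eq_zero_comm S.herm hxu]
      ring
    rcases hor _ hs with h | h
    · exact huW (by simpa using W.sub_mem h hxW)
    · have := h w hw
      rw [TransvMax.herm_add_right S.herm, huP w hw, add_zero] at this
      exact hwx this

theorem sl_unitary_irr : Irr (suGL r F q) :=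
  fun W hW => trv_invariant S fun u hu e he w hw => hW _ (TransvMax.utrv_mem_guSL S.herm hu he) w hw

theorem su_not_le_subspace {W : Submodule F (Fin r → F)} (h0 : W ≠ ⊥) (h1 : W ≠ ⊤) :
    ¬ suGL r F q ≤ Cfsg.Geo.subspaceStabilizer W := fun hle =>
  (sl_unitary_irr S W fun g hg w hw => ((hle hg) w).1 hw).elim h0 h1

theorem exists_iso_perp {u : Fin r → F} (hu : Cfsg.hermForm r F q u u = 0) (hu0 : u ≠ 0) :
    ∃ x, Cfsg.hermForm r F q x x = 0 ∧ Cfsg.hermForm r F q x u = 0 ∧ x ∉ Submodule.span F {u} := by
  have hdim := S.dim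
  obtain ⟨p, hp, hpp⟩ := TransvMax.exists_aniso_perp S.herm ![u] (by rw [Fintype.card_fin]; omega)
  obtain ⟨w, hw, hww⟩ := TransvMax.exists_aniso_perp S.herm ![u, p] (by rw [Fintype.card_fin]; omega)
  have hpu : Cfsg.hermForm r F q p u = 0 := hp 0
  have hwu : Cfsg.hermForm r F q w u = 0 := hw 0
  have hwp : Cfsg.hermForm r F q w p = 0 := hw 1
  obtain ⟨s, hs⟩ := TransvMax.exists_norm_eq S.herm.ne_refl S.herm.involutive
    (a := -Cfsg.hermForm r F q w w / Cfsg.hermForm r F q p p) (by
      rw [map_div₀, map_neg, ← S.herm.herm, ← S.herm.herm])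
  have hs' : s * σ s * Cfsg.hermForm r F q p p = -Cfsg.hermForm r F q w w := by rw [hs, div_mul_cancel₀ _ hpp]
  refine ⟨s • p + w, ?_, ?_, fun hm => ?_⟩
  · rw [S.herm.add_left, TransvMax.herm_add_right S.herm, TransvMax.herm_add_right S.herm, S.herm.smul_left,
      S.herm.smul_left, TransvMax.herm_smul_right S.herm, TransvMax.herm_smul_right S.herm, hwp,
      TransvMax.herm_eq_zero_comm S.herm hwp]
    linear_combination hs'
  · rw [S.herm.add_left, S.herm.smul_left, hpu, hwu, mul_zero, add_zero]
  · obtain ⟨c, hc⟩ := Submodule.mem_span_singleton.1 hm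
    have h1 := congrArg (fun v => Cfsg.hermForm r F q w v) hc
    simp only [TransvMax.herm_add_right S.herm, TransvMax.herm_smul_right S.herm, hwu, hwp, mul_zero, zero_add] at h1
    exact hww h1.symm

theorem su_not_le_lines (b : Basis (Fin r) F (Fin r → F)) :
    ¬ suGL r F q ≤ Cfsg.Geo.decompositionStabilizer fun i => Submodule.span F {b i} := by
  classical
  intro hle
  have hdim := S.dim
  obtain ⟨e, he0, he⟩ := skew_exists S
  -- the support of an isotropic vector
  have key : ∀ u, Cfsg.hermForm r F q u u = 0 → u ≠ 0 → ∃ i j : Fin r, i ≠ j ∧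
      u ∈ Submodule.span F (Set.range ![b i, b j]) ∧
      ∀ k, k ≠ i → k ≠ j → Cfsg.hermForm r F q (b k) u = 0 := by
    intro u hu hu0
    set T := TransvMax.utrv S.herm hu e
    obtain ⟨π, hπ⟩ := hle (TransvMax.utrv_mem_guSL S.herm hu he)
    have himg : ∀ k, ∃ c : F, (T : Mat) *ᵥ b k = c • b (π k) := fun k => by
      have h1 := (hπ k).le (Submodule.mem_map_of_mem (Submodule.mem_span_singleton_self _))
      rw [Matrix.toLin'_apply] at h1
      obtain ⟨c, hc⟩ := Submodule.mem_span_singleton.1 h1
      exact ⟨c, hc.symm⟩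
    choose c hc using himg
    have hfix : ∀ k, π k = k → Cfsg.hermForm r F q (b k) u ≠ 0 → u ∈ Submodule.span F {b k} := by
      intro k hk hne
      have h1 := hc k
      rw [TransvMax.utrv_mulVec, hk] at h1
      refine Submodule.mem_span_singleton.2 ⟨(e * Cfsg.hermForm r F q (b k) u)⁻¹ * (c k - 1), ?_⟩
      rw [mul_smul, sub_smul, one_smul, ← h1, add_sub_cancel_left, smul_smul,
        inv_mul_cancel₀ (mul_ne_zero he0 hne), one_smul]
    obtain ⟨x, hx, hxu⟩ := exists_iso_one S hu0
    obtain ⟨k0, hk0⟩ : ∃ k, Cfsg.hermForm r F q (b k) u ≠ 0 := by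
      by_contra h
      push Not at h
      obtain ⟨w, hw⟩ := (S.herm.nondegenerate u hu0).1
      refine hw ?_
      have hz : TransvMax.hermFun S.herm u = 0 := b.ext fun k => by simp [TransvMax.hermFun_apply, h k]
      simpa [TransvMax.hermFun_apply] using LinearMap.congr_fun hz w
    have hmov : π k0 ≠ k0 := by
      intro hk
      obtain ⟨a, rfl⟩ := Submodule.mem_span_singleton.1 (hfix k0 hk hk0)
      rw [TransvMax.herm_smul_right S.herm] at hk0
      rw [S.herm.smul_left, TransvMax.herm_smul_right S.herm] at hu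
      exact hk0 (by
        rcases mul_eq_zero.1 hu with h | h
        · simp [h]
        · exact h)
    have hspan : ∀ k, π k ≠ k → u ∈ Submodule.span F (Set.range ![b k, b (π k)]) ∧
        Cfsg.hermForm r F q (b k) u ≠ 0 := by
      intro k hk
      have h1 := hc k
      rw [TransvMax.utrv_mulVec] at h1
      have hne : Cfsg.hermForm r F q (b k) u ≠ 0 := by
        intro h0
        rw [h0, mul_zero, zero_smul, add_zero] at h1
        have h2 := congrArg (fun w => b.repr w k) h1
        simp [Finsupp.single_apply, hk] at h2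
      refine ⟨?_, hne⟩
      have h2 : u = (e * Cfsg.hermForm r F q (b k) u)⁻¹ • (c k • b (π k) - b k) := by
        rw [← h1, add_sub_cancel_left, smul_smul, inv_mul_cancel₀ (mul_ne_zero he0 hne), one_smul]
      rw [h2]
      exact Submodule.smul_mem _ _ (Submodule.sub_mem _ (Submodule.smul_mem _ _ (Submodule.subset_span ⟨1, rfl⟩))
        (Submodule.subset_span ⟨0, rfl⟩))
    obtain ⟨hu1, -⟩ := hspan k0 hmov
    have hrep : ∀ k, k ≠ k0 → k ≠ π k0 → b.repr u k = 0 := by
      intro k h1 h2
      rw [Submodule.mem_span_range_iff_exists_fun] at hu1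
      obtain ⟨a, ha⟩ := hu1
      simp [← ha, Fin.sum_univ_two, Finsupp.single_apply, Ne.symm h1, Ne.symm h2]
    refine ⟨k0, π k0, Ne.symm hmov, hu1, fun k h1 h2 => ?_⟩
    by_contra hne
    by_cases hk : π k = k
    · obtain ⟨a, ha⟩ := Submodule.mem_span_singleton.1 (hfix k hk hne)
      have h3 := hrep k h1 h2
      rw [← ha] at h3
      simp at h3
      exact hu0 (by rw [← ha, h3, zero_smul])
    · obtain ⟨hu2, -⟩ := hspan k hk
      rw [Submodule.mem_span_range_iff_exists_fun] at hu2
      obtain ⟨a, ha⟩ := hu2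
      have hk3 := hrep k h1 h2
      rw [← ha] at hk3
      simp [Fin.sum_univ_two, Finsupp.single_apply, hk, Ne.symm hk] at hk3
      have hu3 : u = a 1 • b (π k) := by rw [← ha]; simp [Fin.sum_univ_two, hk3]
      have ha1 : a 1 ≠ 0 := fun h => hu0 (by rw [hu3, h, zero_smul])
      have e0 : π k = k0 ∨ π k = π k0 := by
        by_contra hcon
        push Not at hcon
        have := hrep (π k) hcon.1 hcon.2
        rw [hu3] at this
        simp at this
        exact ha1 this
      rcases e0 with e0 | e0
      · rw [hu3, e0, S.herm.smul_left, TransvMax.herm_smul_right S.herm] at hu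
        rw [hu3, e0, TransvMax.herm_smul_right S.herm] at hk0
        exact hk0 (by
          rcases mul_eq_zero.1 hu with h | h
          · exact absurd h ha1
          · exact h)
      · exact h1 (π.injective e0)
  obtain ⟨u, hu, hu1⟩ := exists_iso_one S (b.ne_zero ⟨0, by omega⟩)
  have hu0 : u ≠ 0 := fun h => by
    rw [h, TransvMax.herm_zero_left S.herm] at hu1
    exact zero_ne_one hu1
  obtain ⟨x, hx, hxu, hxs⟩ := exists_iso_perp S hu hu0
  have hx0 : x ≠ 0 := fun h => hxs (by rw [h]; exact Submodule.zero_mem _)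
  obtain ⟨i, j, hij, hus, huo⟩ := key u hu hu0
  obtain ⟨k, l, hkl, hxsp, hxo⟩ := key x hx hx0
  -- the coordinates of both vectors
  have hcoord : ∀ v (i j : Fin r), v ∈ Submodule.span F (Set.range ![b i, b j]) →
      ∀ m, m ≠ i → m ≠ j → b.repr v m = 0 := by
    intro v i j hv m h1 h2
    rw [Submodule.mem_span_range_iff_exists_fun] at hv
    obtain ⟨a, ha⟩ := hv
    simp [← ha, Fin.sum_univ_two, Finsupp.single_apply, Ne.symm h1, Ne.symm h2]
  have hfull : ∀ v (i j : Fin r), v ≠ 0 → Cfsg.hermForm r F q v v = 0 → i ≠ j →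
      v ∈ Submodule.span F (Set.range ![b i, b j]) →
      (∀ m, m ≠ i → m ≠ j → Cfsg.hermForm r F q (b m) v = 0) → b.repr v i ≠ 0 := by
    intro v i j hv0 hvv hij hv ho hi
    have hvj : v = b.repr v j • b j := by
      refine b.ext_elem fun m => ?_
      by_cases hm : m = j
      · subst hm; simp
      · by_cases hm' : m = i
        · subst hm'; simp [hi, Finsupp.single_apply, hij.symm]
        · rw [hcoord v i j hv m hm' hm]; simp [Finsupp.single_apply, Ne.symm hm]
    obtain ⟨k, l, hkl, hvs, hvo⟩ := key v hvv hv0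
    -- a multiple of one basis vector has a degenerate support
    have ha : b.repr v j ≠ 0 := fun h => hv0 (by rw [hvj, h, zero_smul])
    have hbj : Cfsg.hermForm r F q (b j) v = 0 := by
      rw [hvj, S.herm.smul_left, TransvMax.herm_smul_right S.herm] at hvv
      rw [hvj, TransvMax.herm_smul_right S.herm]
      exact (mul_eq_zero.1 hvv).resolve_left ha
    have hbi : Cfsg.hermForm r F q (b i) v ≠ 0 := by
      intro hbi
      obtain ⟨w, hw⟩ := (S.herm.nondegenerate v hv0).1
      refine hw ?_
      have hz : TransvMax.hermFun S.herm v = 0 := b.ext fun m => by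
        by_cases hm : m = i
        · subst hm; simpa [TransvMax.hermFun_apply] using hbi
        · by_cases hm' : m = j
          · subst hm'; simpa [TransvMax.hermFun_apply] using hbj
          · simpa [TransvMax.hermFun_apply] using ho m hm hm'
      simpa [TransvMax.hermFun_apply] using LinearMap.congr_fun hz w
    -- the transvection moves the line of `b i`
    set T := TransvMax.utrv S.herm hvv e
    obtain ⟨π, hπ⟩ := hle (TransvMax.utrv_mem_guSL S.herm hvv he)
    have h1 := (hπ i).le (Submodule.mem_map_of_mem (Submodule.mem_span_singleton_self _))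
    rw [Matrix.toLin'_apply, TransvMax.utrv_mulVec] at h1
    obtain ⟨d, hd⟩ := Submodule.mem_span_singleton.1 h1
    have h2 := congrArg (fun w => b.repr w i) hd
    have h3 := congrArg (fun w => b.repr w j) hd
    simp [hi, hij, Finsupp.single_apply] at h2 h3
    by_cases hp : π i = i
    · rw [hp] at h3
      simp [hij] at h3
      exact h3.elim (fun h => h.elim he0 hbi) ha
    · simp [hp] at h2
  have hi0 := hfull u i j hu0 hu hij hus huo
  have hj0 : b.repr u j ≠ 0 := hfull u j i hu0 hu hij.symm (by
    rw [Matrix.range_cons_cons_empty, Set.pair_comm, ← Matrix.range_cons_cons_empty]; exact hus)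
    (fun m h1 h2 => huo m h2 h1)
  have hk0 := hfull x k l hx0 hx hkl hxsp hxo
  have hl0 : b.repr x l ≠ 0 := hfull x l k hx0 hx hkl.symm (by
    rw [Matrix.range_cons_cons_empty, Set.pair_comm, ← Matrix.range_cons_cons_empty]; exact hxsp)
    (fun m h1 h2 => hxo m h2 h1)
  -- their sum is isotropic too
  have hs : Cfsg.hermForm r F q (u + x) (u + x) = 0 := by
    rw [S.herm.add_left, TransvMax.herm_add_right S.herm, TransvMax.herm_add_right S.herm, hx, hu, hxu,
      TransvMax.herm_eq_zero_comm S.herm hxu]
    ring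
  have hsame : ∀ m, m ≠ i → m ≠ j → b.repr x m = 0 := by
    intro m hm1 hm2
    by_contra hm
    have hux0 : u + x ≠ 0 := fun h => hxs (by
      rw [eq_neg_of_add_eq_zero_right h]
      exact Submodule.neg_mem _ (Submodule.mem_span_singleton_self u))
    obtain ⟨a, c, hac, hsum, -⟩ := key _ hs hux0
    have hm' : b.repr (u + x) m ≠ 0 := by
      rw [map_add, Finsupp.add_apply, hcoord u i j hus m hm1 hm2, zero_add]; exact hm
    have hmac : m = a ∨ m = c := by
      by_contra h
      push Not at h
      exact hm' (hcoord _ a c hsum m h.1 h.2)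
    -- whichever basis vectors carry `u`, at most two carry the sum
    have hbad : ∀ n, n ≠ a → n ≠ c → b.repr u n + b.repr x n = 0 := fun n h1 h2 => by
      have := hcoord _ a c hsum n h1 h2
      rwa [map_add, Finsupp.add_apply] at this
    by_cases hik : b.repr x i = 0
    · by_cases hjk : b.repr x j = 0
      · have hi' : i = a ∨ i = c := by
          by_contra h; push Not at h
          have := hbad i h.1 h.2; rw [hik, add_zero] at this; exact hi0 this
        have hj' : j = a ∨ j = c := by
          by_contra h; push Not at h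
          have := hbad j h.1 h.2; rw [hjk, add_zero] at this; exact hj0 this
        rcases hmac with rfl | rfl <;> rcases hi' with h | h <;> rcases hj' with h' | h' <;>
          first | exact hm1 h.symm | exact hm2 h'.symm | exact hij (h.trans h'.symm)
      · -- `x` is supported on `j` and `m`
        have hjkl : j = k ∨ j = l := by
          by_contra h; push Not at h; exact hjk (hcoord x k l hxsp j h.1 h.2)
        have hmkl : m = k ∨ m = l := by
          by_contra h; push Not at h; exact hm (hcoord x k l hxsp m h.1 h.2)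
        have hu_j : Cfsg.hermForm r F q (b i) x = 0 := by
          refine hxo i ?_ ?_ <;> rintro rfl
          · exact hk0 hik
          · exact hl0 hik
        -- orthogonality of `u` and `x` forces a contradiction
        have h1 : Cfsg.hermForm r F q u x =
            b.repr u i * Cfsg.hermForm r F q (b i) x + b.repr u j * Cfsg.hermForm r F q (b j) x := by
          conv_lhs => rw [show u = b.repr u i • b i + b.repr u j • b j from b.ext_elem fun n => by
            by_cases hn : n = i
            · subst hn; simp [Finsupp.single_apply, hij.symm]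
            · by_cases hn' : n = j
              · subst hn'; simp [Finsupp.single_apply, hij]
              · rw [hcoord u i j hus n hn hn']; simp [Finsupp.single_apply, Ne.symm hn, Ne.symm hn']]
          rw [S.herm.add_left, S.herm.smul_left, S.herm.smul_left]
        rw [TransvMax.herm_eq_zero_comm S.herm hxu, hu_j, mul_zero, zero_add] at h1
        have hjx : Cfsg.hermForm r F q (b j) x = 0 := (mul_eq_zero.1 h1.symm).resolve_left hj0
        have hmx : Cfsg.hermForm r F q (b m) x ≠ 0 := by
          intro hmx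
          obtain ⟨w, hw⟩ := (S.herm.nondegenerate x hx0).1
          refine hw ?_
          have hz : TransvMax.hermFun S.herm x = 0 := b.ext fun n => by
            by_cases hn1 : n = j
            · subst hn1; simpa [TransvMax.hermFun_apply] using hjx
            · by_cases hn2 : n = m
              · subst hn2; simpa [TransvMax.hermFun_apply] using hmx
              · simp only [TransvMax.hermFun_apply, LinearMap.zero_apply]
                rcases hjkl with e1 | e1 <;> rcases hmkl with e2 | e2
                · exact absurd (e2.trans e1.symm) hm2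
                · exact hxo n (e1 ▸ hn1) (e2 ▸ hn2)
                · exact hxo n (e2 ▸ hn2) (e1 ▸ hn1)
                · exact absurd (e2.trans e1.symm) hm2
          simpa [TransvMax.hermFun_apply] using LinearMap.congr_fun hz w
        have h2 : Cfsg.hermForm r F q x x = b.repr x m * Cfsg.hermForm r F q (b m) x := by
          conv_lhs => arg 4; rw [show x = b.repr x j • b j + b.repr x m • b m from b.ext_elem fun n => by
            by_cases hn : n = j
            · subst hn; simp [Finsupp.single_apply, hm2]
            · by_cases hn' : n = m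
              · subst hn'; simp [Finsupp.single_apply, hm2.symm]
              · have : b.repr x n = 0 := by
                  rcases hjkl with e1 | e1 <;> rcases hmkl with e2 | e2
                  · exact absurd (e2.trans e1.symm) hm2
                  · exact hcoord x k l hxsp n (e1 ▸ hn) (e2 ▸ hn')
                  · exact hcoord x k l hxsp n (e2 ▸ hn') (e1 ▸ hn)
                  · exact absurd (e2.trans e1.symm) hm2
                rw [this]; simp [Finsupp.single_apply, Ne.symm hn, Ne.symm hn']]
          rw [S.herm.add_left, S.herm.smul_left, S.herm.smul_left, hjx, mul_zero, zero_add]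
        rw [hx] at h2
        exact mul_ne_zero hm hmx h2.symm
    · have hikl : i = k ∨ i = l := by
        by_contra h; push Not at h; exact hik (hcoord x k l hxsp i h.1 h.2)
      have hmkl : m = k ∨ m = l := by
        by_contra h; push Not at h; exact hm (hcoord x k l hxsp m h.1 h.2)
      have hjk : b.repr x j = 0 := by
        refine hcoord x k l hxsp j ?_ ?_ <;> rintro rfl
        · rcases hikl with e | e
          · exact hij e
          · rcases hmkl with e' | e'
            · exact hm2 e'
            · exact hm1 (e'.trans e.symm)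
        · rcases hikl with e | e
          · rcases hmkl with e' | e'
            · exact hm1 (e'.trans e.symm)
            · exact hm2 e'
          · exact hij e
      have hu_j : Cfsg.hermForm r F q (b j) x = 0 := by
        refine hxo j ?_ ?_ <;> rintro rfl
        · exact hk0 hjk
        · exact hl0 hjk
      have h1 : Cfsg.hermForm r F q u x =
          b.repr u i * Cfsg.hermForm r F q (b i) x + b.repr u j * Cfsg.hermForm r F q (b j) x := by
        conv_lhs => rw [show u = b.repr u i • b i + b.repr u j • b j from b.ext_elem fun n => by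
          by_cases hn : n = i
          · subst hn; simp [Finsupp.single_apply, hij.symm]
          · by_cases hn' : n = j
            · subst hn'; simp [Finsupp.single_apply, hij]
            · rw [hcoord u i j hus n hn hn']; simp [Finsupp.single_apply, Ne.symm hn, Ne.symm hn']]
        rw [S.herm.add_left, S.herm.smul_left, S.herm.smul_left]
      rw [TransvMax.herm_eq_zero_comm S.herm hxu, hu_j, mul_zero, add_zero] at h1
      have hix : Cfsg.hermForm r F q (b i) x = 0 := (mul_eq_zero.1 h1.symm).resolve_left hi0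
      have hmx : Cfsg.hermForm r F q (b m) x ≠ 0 := by
        intro hmx
        obtain ⟨w, hw⟩ := (S.herm.nondegenerate x hx0).1
        refine hw ?_
        have hz : TransvMax.hermFun S.herm x = 0 := b.ext fun n => by
          by_cases hn1 : n = i
          · subst hn1; simpa [TransvMax.hermFun_apply] using hix
          · by_cases hn2 : n = m
            · subst hn2; simpa [TransvMax.hermFun_apply] using hmx
            · simp only [TransvMax.hermFun_apply, LinearMap.zero_apply]
              rcases hikl with e1 | e1 <;> rcases hmkl with e2 | e2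
              · exact absurd (e2.trans e1.symm) hm1
              · exact hxo n (e1 ▸ hn1) (e2 ▸ hn2)
              · exact hxo n (e2 ▸ hn2) (e1 ▸ hn1)
              · exact absurd (e2.trans e1.symm) hm1
        simpa [TransvMax.hermFun_apply] using LinearMap.congr_fun hz w
      have h2 : Cfsg.hermForm r F q x x = b.repr x m * Cfsg.hermForm r F q (b m) x := by
        conv_lhs => arg 4; rw [show x = b.repr x i • b i + b.repr x m • b m from b.ext_elem fun n => by
          by_cases hn : n = i
          · subst hn; simp [Finsupp.single_apply, hm1]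
          · by_cases hn' : n = m
            · subst hn'; simp [Finsupp.single_apply, hm1.symm]
            · have : b.repr x n = 0 := by
                rcases hikl with e1 | e1 <;> rcases hmkl with e2 | e2
                · exact absurd (e2.trans e1.symm) hm1
                · exact hcoord x k l hxsp n (e1 ▸ hn) (e2 ▸ hn')
                · exact hcoord x k l hxsp n (e2 ▸ hn') (e1 ▸ hn)
                · exact absurd (e2.trans e1.symm) hm1
              rw [this]; simp [Finsupp.single_apply, Ne.symm hn, Ne.symm hn']]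
        rw [S.herm.add_left, S.herm.smul_left, S.herm.smul_left, hix, mul_zero, zero_add]
      rw [hx] at h2
      exact mul_ne_zero hm hmx h2.symm
  -- both lie in one plane, which is then totally isotropic and contains a vector orthogonal to everything
  have hxd : x = b.repr x i • b i + b.repr x j • b j := b.ext_elem fun n => by
    by_cases hn : n = i
    · subst hn; simp [Finsupp.single_apply, hij.symm]
    · by_cases hn' : n = j
      · subst hn'; simp [Finsupp.single_apply, hij]
      · rw [hsame n hn hn']; simp [Finsupp.single_apply, Ne.symm hn, Ne.symm hn']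
  have hud : u = b.repr u i • b i + b.repr u j • b j := b.ext_elem fun n => by
    by_cases hn : n = i
    · subst hn; simp [Finsupp.single_apply, hij.symm]
    · by_cases hn' : n = j
      · subst hn'; simp [Finsupp.single_apply, hij]
      · rw [hcoord u i j hus n hn hn']; simp [Finsupp.single_apply, Ne.symm hn, Ne.symm hn']
  have e1 : b.repr u i * Cfsg.hermForm r F q (b i) u + b.repr u j * Cfsg.hermForm r F q (b j) u = 0 := by
    rw [← S.herm.smul_left, ← S.herm.smul_left, ← S.herm.add_left, ← hud, hu]
  have e2 : b.repr x i * Cfsg.hermForm r F q (b i) u + b.repr x j * Cfsg.hermForm r F q (b j) u = 0 := by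
    rw [← S.herm.smul_left, ← S.herm.smul_left, ← S.herm.add_left, ← hxd, hxu]
  set D := b.repr u i * b.repr x j - b.repr u j * b.repr x i
  have hD : D ≠ 0 := by
    intro hD
    refine hxs (Submodule.mem_span_singleton.2 ⟨b.repr x i / b.repr u i, ?_⟩)
    conv_lhs => arg 2; rw [hud]
    conv_rhs => rw [hxd]
    rw [smul_add, smul_smul, smul_smul, div_mul_cancel₀ _ hi0]
    congr 2
    field_simp
    linear_combination -hD
  have hbi : Cfsg.hermForm r F q (b i) u = 0 := (mul_eq_zero.1
    (show D * Cfsg.hermForm r F q (b i) u = 0 by linear_combination b.repr x j * e1 - b.repr u j * e2)).resolve_left hD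
  have hbj : Cfsg.hermForm r F q (b j) u = 0 := (mul_eq_zero.1
    (show D * Cfsg.hermForm r F q (b j) u = 0 by linear_combination b.repr u i * e2 - b.repr x i * e1)).resolve_left hD
  obtain ⟨w, hw⟩ := (S.herm.nondegenerate u hu0).1
  refine hw ?_
  have hz : TransvMax.hermFun S.herm u = 0 := b.ext fun m => by
    by_cases hm : m = i
    · subst hm; simpa [TransvMax.hermFun_apply] using hbi
    · by_cases hm' : m = j
      · subst hm'; simpa [TransvMax.hermFun_apply] using hbj
      · simpa [TransvMax.hermFun_apply] using huo m hm hm'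
  simpa [TransvMax.hermFun_apply] using LinearMap.congr_fun hz w

theorem commute_trv_scalar {M : Matrix (Fin r) (Fin r) F}
    (h : ∀ (u : Fin r → F) (hu : Cfsg.hermForm r F q u u = 0) (e : F), e + σ e = 0 →
      M * ((TransvMax.utrv S.herm hu e : GL (Fin r) F) : Mat) = ((TransvMax.utrv S.herm hu e : GL (Fin r) F) : Mat) * M) :
    ∃ c : F, M = c • (1 : Mat) := by
  classical
  have hdim := S.dim
  obtain ⟨e, he0, he⟩ := skew_exists S
  have hr : 0 < r := by omega
  haveI : NeZero r := ⟨hr.ne'⟩
  obtain ⟨z, hz, hz1⟩ := exists_iso_one S (z := Pi.single 0 1) fun h => by simpa using congrFun h 0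
  have hz0 : z ≠ 0 := fun h => by
    rw [h, TransvMax.herm_zero_left S.herm] at hz1
    exact zero_ne_one hz1
  obtain ⟨y, hy⟩ := (S.herm.nondegenerate z hz0).1
  have h1 := congrArg (· *ᵥ y) (h z hz e he)
  simp only [← Matrix.mulVec_mulVec, TransvMax.utrv_mulVec, Matrix.mulVec_add, Matrix.mulVec_smul] at h1
  have h2 := add_left_cancel h1
  set c : F := (e * Cfsg.hermForm r F q y z)⁻¹ * (e * Cfsg.hermForm r F q (M *ᵥ y) z)
  have hMz : M *ᵥ z = c • z := by
    rw [mul_smul, ← h2, smul_smul, inv_mul_cancel₀ (mul_ne_zero he0 hy), one_smul]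
  rcases trv_invariant S (W := LinearMap.ker (Matrix.toLin' (M - c • (1 : Mat)))) (fun u hu e' he' w hw => by
      rw [LinearMap.mem_ker, Matrix.toLin'_apply] at hw ⊢
      rw [Matrix.mulVec_mulVec, show (M - c • (1 : Mat)) * ((TransvMax.utrv S.herm hu e' : GL (Fin r) F) : Mat) =
        ((TransvMax.utrv S.herm hu e' : GL (Fin r) F) : Mat) * (M - c • (1 : Mat)) by
        rw [sub_mul, mul_sub, h u hu e' he', smul_mul_assoc, one_mul, mul_smul_comm, mul_one],
        ← Matrix.mulVec_mulVec, hw, Matrix.mulVec_zero]) with h' | h'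
  · exfalso
    refine hz0 ?_
    have : z ∈ LinearMap.ker (Matrix.toLin' (M - c • (1 : Mat))) := by
      rw [LinearMap.mem_ker, Matrix.toLin'_apply, Matrix.sub_mulVec, hMz, Matrix.smul_mulVec, Matrix.one_mulVec, sub_self]
    rwa [h', Submodule.mem_bot] at this
  · refine ⟨c, sub_eq_zero.1 (Matrix.toLin'.injective ?_)⟩
    rw [LinearMap.ker_eq_top.1 h', map_zero]

theorem su_not_le_field {K : Subalgebra F (Matrix (Fin r) (Fin r) F)} (hK : Cfsg.Geo.IsFieldSubalgebra r K) :
    ¬ suGL r F q ≤ Cfsg.Geo.subalgebraNormalizer K := by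
  intro hle
  have hdim := S.dim
  obtain ⟨k, hk, hks⟩ := field_sub_scalar hK (by omega)
  have hk0 : k ≠ 0 := fun e => hks 0 (by rw [e, zero_smul])
  obtain ⟨kinv, hkinv, hki⟩ := hK.inv k hk hk0
  obtain ⟨c, hc⟩ := commute_trv_scalar S (M := k) fun u hu e he => by
    set t := TransvMax.utrv S.herm hu e
    set φ : Fin r → F := e • TransvMax.hermRow S.herm u
    have hX : (t : Mat) * k * ((t⁻¹ : GL (Fin r) F) : Mat) * kinv - 1 ∈ K :=
      K.sub_mem (K.mul_mem ((hle (TransvMax.utrv_mem_guSL S.herm hu he) k).1 hk) hkinv) K.one_mem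
    set X : Mat := (t : Mat) * k * ((t⁻¹ : GL (Fin r) F) : Mat) * kinv - 1 with hXdef
    by_cases hX0 : X = 0
    · rw [hXdef, sub_eq_zero] at hX0
      have h2 := congrArg (fun M => M * k * (t : Mat)) hX0
      have hki' : kinv * k = 1 := by rw [hK.comm _ hkinv _ hk]; exact hki
      have hti : ((t⁻¹ : GL (Fin r) F) : Mat) * (t : Mat) = 1 := by rw [← Units.val_mul]; simp
      simp only [mul_assoc, one_mul] at h2
      rw [← mul_assoc kinv k, hki', one_mul, hti, mul_one] at h2
      exact h2.symm
    exfalso
    obtain ⟨Y, hY, hXY⟩ := hK.inv X hX hX0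
    let L : (Fin r → F) →ₗ[F] F × F :=
      LinearMap.prod { toFun := fun a => φ ⬝ᵥ (kinv *ᵥ a), map_add' := fun a b => by simp [Matrix.mulVec_add, dotProduct_add],
                       map_smul' := fun a b => by simp [Matrix.mulVec_smul] }
        { toFun := fun a => φ ⬝ᵥ a, map_add' := dotProduct_add φ, map_smul' := fun a b => by simp }
    have hk : LinearMap.ker L ≠ ⊥ := by
      intro e
      have h1 := LinearMap.finrank_le_finrank_of_injective (LinearMap.ker_eq_bot.1 e)
      simp [finrank_fintype_fun_eq_card] at h1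
      omega
    obtain ⟨w, hw, hw0⟩ := Submodule.exists_mem_ne_zero_of_ne_bot hk
    have hw1 : φ ⬝ᵥ (kinv *ᵥ w) = 0 := congrArg Prod.fst hw
    have hw2 : φ ⬝ᵥ w = 0 := congrArg Prod.snd hw
    have hti : ((t⁻¹ : GL (Fin r) F) : Mat) *ᵥ (kinv *ᵥ w) = kinv *ᵥ w := by
      show (1 - Matrix.vecMulVec u φ) *ᵥ _ = _
      rw [Matrix.sub_mulVec, Matrix.one_mulVec, Matrix.vecMulVec_mulVec, op_smul_eq_smul, hw1, zero_smul, sub_zero]
    have hXw : X *ᵥ w = 0 := by
      rw [hXdef, Matrix.sub_mulVec, Matrix.one_mulVec, ← Matrix.mulVec_mulVec, ← Matrix.mulVec_mulVec,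
        ← Matrix.mulVec_mulVec, hti, Matrix.mulVec_mulVec w k kinv, hki, Matrix.one_mulVec]
      show (TransvMax.trv u φ _ : Mat) *ᵥ w - w = 0
      rw [TransvMax.trv_mulVec, hw2, zero_smul, add_zero, sub_self]
    refine hw0 ?_
    rw [← Matrix.one_mulVec w, ← hXY, hK.comm X hX Y hY, ← Matrix.mulVec_mulVec, hXw, Matrix.mulVec_zero]
  exact hks c hc

theorem su_not_le_normalizer (hr : r.Prime) {N : Subgroup (GL (Fin r) F)} (hN : Heis N) :
    ¬ suGL r F q ≤ Cfsg.Geo.subgroupNormalizer N := by
  classical
  intro hle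
  have hdim := S.dim
  haveI : NeZero r := ⟨hr.ne_zero⟩
  have hex : ∀ x ∈ N, x ∈ Cfsg.Geo.scalars (Fin r) F := by
    intro x hx
    obtain ⟨c, hc⟩ := commute_trv_scalar S (M := (x : Mat)) fun u hu e he => by
      set t := TransvMax.utrv S.herm hu e
      set φ : Fin r → F := e • TransvMax.hermRow S.herm u
      set g : GL (Fin r) F := t * (x * t⁻¹ * x⁻¹) with hg
      have hgN : g ∈ N := by
        have h1 : t * x * t⁻¹ ∈ N :=
          ((Subgroup.mem_normalizer_iff.1 (hle (TransvMax.utrv_mem_guSL S.herm hu he))) x).1 hx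
        simpa [hg, mul_assoc] using N.mul_mem h1 (N.inv_mem hx)
      let L : (Fin r → F) →ₗ[F] F × F :=
        LinearMap.prod { toFun := fun a => φ ⬝ᵥ (((x⁻¹ : GL (Fin r) F) : Mat) *ᵥ a),
                         map_add' := fun a b => by simp [Matrix.mulVec_add, dotProduct_add],
                         map_smul' := fun a b => by simp [Matrix.mulVec_smul] }
          { toFun := fun a => φ ⬝ᵥ a, map_add' := dotProduct_add φ, map_smul' := fun a b => by simp }
      set W := LinearMap.ker L with hW
      have hWdim : r - 2 ≤ finrank F W := by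
        have h1 := LinearMap.finrank_range_add_finrank_ker L
        have h2 : finrank F (LinearMap.range L) ≤ 2 := (Submodule.finrank_le _).trans (by simp)
        rw [finrank_fintype_fun_eq_card, Fintype.card_fin] at h1
        show r - 2 ≤ finrank F (LinearMap.ker L)
        omega
      have hgW : ∀ w ∈ W, (g : Mat) *ᵥ w = w := by
        intro w hw
        have hw1 : φ ⬝ᵥ (((x⁻¹ : GL (Fin r) F) : Mat) *ᵥ w) = 0 := congrArg Prod.fst hw
        have hw2 : φ ⬝ᵥ w = 0 := congrArg Prod.snd hw
        have hti : ((t⁻¹ : GL (Fin r) F) : Mat) *ᵥ (((x⁻¹ : GL (Fin r) F) : Mat) *ᵥ w) = ((x⁻¹ : GL (Fin r) F) : Mat) *ᵥ w := by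
          show (1 - Matrix.vecMulVec u φ) *ᵥ _ = _
          rw [Matrix.sub_mulVec, Matrix.one_mulVec, Matrix.vecMulVec_mulVec, op_smul_eq_smul, hw1, zero_smul, sub_zero]
        rw [hg, Units.val_mul, Units.val_mul, Units.val_mul, ← Matrix.mulVec_mulVec, ← Matrix.mulVec_mulVec,
          ← Matrix.mulVec_mulVec, hti, TransvMax.mulVec_inv_mulVec]
        show (TransvMax.trv u φ _ : Mat) *ᵥ w = w
        rw [TransvMax.trv_mulVec, hw2, zero_smul, add_zero]
      suffices hg1 : g = 1 by
        have h1 : t * x = x * t := by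
          calc t * x = g * (x * t) := by rw [hg]; group
            _ = x * t := by rw [hg1, one_mul]
        rw [← Units.val_mul, ← h1, Units.val_mul]
      by_contra hg1
      -- a non-trivial element fixing so much is not scalar, and is moved to a multiple by conjugation
      have hgs : g ∉ Cfsg.Geo.scalars (Fin r) F := by
        intro hgs
        obtain ⟨d, hd⟩ := (Cfsg.Geo.mem_scalars_iff g).1 hgs
        obtain ⟨w, hw, hw0⟩ := Submodule.exists_mem_ne_zero_of_ne_bot (p := W) fun e0 => by
          rw [e0, finrank_bot] at hWdim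
          omega
        have h1 := hgW w hw
        rw [hd, Matrix.smul_mulVec, Matrix.one_mulVec] at h1
        have hd1 : (d : F) = 1 := by
          by_contra hne
          refine hw0 ?_
          have : ((d : F) - 1) • w = 0 := by rw [sub_smul, one_smul, h1, sub_self]
          exact (smul_eq_zero.1 this).resolve_left (sub_ne_zero.2 hne)
        exact hg1 (Units.ext (by rw [hd, hd1, one_smul, Units.val_one]))
      obtain ⟨y, hy, hyg⟩ : ∃ y ∈ N, y * g ≠ g * y := by
        by_contra hcon
        push Not at hcon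
        exact hgs (mem_scalars_of_commutant hr.pos hN.comm fun a ha => (hcon a ha).symm)
      obtain ⟨d, hd⟩ : ∃ d : F, ((y * g * y⁻¹ : GL (Fin r) F) : Mat) = d • (g : Mat) := by
        obtain ⟨ω, b, -, -, hmon⟩ := hN.realise
        -- commutators of the group are scalar
        have hcs : y * g * y⁻¹ * g⁻¹ ∈ Cfsg.Geo.scalars (Fin r) F := heis_comm_scalar hN y hy g hgN
        obtain ⟨d, hd⟩ := (Cfsg.Geo.mem_scalars_iff _).1 hcs
        refine ⟨d, ?_⟩
        rw [show y * g * y⁻¹ = (y * g * y⁻¹ * g⁻¹) * g by group, Units.val_mul, hd, smul_mul_assoc, one_mul]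
      have hd1 : d ≠ 1 := fun e0 => hyg (by
        have h1 : y * g * y⁻¹ = g := Units.ext (by rw [hd, e0, one_smul])
        calc y * g = y * g * y⁻¹ * y := by group
          _ = g * y := by rw [h1])
      have hdisj : W ⊓ gmap y W = ⊥ := by
        refine eq_bot_iff.2 fun w hw => ?_
        have h1 := hgW w hw.1
        have h2 := hgW _ (mem_gmap.1 hw.2)
        have h3 := congrArg ((y : Mat) *ᵥ ·) h2
        simp only [TransvMax.mulVec_inv_mulVec] at h3
        rw [Matrix.mulVec_mulVec, Matrix.mulVec_mulVec, ← Units.val_mul, ← Units.val_mul, hd,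
          Matrix.smul_mulVec, h1] at h3
        rw [Submodule.mem_bot]
        have : (d - 1) • w = 0 := by rw [sub_smul, one_smul, h3, sub_self]
        exact (smul_eq_zero.1 this).resolve_left (sub_ne_zero.2 hd1)
      have h1 := Submodule.finrank_sup_add_finrank_inf_eq W (gmap y W)
      rw [hdisj, finrank_bot, add_zero, finrank_gmap] at h1
      have h2 := Submodule.finrank_le (W ⊔ gmap y W)
      rw [finrank_fintype_fun_eq_card, Fintype.card_fin] at h2
      omega
    exact mem_scalars_of_val hr.pos hc
  have hcc : Subgroup.center N = ⊤ := eq_top_iff.2 fun g _ => Subgroup.mem_center_iff.2 fun a =>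
    Subtype.ext (scalar_comm (hex a a.2) g)
  have h1 := hN.card_center
  rw [hcc, Subgroup.card_top, hN.card] at h1
  have : r ^ 1 < r ^ 3 := Nat.pow_lt_pow_right hr.one_lt (by norm_num)
  rw [pow_one, h1] at this
  exact lt_irrefl _ this

theorem su_not_le_subfield {F₀ : Subfield F} (hF₀ : F₀ ≠ ⊤) (P : GL (Fin r) F) :
    ¬ suGL r F q ≤ Cfsg.Geo.subfieldSubgroup F₀ P := by
  classical
  intro hle
  have hdim := S.dim
  haveI : NeZero r := ⟨by omega⟩
  obtain ⟨e, he0, he⟩ := skew_exists S
  obtain ⟨a, ha⟩ : ∃ a : F, a ∉ F₀ := by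
    by_contra h
    push Not at h
    exact hF₀ (top_unique fun x _ => h x)
  have hline : ∀ u, Cfsg.hermForm r F q u u = 0 → u ≠ 0 →
      ∃ (α : F) (y : Fin r → F₀), α ≠ 0 ∧ α • u = TransvMax.ratEmb F₀ P y := by
    intro u hu hu0
    obtain ⟨c, hc, h⟩ :=
      (TransvMax.mem_subfieldSubgroup_iff F₀ P _).1 (hle (TransvMax.utrv_mem_guSL S.herm hu he))
    set T : Mat := ((TransvMax.utrv S.herm hu e : GL (Fin r) F) : Mat)
    choose m hm using fun j => h (Pi.single j 1)
    set X : Matrix (Fin r) (Fin r) F₀ := fun i j => m j i with hX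
    have hsum : ∀ y : Fin r → F₀, c • (T *ᵥ TransvMax.ratEmb F₀ P y) = TransvMax.ratEmb F₀ P (X *ᵥ y) := by
      intro y
      have hys : TransvMax.ratEmb F₀ P y = ∑ j, (y j : F) • ((P : Mat) *ᵥ (Pi.single j 1 : Fin r → F)) := by
        rw [TransvMax.ratEmb]
        conv_lhs => rw [pi_eq_sum_univ' (fun i => (y i : F)), Matrix.mulVec_sum]
        exact Finset.sum_congr rfl fun j _ => by rw [Matrix.mulVec_smul]
      rw [hys, Matrix.mulVec_sum, Finset.smul_sum, TransvMax.ratEmb]
      have hr' : (fun i => (((X *ᵥ y) i : F₀) : F)) = ∑ j, (y j : F) • fun i => (m j i : F) := by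
        funext i
        simp [Matrix.mulVec, dotProduct, hX, mul_comm]
      rw [hr', Matrix.mulVec_sum]
      refine Finset.sum_congr rfl fun j _ => ?_
      have := hm j
      rw [TransvMax.ratEmb_single] at this
      rw [Matrix.mulVec_smul, Matrix.mulVec_smul, smul_comm, this]
      rfl
    -- the scaling constant is rational
    have hcF : c ∈ F₀ := by
      have hTT : ∀ v, T *ᵥ (T *ᵥ v) = (2 : F) • (T *ᵥ v) - v := by
        intro v
        rw [TransvMax.utrv_mulVec, TransvMax.utrv_mulVec, S.herm.add_left, S.herm.smul_left, hu, mul_zero, add_zero,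
          two_smul]
        abel
      have hq : ∀ i j, (((X * X) i j : F₀) : F) = 2 * c * ((X i j : F₀) : F) - c ^ 2 * if i = j then 1 else 0 := by
        intro i j
        have h1 : TransvMax.ratEmb F₀ P (X *ᵥ (X *ᵥ Pi.single j 1)) =
            (2 * c) • TransvMax.ratEmb F₀ P (X *ᵥ Pi.single j 1) - c ^ 2 • TransvMax.ratEmb F₀ P (Pi.single j 1) := by
          rw [← hsum (X *ᵥ Pi.single j 1), ← hsum (Pi.single j 1), Matrix.mulVec_smul, hTT]
          simp only [smul_sub, smul_smul]
          congr 1 <;> congr 1 <;> ring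
        have h2 := congrArg (fun w => (((P⁻¹ : GL (Fin r) F) : Mat) *ᵥ w) i) h1
        simp only [TransvMax.ratEmb, Matrix.mulVec_sub, Matrix.mulVec_smul, TransvMax.inv_mulVec_mulVec, Pi.sub_apply,
          Pi.smul_apply, smul_eq_mul] at h2
        rw [Matrix.mulVec_mulVec, Matrix.mulVec_single_one, Matrix.col_apply, Matrix.mulVec_single_one, Matrix.col_apply] at h2
        rw [h2]
        congr 2
        by_cases hij : i = j
        · subst hij; simp
        · simp [Pi.single_eq_of_ne hij, hij]
      have hX2 : ∀ i j, i ≠ j → X i j ≠ 0 → (2 * c) ∈ F₀ := by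
        intro i j hij hne
        have h1 := hq i j
        rw [if_neg hij, mul_zero, sub_zero] at h1
        have hne' : ((X i j : F₀) : F) ≠ 0 := fun h0 => hne (Subtype.ext h0)
        rw [show 2 * c = (((X * X) i j : F₀) : F) / ((X i j : F₀) : F) by rw [h1]; field_simp]
        exact F₀.div_mem (SetLike.coe_mem _) (SetLike.coe_mem _)
      have h2c : 2 * c ∈ F₀ := by
        by_cases hdiag : ∀ i j, i ≠ j → X i j = 0
        · -- then all diagonal entries are equal to the constant
          have hd : ∀ i, ((X i i : F₀) : F) = c := by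
            intro i
            have h1 := hq i i
            rw [if_pos rfl, mul_one, Matrix.mul_apply, Finset.sum_eq_single i (fun k _ hk => by rw [hdiag i k hk.symm, zero_mul])
              (fun h => absurd (Finset.mem_univ i) h)] at h1
            rw [MulMemClass.coe_mul] at h1
            have h3 : (((X i i : F₀) : F) - c) ^ 2 = 0 := by linear_combination h1
            exact sub_eq_zero.1 ((pow_eq_zero_iff two_ne_zero).1 h3)
          rw [← hd 0]
          exact F₀.mul_mem (natCast_mem F₀ 2) (SetLike.coe_mem _)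
        · push Not at hdiag
          obtain ⟨i, j, hij, hne⟩ := hdiag
          exact hX2 i j hij hne
      have hc2 : c ^ 2 ∈ F₀ := by
        have h1 := hq 0 0
        rw [if_pos rfl, mul_one] at h1
        rw [show c ^ 2 = 2 * c * ((X 0 0 : F₀) : F) - (((X * X) 0 0 : F₀) : F) by rw [h1]; ring]
        exact F₀.sub_mem (F₀.mul_mem h2c (SetLike.coe_mem _)) (SetLike.coe_mem _)
      by_cases h2 : (2 : F) = 0
      · haveI : Fact (Nat.Prime 2) := ⟨Nat.prime_two⟩
        haveI : CharP F 2 := (CharP.charP_iff_prime_eq_zero Nat.prime_two).2 h2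
        haveI : CharP F₀ 2 := (CharP.charP_iff_prime_eq_zero Nat.prime_two).2 (Subtype.ext h2)
        obtain ⟨s, hs⟩ := (bijective_frobenius F₀ 2).2 ⟨c ^ 2, hc2⟩
        have hs' : (s : F) ^ 2 = c ^ 2 := congrArg Subtype.val hs
        have hsq : ((s : F) - c) ^ 2 = 0 := by rw [sub_pow_char, hs', sub_self]
        rw [← sub_eq_zero.1 ((pow_eq_zero_iff two_ne_zero).1 hsq)]
        exact s.2
      · rw [show c = 2 * c / 2 by field_simp]
        exact F₀.div_mem h2c (natCast_mem F₀ 2)
    -- so the transvection maps rational vectors to rational vectors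
    obtain ⟨j, hj⟩ : ∃ j, Cfsg.hermForm r F q ((P : Mat) *ᵥ Pi.single j 1) u ≠ 0 := by
      by_contra hcon
      push Not at hcon
      obtain ⟨w, hw⟩ := (S.herm.nondegenerate u hu0).1
      refine hw ?_
      have hz : (TransvMax.hermFun S.herm u).comp (Matrix.toLin' (P : Mat)) = 0 :=
        (Pi.basisFun F (Fin r)).ext fun k => by simpa [Matrix.toLin'_apply, TransvMax.hermFun_apply] using hcon k
      have h1 := LinearMap.congr_fun hz (((P⁻¹ : GL (Fin r) F) : Mat) *ᵥ w)
      simpa [Matrix.toLin'_apply, TransvMax.hermFun_apply, TransvMax.mulVec_inv_mulVec] using h1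
    set β : F := Cfsg.hermForm r F q ((P : Mat) *ᵥ Pi.single j 1) u
    refine ⟨c * (e * β), X *ᵥ Pi.single j 1 - (⟨c, hcF⟩ : F₀) • Pi.single j 1, mul_ne_zero hc (mul_ne_zero he0 hj), ?_⟩
    have h1 := hsum (Pi.single j 1)
    rw [TransvMax.ratEmb_single, TransvMax.utrv_mulVec, smul_add, smul_smul] at h1
    rw [sub_eq_add_neg, ← neg_smul, TransvMax.ratEmb_add, TransvMax.ratEmb_smul, TransvMax.ratEmb_single, ← h1]
    show _ = c • _ + _ + (-c) • _
    rw [neg_smul]
    abel
  obtain ⟨u, hu, hu1⟩ := exists_iso_one S (z := Pi.single 0 1) fun h => by simpa using congrFun h 0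
  have hu0 : u ≠ 0 := fun h => by
    rw [h, TransvMax.herm_zero_left S.herm] at hu1
    exact zero_ne_one hu1
  obtain ⟨x, hx, hxu, hxs⟩ := exists_iso_perp S hu hu0
  have hx0 : x ≠ 0 := fun h => hxs (by rw [h]; exact Submodule.zero_mem _)
  obtain ⟨α, y, hα, hy⟩ := hline u hu hu0
  obtain ⟨β, z, hβ, hz⟩ := hline x hx hx0
  -- a combination with an irrational ratio
  set v : Fin r → F := α • u + a • (β • x) with hv
  have hvv : Cfsg.hermForm r F q v v = 0 := by
    rw [hv, smul_smul, S.herm.add_left, TransvMax.herm_add_right S.herm, TransvMax.herm_add_right S.herm,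
      S.herm.smul_left, S.herm.smul_left, S.herm.smul_left, S.herm.smul_left, TransvMax.herm_smul_right S.herm,
      TransvMax.herm_smul_right S.herm, TransvMax.herm_smul_right S.herm, TransvMax.herm_smul_right S.herm,
      hx, hu, hxu, TransvMax.herm_eq_zero_comm S.herm hxu]
    ring
  have hind : ∀ s t : F, s • u + t • x = 0 → s = 0 ∧ t = 0 := by
    intro s t hst
    have ht : t = 0 := by
      by_contra ht
      refine hxs ?_
      have h2 : t • x ∈ Submodule.span F {u} := by
        rw [eq_neg_of_add_eq_zero_right hst]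
        exact Submodule.neg_mem _ (Submodule.smul_mem _ s (Submodule.mem_span_singleton_self u))
      simpa [smul_smul, inv_mul_cancel₀ ht] using Submodule.smul_mem _ t⁻¹ h2
    subst ht
    rw [zero_smul, add_zero, smul_eq_zero] at hst
    exact ⟨hst.resolve_right hu0, rfl⟩
  have hv0 : v ≠ 0 := fun h => hα ((hind α (a * β) (by rw [mul_smul, ← hv, h])).1)
  obtain ⟨γ, w, hγ, hw⟩ := hline v hvv hv0
  obtain ⟨l, hl⟩ : ∃ l : F →ₗ[F₀] F₀, l γ ≠ 0 := by
    by_contra hcon
    push Not at hcon
    exact hγ ((Module.forall_dual_apply_eq_zero_iff F₀ _).1 hcon)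
  have hcoord : ∀ i, (w i : F) = γ * (y i : F) + γ * a * (z i : F) := by
    intro i
    have h1 := congrArg (fun t => (((P⁻¹ : GL (Fin r) F) : Mat) *ᵥ t) i) hw
    rw [hv, smul_add, smul_smul γ a, hy, hz] at h1
    simp only [TransvMax.ratEmb, Matrix.mulVec_add, Matrix.mulVec_smul, TransvMax.inv_mulVec_mulVec, Pi.add_apply,
      Pi.smul_apply, smul_eq_mul] at h1
    exact h1.symm
  -- compare with the projection to the subfield
  obtain ⟨l1, hl1⟩ : ∃ l1 : F →ₗ[F₀] F₀, l1 1 = 1 := by
    obtain ⟨m, hm⟩ : ∃ m : F →ₗ[F₀] F₀, m 1 ≠ 0 := by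
      by_contra hcon
      push Not at hcon
      exact one_ne_zero ((Module.forall_dual_apply_eq_zero_iff F₀ _).1 hcon)
    exact ⟨(m 1)⁻¹ • m, by rw [LinearMap.smul_apply, smul_eq_mul, inv_mul_cancel₀ hm]⟩
  set s : F := γ - (l1 γ : F)
  set t : F := γ * a - (l1 (γ * a) : F)
  have hzero : ∀ i, s * (y i : F) + t * (z i : F) = 0 := by
    intro i
    have h1 : (w i : F₀) = y i * l1 γ + z i * l1 (γ * a) := by
      have h2 := congrArg l1 (hcoord i)
      rw [map_add, show γ * (y i : F) = y i • γ from mul_comm _ _, show γ * a * (z i : F) = z i • (γ * a) from mul_comm _ _,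
        map_smul, map_smul, show ((w i : F)) = w i • (1 : F) from (mul_one _).symm, map_smul, hl1, smul_eq_mul,
        smul_eq_mul, smul_eq_mul, mul_one] at h2
      exact h2
    have h3 := congrArg (fun v : F₀ => (v : F)) h1
    simp only [AddMemClass.coe_add, MulMemClass.coe_mul] at h3
    rw [hcoord i] at h3
    linear_combination h3
  have hst : (s * α) • u + (t * β) • x = 0 := by
    rw [mul_smul, mul_smul, hy, hz, TransvMax.ratEmb, TransvMax.ratEmb, ← Matrix.mulVec_smul, ← Matrix.mulVec_smul,
      ← Matrix.mulVec_add, show (s • fun i => (y i : F)) + (t • fun i => (z i : F)) = 0 from funext hzero,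
      Matrix.mulVec_zero]
  obtain ⟨h1, h2⟩ := hind _ _ hst
  have hs0 : γ = (l1 γ : F) := sub_eq_zero.1 ((mul_eq_zero.1 h1).resolve_right hα)
  have ht0 : γ * a = (l1 (γ * a) : F) := sub_eq_zero.1 ((mul_eq_zero.1 h2).resolve_right hβ)
  refine ha ?_
  rw [show a = γ * a / γ by field_simp, ht0]
  conv => arg 2; arg 2; rw [hs0]
  exact F₀.div_mem (SetLike.coe_mem _) (SetLike.coe_mem _)

theorem su_scalars_le (hr : r.Prime) {H : Subgroup (GL (Fin r) F)}
    (hH : Cfsg.Geo.IsMaximalIn (suGL r F q) H) : Cfsg.Geo.scalars (Fin r) F ⊓ suGL r F q ≤ H := by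
  classical
  haveI : NeZero r := ⟨hr.ne_zero⟩
  set Z := Cfsg.Geo.scalars (Fin r) F ⊓ suGL r F q with hZ
  rcases hH.2 (H ⊔ Z) le_sup_left (sup_le hH.1.le inf_le_right) with h | h
  · rw [← h]; exact le_sup_right
  exfalso
  refine hH.1.not_ge (TransvMax.guSL_le_of_isoCentre S.herm S.card (by have := S.dim; omega) fun u hu => ⟨hu, fun e he => ?_⟩)
  set t := TransvMax.utrv S.herm hu e
  have htm : t ∈ H ⊔ Z := h.ge (TransvMax.utrv_mem_guSL S.herm hu he)
  obtain ⟨hh, hhH, z, hz, hhz⟩ : ∃ hh ∈ H, ∃ z ∈ Z, hh * z = t := by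
    refine Subgroup.closure_induction (p := fun x _ => ∃ hh ∈ H, ∃ z ∈ Z, hh * z = x) ?_
      ⟨1, H.one_mem, 1, Z.one_mem, one_mul 1⟩ ?_ ?_ (by rwa [← Subgroup.sup_eq_closure])
    · rintro x (hx | hx)
      · exact ⟨x, hx, 1, Z.one_mem, mul_one x⟩
      · exact ⟨1, H.one_mem, x, hx, one_mul x⟩
    · rintro x y - - ⟨a, ha, z, hz, rfl⟩ ⟨b, hb, w, hw, rfl⟩
      refine ⟨a * b, H.mul_mem ha hb, z * w, Z.mul_mem hz hw, ?_⟩
      rw [mul_assoc a z, ← mul_assoc z b, scalar_comm hz.1 b]
      group
    · rintro x - ⟨a, ha, z, hz, rfl⟩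
      exact ⟨a⁻¹, H.inv_mem ha, z⁻¹, Z.inv_mem hz, by rw [mul_inv_rev, scalar_comm (Z.inv_mem hz).1]⟩
  obtain ⟨c, hc⟩ := (Cfsg.Geo.mem_scalars_iff z).1 hz.1
  have hcr : (c : F) ^ r = 1 := by
    have h1 := MonoidHom.mem_ker.1 hz.2.2
    rw [Units.ext_iff, Matrix.GeneralLinearGroup.val_det_apply, hc, Matrix.det_smul, Matrix.det_one, mul_one,
      Fintype.card_fin] at h1
    simpa using h1
  by_cases hrF : (r : F) = 0
  · haveI : Fact r.Prime := ⟨hr⟩
    haveI : CharP F r := (CharP.charP_iff_prime_eq_zero hr).2 hrF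
    have hc1 : (c : F) = 1 := sub_eq_zero.1 (eq_zero_of_pow_eq_zero (n := r) (by
      rw [sub_pow_char, hcr, one_pow, sub_self]))
    have : z = 1 := Units.ext (by rw [hc, hc1, one_smul, Units.val_one])
    rw [← hhz, this, mul_one]
    exact hhH
  · obtain ⟨p, hp⟩ := CharP.exists F
    haveI := hp
    have hpp : p.Prime := (CharP.char_is_prime_or_zero F p).resolve_right (CharP.char_ne_zero_of_finite F p)
    have hzr : z ^ r = 1 := Units.ext (by rw [Units.val_pow_eq_pow_val, hc, smul_pow, one_pow, hcr, one_smul, Units.val_one])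
    have htr : t ^ r ∈ H := by
      rw [← hhz, Commute.mul_pow (scalar_comm hz.1 hh).symm, hzr, mul_one]
      exact H.pow_mem hhH r
    have htp : t ^ p = 1 := by
      have hpow : ∀ n : ℕ, ∀ v, ((t ^ n : GL (Fin r) F) : Mat) *ᵥ v = v + ((n : F) * (e * Cfsg.hermForm r F q v u)) • u := by
        intro n
        induction n with
        | zero => intro v; simp
        | succ n ih =>
          intro v
          rw [pow_succ', Units.val_mul, ← Matrix.mulVec_mulVec, ih, TransvMax.utrv_mulVec, S.herm.add_left, S.herm.smul_left,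
            hu, mul_zero, add_zero, Nat.cast_succ, add_mul, one_mul, add_smul]
          abel
      exact TransvMax.gl_ext fun v => by rw [hpow, CharP.cast_eq_zero]; simp
    have hcop : Nat.Coprime r p := (Nat.coprime_primes hr hpp).2 fun e' => hrF (by rw [e']; exact CharP.cast_eq_zero F p)
    have h1 : t = (t ^ r) ^ Nat.gcdA r p := by
      conv_lhs => rw [← pow_one t, ← hcop.gcd_eq_one]
      rw [← zpow_natCast t (Nat.gcd r p), Nat.gcd_eq_gcd_ab, zpow_add, zpow_mul, zpow_mul, zpow_natCast, zpow_natCast,
        htp, one_zpow, mul_one]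
    rw [h1]
    exact H.zpow_mem htr _

end Cfsg.Agent.PrimeDim
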